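import Cfsg.Agent.Lib.Transfer.AltSection.Setup

/-!
Notation for cycles on named points and transitivity of the alternating group on configurations.
-/

namespace Cfsg.Agent.AltSection

open Equiv Equiv.Perm Module

variable {L : Type*} [Field L] {V : Type*} [AddCommGroup V] [Module L V] {r : ℕ}

/-- The three-cycle `a → b → c → a`. -/
def tri (a b c : Fin r) : Perm (Fin r) := swap a b * swap b c

/-- Three distinct points. -/
def Dist (a b c : Fin r) : Prop := a ≠ b ∧ b ≠ c ∧ a ≠ c

theorem Dist.of_emb {m : ℕ} (P : Fin m ↪ Fin r) (i j k : Fin m)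
    (h : i ≠ j ∧ j ≠ k ∧ i ≠ k) : Dist (P i) (P j) (P k) :=
  ⟨P.injective.ne h.1, P.injective.ne h.2.1, P.injective.ne h.2.2⟩

theorem tri_fst {a b c : Fin r} (h : Dist a b c) : tri a b c a = b := by
  obtain ⟨hab, hbc, hac⟩ := h
  rw [tri, Perm.mul_apply, swap_apply_of_ne_of_ne hab hac, swap_apply_left]

theorem tri_snd {a b c : Fin r} (h : Dist a b c) : tri a b c b = c := by
  obtain ⟨hab, hbc, hac⟩ := h
  rw [tri, Perm.mul_apply, swap_apply_left, swap_apply_of_ne_of_ne hac.symm hbc.symm]

theorem tri_thd {a b c : Fin r} : tri a b c c = a := by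
  rw [tri, Perm.mul_apply, swap_apply_right, swap_apply_right]

theorem tri_other {a b c x : Fin r} (ha : x ≠ a) (hb : x ≠ b) (hc : x ≠ c) : tri a b c x = x := by
  rw [tri, Perm.mul_apply, swap_apply_of_ne_of_ne hb hc, swap_apply_of_ne_of_ne ha hb]

theorem isThreeCycle_tri {a b c : Fin r} (h : Dist a b c) : (tri a b c).IsThreeCycle := by
  obtain ⟨hab, hbc, hac⟩ := h
  rw [tri, swap_comm a b]
  exact isThreeCycle_swap_mul_swap_same hab.symm hbc hac

theorem sign_tri {a b c : Fin r} (h : Dist a b c) : sign (tri a b c) = 1 := (isThreeCycle_tri h).sign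

theorem conj_tri (g : Perm (Fin r)) (a b c : Fin r) :
    g * tri a b c * g⁻¹ = tri (g a) (g b) (g c) := by
  have h : ∀ x y, g * swap x y * g⁻¹ = swap (g x) (g y) := fun x y => by
    rw [← Equiv.swap_apply_apply]
  rw [tri, tri, ← h a b, ← h b c]
  group

/-- Sub-configurations. -/
def sub {m l : ℕ} (P : Fin m ↪ Fin r) (i : Fin l → Fin m) (hi : Function.Injective i) :
    Fin l ↪ Fin r := ⟨fun x => P (i x), P.injective.comp hi⟩

@[simp] theorem sub_apply {m l : ℕ} (P : Fin m ↪ Fin r) (i : Fin l → Fin m)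
    (hi : Function.Injective i) (x : Fin l) : sub P i hi x = P (i x) := rfl

theorem exists_config (m : ℕ) (hm : m ≤ r) : Nonempty (Fin m ↪ Fin r) :=
  ⟨Fin.castLEEmb hm⟩

/-- Transitivity on configurations of at most `r - 2` points. -/
theorem Setup.exists_move (D : Setup L V r) {m : ℕ} (hm : m + 2 ≤ r) (P Q : Fin m ↪ Fin r) :
    ∃ g G, D.rel g G ∧ ∀ i, g (P i) = Q i := by
  obtain ⟨g, hg, hgP⟩ := exists_even (fun i => P i) (fun i => Q i) P.injective Q.injective
    (by simpa using hm)
  obtain ⟨G, hG⟩ := D.exists_lift g hg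
  exact ⟨g, G, hG, hgP⟩

/-- A subspace carried into a subspace of the same dimension is carried onto it. -/
theorem map_eq_of_le [FiniteDimensional L V] {G : Module.End L V} (hG : Function.Injective G)
    {A B : Submodule L V} (h : A.map G ≤ B) (hd : finrank L B ≤ finrank L A) : A.map G = B :=
  Submodule.eq_of_le_of_finrank_le h
    (hd.trans (Submodule.equivMapOfInjective G hG A).finrank_eq.le)

theorem le_of_map_le_invariant [FiniteDimensional L V] {G : Module.End L V}
    (hG : Function.Injective G) {A M : Submodule L V} (hM : M.map G ≤ M) (h : A.map G ≤ M) :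
    A ≤ M := by
  have e := map_eq_of_le hG hM le_rfl
  rw [← e] at h
  exact (Submodule.map_le_map_iff_of_injective hG A M).1 h

end Cfsg.Agent.AltSection
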