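import Mathlib.FieldTheory.IsAlgClosed.Basic
import Mathlib.LinearAlgebra.Eigenspace.Triangularizable
import Mathlib.LinearAlgebra.Eigenspace.Pi
import Mathlib.LinearAlgebra.Dimension.DivisionRing
import Mathlib.Tactic

/-!
Simultaneous eigenspaces of commuting operators of finite order coprime to the characteristic,
grouped in blocks, and the count of weights of a given size.
-/

namespace Cfsg.Agent.AltSection

open Module

variable {L : Type*} [Field L] {V : Type*} [AddCommGroup V] [Module L V]

/-- An eigenvalue of an operator of finite order has no Jordan block. -/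
theorem eq_zero_of_eigen_range {T : Module.End L V} {m : ℕ} (hm : (m : L) ≠ 0) (hT : T ^ m = 1)
    {μ : L} {u v : V} (hu : T u - μ • u = v) (hv : T v = μ • v) : v = 0 := by
  by_contra hv0
  have hp : ∀ i : ℕ, (T ^ i) v = μ ^ i • v := by
    intro i
    induction i with
    | zero => simp
    | succ i ih => rw [pow_succ', Module.End.mul_apply, ih, map_smul, hv, smul_smul, ← pow_succ]
  have hμm : μ ^ m = 1 := by
    have := hp m
    rw [hT, Module.End.one_apply] at this
    exact (smul_left_injective L hv0 (show (1 : L) • v = μ ^ m • v by rw [one_smul]; exact this)).symm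
  have hu' : T u = μ • u + v := by rw [← hu]; abel
  have hq : ∀ i : ℕ, (T ^ (i + 1)) u = μ ^ (i + 1) • u + ((i + 1 : ℕ) : L) • μ ^ i • v := by
    intro i
    induction i with
    | zero => simp [hu']
    | succ i ih =>
        rw [pow_succ' T, Module.End.mul_apply, ih, map_add, map_smul, map_smul, map_smul, hu', hv,
          smul_add, smul_smul, smul_smul, smul_smul, ← pow_succ, add_assoc]
        congr 1
        simp only [Nat.cast_add, Nat.cast_one, smul_smul, ← add_smul]
        congr 1
        ring
  obtain ⟨j, rfl⟩ : ∃ j, m = j + 1 := ⟨m - 1, by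
    rcases m with _ | m
    · exact absurd Nat.cast_zero hm
    · omega⟩
  have := hq j
  rw [hT, Module.End.one_apply, hμm, one_smul, left_eq_add] at this
  have hμ0 : μ ≠ 0 := by
    intro h
    rw [h, zero_pow (Nat.succ_ne_zero j)] at hμm
    exact zero_ne_one hμm
  exact hv0 ((smul_eq_zero.1 ((smul_eq_zero.1 this).resolve_left hm)).resolve_left
    (pow_ne_zero j hμ0))

/-- Commuting operators grouped in `k` blocks, with the possible eigenvalue systems of a block
indexed by `C`. -/
structure BlockSys (L V : Type*) [Field L] [AddCommGroup V] [Module L V] (k : ℕ) (A C : Type*) where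
  T : Fin k → A → Module.End L V
  χ : C → A → L
  o : C
  chi_o : ∀ a, χ o a = 1
  chi_inj : Function.Injective χ
  comm : ∀ i a j b, Commute (T i a) (T j b)
  m : ℕ
  m_ne : (m : L) ≠ 0
  pow : ∀ i a, T i a ^ m = 1
  complete : ∀ i (μ : A → L) (v : V), v ≠ 0 → (∀ a, T i a v = μ a • v) → ∃ c, χ c = μ

namespace BlockSys

variable {k : ℕ} {A C : Type*} (B : BlockSys L V k A C)

/-- The weight space of `w`. -/
def W (w : Fin k → C) : Submodule L V :=
  ⨅ p : Fin k × A, Module.End.eigenspace (B.T p.1 p.2) (B.χ (w p.1) p.2)

theorem mem_W {w : Fin k → C} {v : V} :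
    v ∈ B.W w ↔ ∀ i a, B.T i a v = B.χ (w i) a • v := by
  simp [W, Submodule.mem_iInf, Prod.forall]

/-- The subspaces stable under all the operators. -/
def Stable (E : Submodule L V) : Prop := ∀ i a, ∀ v ∈ E, B.T i a v ∈ E

theorem stable_eigenspace (i : Fin k) (a : A) (μ : L) :
    B.Stable (Module.End.eigenspace (B.T i a) μ) := by
  intro j b v hv
  rw [Module.End.mem_eigenspace_iff] at hv ⊢
  rw [← Module.End.mul_apply, (B.comm i a j b).eq, Module.End.mul_apply, hv, map_smul]

theorem stable_inf {E F : Submodule L V} (hE : B.Stable E) (hF : B.Stable F) :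
    B.Stable (E ⊓ F) :=
  fun i a v hv => ⟨hE i a v hv.1, hF i a v hv.2⟩

theorem stable_top : B.Stable ⊤ := fun _ _ _ _ => Submodule.mem_top

theorem independent : iSupIndep B.W := by
  have h : iSupIndep fun μ : Fin k × A → L =>
      ⨅ p : Fin k × A, (B.T p.1 p.2).maxGenEigenspace (μ p) :=
    Module.End.independent_iInf_maxGenEigenspace_of_forall_mapsTo (fun p : Fin k × A => B.T p.1 p.2)
      fun p q φ => Module.End.mapsTo_maxGenEigenspace_of_comm (B.comm p.1 p.2 q.1 q.2).symm φ
  have hinj : Function.Injective fun (w : Fin k → C) (p : Fin k × A) => B.χ (w p.1) p.2 :=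
    fun w w' hww => funext fun i => B.chi_inj (funext fun a => congrFun hww (i, a))
  refine (h.comp hinj).mono fun w => iInf_mono fun p => ?_
  intro v hv
  rw [Module.End.mem_eigenspace_iff] at hv
  exact (Module.End.mem_maxGenEigenspace _ _ _).2 ⟨1, by simp [hv]⟩

variable [FiniteDimensional L V]

theorem finrank_iSup_ge (t : Finset (Fin k → C)) :
    ∑ w ∈ t, finrank L (B.W w) ≤ finrank L (⨆ w ∈ t, B.W w : Submodule L V) := by
  classical
  induction t using Finset.induction with
  | empty => simp
  | insert w t hw ih =>
    rw [Finset.sum_insert hw, Finset.iSup_insert]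
    have h1 := Submodule.finrank_sup_add_finrank_inf_eq (B.W w) (⨆ w ∈ t, B.W w)
    have h2 : B.W w ⊓ (⨆ w ∈ t, B.W w) = ⊥ := by
      refine disjoint_iff.1 ((B.independent w).mono_right ?_)
      exact iSup₂_le fun w' hw' => le_iSup₂ (f := fun j (_ : j ≠ w) => B.W j) w'
        (fun h => hw (h ▸ hw'))
    rw [h2, finrank_bot] at h1
    omega

theorem sum_le (s : Finset (Fin k → C)) : ∑ w ∈ s, finrank L (B.W w) ≤ finrank L V :=
  (B.finrank_iSup_ge s).trans (Submodule.finrank_le _)

theorem sum_le_of_le {E : Submodule L V} (s : Finset (Fin k → C)) (h : ∀ w ∈ s, B.W w ≤ E) :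
    ∑ w ∈ s, finrank L (B.W w) ≤ finrank L E :=
  (B.finrank_iSup_ge s).trans (Submodule.finrank_mono (iSup₂_le h))

theorem stable_le_iSup [IsAlgClosed L] (E : Submodule L V) (hE : B.Stable E) :
    E ≤ ⨆ w : Fin k → C, E ⊓ B.W w := by
  induction hn : finrank L E using Nat.strong_induction_on generalizing E with
  | _ n ih =>
    subst hn
    rcases eq_or_ne E ⊥ with rfl | hE0
    · exact bot_le
    obtain ⟨v₀, hv₀, hv₀0⟩ := (Submodule.ne_bot_iff _).1 hE0
    by_cases hsc : ∀ i a, ∃ μ : L, ∀ v ∈ E, B.T i a v = μ • v
    · choose μ hμ using hsc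
      have hw : ∀ i, ∃ c, B.χ c = μ i := fun i => B.complete i (μ i) v₀ hv₀0 fun a => hμ i a v₀ hv₀
      choose w hw using hw
      refine le_trans (le_inf le_rfl ?_) (le_iSup (fun w => E ⊓ B.W w) w)
      intro v hv
      refine B.mem_W.2 fun i a => ?_
      rw [hw i]; exact hμ i a v hv
    · simp only [not_forall, not_exists] at hsc
      obtain ⟨i, a, hsc⟩ := hsc
      let T : Module.End L V := B.T i a
      let TE : Module.End L E := T.restrict fun v hv => hE i a v hv
      have : Nontrivial E := Submodule.nontrivial_iff_ne_bot.2 hE0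
      obtain ⟨μ, hμ⟩ := Module.End.exists_eigenvalue TE
      obtain ⟨x, hx, hx0⟩ := hμ.exists_hasEigenvector
      have hx' : T (x : V) = μ • (x : V) := congrArg Subtype.val (Module.End.mem_eigenspace_iff.1 hx)
      let N : V →ₗ[L] V := T - μ • LinearMap.id
      let K : Submodule L V := E ⊓ Module.End.eigenspace T μ
      let R : Submodule L V := E.map N
      have hKs : B.Stable K := B.stable_inf hE (B.stable_eigenspace i a μ)
      have hRE : R ≤ E := by
        rintro _ ⟨u, hu, rfl⟩
        exact sub_mem (hE i a u hu) (E.smul_mem μ hu)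
      have hRs : B.Stable R := by
        rintro j b _ ⟨u, hu, rfl⟩
        refine ⟨B.T j b u, hE j b u hu, ?_⟩
        have : T (B.T j b u) = B.T j b (T u) := by
          rw [← Module.End.mul_apply, (B.comm i a j b).eq, Module.End.mul_apply]
        simp [N, this]
      have hKR : K ⊓ R = ⊥ := by
        rw [Submodule.eq_bot_iff]
        rintro v ⟨hvK, u, -, rfl⟩
        exact eq_zero_of_eigen_range B.m_ne (B.pow i a) (u := u) (by simp [N, T])
          (Module.End.mem_eigenspace_iff.1 hvK.2)
      have hdim : finrank L R + finrank L K = finrank L E := by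
        have h1 := LinearMap.finrank_range_add_finrank_ker (N.comp E.subtype)
        have h2 : LinearMap.range (N.comp E.subtype) = R := by
          rw [LinearMap.range_comp, Submodule.range_subtype]
        have h3 : (LinearMap.ker (N.comp E.subtype)).map E.subtype = K := by
          ext v
          simp [K, N, LinearMap.sub_apply, sub_eq_zero, T, and_comm]
        rw [h2] at h1
        rw [← h3, (Submodule.equivMapOfInjective E.subtype E.injective_subtype _).finrank_eq.symm]
        exact h1
      have hK0 : K ≠ ⊥ := by
        intro h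
        have h' : (x : V) ∈ K := ⟨x.2, Module.End.mem_eigenspace_iff.2 hx'⟩
        rw [h] at h'
        exact hx0 (Subtype.ext ((Submodule.mem_bot L).1 h'))
      have hR0 : R ≠ ⊥ := by
        intro h
        obtain ⟨u, hu⟩ := hsc μ
        have h' : N u ∈ R := Submodule.mem_map_of_mem hu.1
        rw [h] at h'
        exact hu.2 (sub_eq_zero.1 (by simpa [N, T] using h'))
      have hK1 : 0 < finrank L K := Nat.pos_of_ne_zero (by rwa [Ne, Submodule.finrank_eq_zero])
      have hR1 : 0 < finrank L R := Nat.pos_of_ne_zero (by rwa [Ne, Submodule.finrank_eq_zero])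
      have hsup : E ≤ K ⊔ R := by
        refine le_of_eq (Submodule.eq_of_le_of_finrank_le (sup_le inf_le_left hRE) ?_).symm
        have := Submodule.finrank_sup_add_finrank_inf_eq K R
        rw [hKR, finrank_bot] at this
        omega
      refine hsup.trans (sup_le ?_ ?_)
      · exact (ih _ (by omega) K hKs rfl).trans
          (iSup_mono fun w => inf_le_inf_right _ inf_le_left)
      · exact (ih _ (by omega) R hRs rfl).trans
          (iSup_mono fun w => inf_le_inf_right _ hRE)

variable [IsAlgClosed L]

/-- A stable subspace meeting no weight space is zero. -/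
theorem eq_bot_of_stable {E : Submodule L V} (hE : B.Stable E)
    (h : ∀ w, E ⊓ B.W w = ⊥) : E = ⊥ :=
  le_bot_iff.1 ((B.stable_le_iSup E hE).trans (iSup_le fun w => (h w).le))

theorem le_iSup_of_stable {E : Submodule L V} (hE : B.Stable E) (s : Finset (Fin k → C))
    (h : ∀ w ∉ s, E ⊓ B.W w = ⊥) : E ≤ ⨆ w ∈ s, B.W w := by
  refine (B.stable_le_iSup E hE).trans (iSup_le fun w => ?_)
  by_cases hw : w ∈ s
  · exact inf_le_right.trans (le_iSup₂ (f := fun w (_ : w ∈ s) => B.W w) w hw)
  · rw [h w hw]; exact bot_le

theorem finrank_le_sum {E : Submodule L V} (hE : B.Stable E) (s : Finset (Fin k → C))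
    (h : ∀ w ∉ s, E ⊓ B.W w = ⊥) : finrank L E ≤ ∑ w ∈ s, finrank L (B.W w) := by
  classical
  refine (Submodule.finrank_mono (B.le_iSup_of_stable hE s h)).trans ?_
  clear h
  induction s using Finset.induction with
  | empty => simp
  | insert w t hw ih =>
    rw [Finset.sum_insert hw, Finset.iSup_insert]
    have h1 := Submodule.finrank_sup_add_finrank_inf_eq (B.W w) (⨆ w ∈ t, B.W w)
    omega

theorem trivial_on {E : Submodule L V} (hE : B.Stable E) (i : Fin k)
    (h : ∀ w, w i ≠ B.o → E ⊓ B.W w = ⊥) (a : A) : ∀ v ∈ E, B.T i a v = v := by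
  intro v hv
  have hle : E ≤ Module.End.eigenspace (B.T i a) 1 := by
    refine (B.stable_le_iSup E hE).trans (iSup_le fun w => ?_)
    by_cases hw : w i = B.o
    · intro u hu
      rw [Module.End.mem_eigenspace_iff, B.mem_W.1 hu.2 i a, hw, B.chi_o]
    · rw [h w hw]; exact bot_le
  simpa using Module.End.mem_eigenspace_iff.1 (hle hv)

/-- Some weight space is nonzero and nontrivial at a block that acts nontrivially. -/
theorem exists_weight {i : Fin k} {a : A} (h : B.T i a ≠ 1) :
    ∃ w, w i ≠ B.o ∧ B.W w ≠ ⊥ := by
  by_contra hne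
  simp only [not_exists, not_and, not_ne_iff] at hne
  refine h (LinearMap.ext fun v => ?_)
  rw [Module.End.one_apply]
  exact B.trivial_on B.stable_top i (fun w hw => by rw [hne w hw, inf_bot_eq]) a v
    Submodule.mem_top

omit [IsAlgClosed L]

/-- Operators normalising the blocks permute the weight spaces. -/
theorem finrank_W_le (π : Equiv.Perm (Fin k)) (f : Fin k → A → A)
    (hf : ∀ i, Function.Surjective (f i)) {G : Module.End L V} (hG : Function.Injective G)
    (hGT : ∀ i a, G * B.T i a = B.T (π i) (f i a) * G) (w w' : Fin k → C)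
    (hw : ∀ i a, B.χ (w' (π i)) (f i a) = B.χ (w i) a) :
    finrank L (B.W w) ≤ finrank L (B.W w') := by
  have hmap : (B.W w).map G ≤ B.W w' := by
    rintro _ ⟨v, hv, rfl⟩
    refine B.mem_W.2 fun j b => ?_
    obtain ⟨i, rfl⟩ := π.surjective j
    obtain ⟨a, rfl⟩ := hf i b
    rw [← Module.End.mul_apply, ← hGT i a, Module.End.mul_apply, B.mem_W.1 hv i a, map_smul,
      hw i a]
  rw [(Submodule.equivMapOfInjective G hG (B.W w)).finrank_eq]
  exact Submodule.finrank_mono hmap

variable [Fintype C] [DecidableEq C]

/-- The blocks at which a weight is nontrivial. -/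
def supp (w : Fin k → C) : Finset (Fin k) := Finset.univ.filter fun i => w i ≠ B.o

omit [FiniteDimensional L V] in
theorem card_supp_eq (j : ℕ) :
    (Finset.univ.filter fun w : Fin k → C => (B.supp w).card = j).card =
      k.choose j * (Fintype.card C - 1) ^ j := by
  classical
  have h1 : ∀ s : Finset (Fin k),
      (Finset.univ.filter fun w : Fin k → C => B.supp w = s).card =
        (Fintype.card C - 1) ^ s.card := by
    intro s
    have e : (Finset.univ.filter fun w : Fin k → C => B.supp w = s) =
        Fintype.piFinset fun i => if i ∈ s then Finset.univ.erase B.o else {B.o} := by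
      ext w
      simp only [Finset.mem_filter, Finset.mem_univ, true_and, Fintype.mem_piFinset, supp,
        Finset.ext_iff]
      refine forall_congr' fun i => ?_
      by_cases hi : i ∈ s <;> simp [hi]
    rw [e, Fintype.card_piFinset]
    have : ∀ i : Fin k, (if i ∈ s then Finset.univ.erase B.o else {B.o}).card =
        if i ∈ s then Fintype.card C - 1 else 1 := by
      intro i
      by_cases hi : i ∈ s <;> simp [hi]
    rw [Finset.prod_congr rfl fun i _ => this i, Finset.prod_ite_mem, Finset.univ_inter,
      Finset.prod_const]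
  rw [Finset.card_eq_sum_card_fiberwise (f := B.supp)
    (t := Finset.powersetCard j (Finset.univ : Finset (Fin k)))]
  · rw [show k.choose j = (Finset.powersetCard j (Finset.univ : Finset (Fin k))).card by simp,
      ← smul_eq_mul, ← Finset.sum_const]
    refine Finset.sum_congr rfl fun s hs => ?_
    rw [Finset.mem_powersetCard] at hs
    rw [Finset.filter_filter]
    have : (Finset.univ.filter fun w : Fin k → C => (B.supp w).card = j ∧ B.supp w = s) =
        Finset.univ.filter fun w : Fin k → C => B.supp w = s := by
      refine Finset.filter_congr fun w _ => ⟨fun h => h.2, fun h => ⟨by rw [h]; exact hs.2, h⟩⟩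
    rw [this, h1, hs.2]
  · intro w hw
    simp only [Finset.coe_filter, Finset.mem_univ, true_and, Set.mem_setOf_eq] at hw
    exact Finset.mem_powersetCard.2 ⟨Finset.subset_univ _, hw⟩

/-- The count of weights: they come in packets of equal dimension. -/
theorem weight_count
    (hsym : ∀ w w', (B.supp w).card = (B.supp w').card → finrank L (B.W w) = finrank L (B.W w'))
    (w : Fin k → C) :
    k.choose (B.supp w).card * (Fintype.card C - 1) ^ (B.supp w).card * finrank L (B.W w)
      ≤ finrank L V := by
  classical
  refine le_trans (le_of_eq ?_)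
    (B.sum_le (Finset.univ.filter fun w' => (B.supp w').card = (B.supp w).card))
  rw [← B.card_supp_eq, ← smul_eq_mul, ← Finset.sum_const]
  refine Finset.sum_congr rfl fun w' hw' => ?_
  exact hsym w w' (Finset.mem_filter.1 hw').2.symm

end BlockSys

end Cfsg.Agent.AltSection
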