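import Cfsg.Agent.Lib.Transfer.AltSection.Setup
import Cfsg.Agent.Lib.Transfer.AltSection.Weights
import Mathlib.NumberTheory.LegendreSymbol.AddCharacter
import Mathlib.RingTheory.RootsOfUnity.AlgebraicallyClosed

/-!
Weight spaces of canonical lifts of disjoint cycles of odd prime length.
-/

namespace Cfsg.Agent.AltSection

open Equiv Equiv.Perm Module

variable {L : Type*} [Field L] {V : Type*} [AddCommGroup V] [Module L V] {r : ℕ}

theorem exists_even_conj {σ σ' : Perm (Fin r)} (h : IsConj σ σ') (hr : σ.support.card + 2 ≤ r) :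
    ∃ g, sign g = 1 ∧ g * σ * g⁻¹ = σ' := by
  obtain ⟨g, hg⟩ := isConj_iff.1 h
  rcases Int.units_eq_one_or (sign g) with h1 | h1
  · exact ⟨g, h1, hg⟩
  · obtain ⟨u, hu, v, hv, huv⟩ := Finset.one_lt_card.1
      (show 1 < σ.supportᶜ.card by rw [Finset.card_compl, Fintype.card_fin]; omega)
    refine ⟨g * swap u v, by rw [map_mul, h1, sign_swap huv]; decide, ?_⟩
    have hcm : swap u v * σ = σ * swap u v := by
      refine (Perm.Disjoint.commute ?_).eq
      intro x
      by_cases hx : x ∈ σ.support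
      · left
        refine swap_apply_of_ne_of_ne ?_ ?_
        · rintro rfl; exact Finset.mem_compl.1 hu hx
        · rintro rfl; exact Finset.mem_compl.1 hv hx
      · exact Or.inr (Perm.notMem_support.1 hx)
    rw [← hg, _root_.mul_inv_rev, mul_assoc g, hcm]
    simp [mul_assoc]

theorem good_of_cycle {ℓ : ℕ} {σ : Perm (Fin r)} (hc : σ.IsCycle) (hcard : σ.support.card = ℓ)
    (hr : ℓ + 2 ≤ r) : Good r ℓ σ := by
  refine ⟨hc, hcard, ?_⟩
  obtain ⟨g, hg, hgσ⟩ := exists_even_conj (σ := σ) (σ' := σ⁻¹)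
    (hc.isConj hc.inv (by rw [support_inv])) (by omega)
  refine ⟨g, hg, ?_⟩
  rw [mul_assoc, show g * σ = σ⁻¹ * g by rw [← hgσ]; simp [mul_assoc], mul_inv_cancel_left]

theorem Good.pow {ℓ a : ℕ} (hℓ : ℓ.Prime) {σ : Perm (Fin r)} (h : Good r ℓ σ) (ha : ¬ ℓ ∣ a)
    (hr : ℓ + 2 ≤ r) : Good r ℓ (σ ^ a) ∧ (σ ^ a).support = σ.support := by
  have hord : orderOf σ = ℓ := by rw [h.cyc.orderOf, h.card]
  have hco : Nat.Coprime a (orderOf σ) := by
    rw [hord]; exact ((hℓ.coprime_iff_not_dvd).2 ha).symm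
  have hs := support_pow_coprime hco
  exact ⟨good_of_cycle ((h.cyc.pow_iff).2 hco) (by rw [hs, h.card]) hr, hs⟩

theorem Canon.pow {D : Setup L V r} {ℓ : ℕ} {σ : Perm (Fin r)} {T : Module.End L V}
    (h : Canon D ℓ σ T) (a : ℕ) : Canon D ℓ (σ ^ a) (T ^ a) := by
  obtain ⟨hT, hTl, s, S, hS, hs, hTS⟩ := h
  refine ⟨D.pow hT a, by rw [← pow_mul, mul_comm, pow_mul, hTl, one_pow], s, S, hS, ?_, ?_⟩
  · induction a with
    | zero => simp
    | succ a ih =>
      calc σ ^ (a + 1) * s * σ ^ (a + 1) = σ ^ a * (σ * s * σ) * σ ^ a := by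
            conv_lhs => arg 2; rw [pow_succ']
            rw [pow_succ]; simp only [mul_assoc]
        _ = s := by rw [hs, ih]
  · induction a with
    | zero => simp
    | succ a ih =>
      calc T ^ (a + 1) * S * T ^ (a + 1) = T ^ a * (T * S * T) * T ^ a := by
            conv_lhs => arg 2; rw [pow_succ']
            rw [pow_succ]; simp only [mul_assoc]
        _ = S := by rw [hTS, ih]

theorem eigenspace_map_le {T T' G : Module.End L V} (h : G * T = T' * G) (μ : L) :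
    (Module.End.eigenspace T μ).map G ≤ Module.End.eigenspace T' μ := by
  rintro _ ⟨v, hv, rfl⟩
  rw [SetLike.mem_coe, Module.End.mem_eigenspace_iff] at hv
  rw [Module.End.mem_eigenspace_iff, ← Module.End.mul_apply, ← h, Module.End.mul_apply, hv,
    map_smul]

variable [IsAlgClosed L] [FiniteDimensional L V]

/-- The eigenspaces of canonical lifts of cycles of one length have the same dimensions. -/
theorem finrank_eigenspace_le_conj (D : Setup L V r) (hr : 8 ≤ r) {ℓ : ℕ} (hℓ : ℓ.Prime)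
    (hℓ2 : ℓ ≠ 2) {σ σ' : Perm (Fin r)} (hr2 : ℓ + 2 ≤ r) (hσ : Good r ℓ σ) (hσ' : Good r ℓ σ')
    {T T' : Module.End L V} (hT : Canon D ℓ σ T) (hT' : Canon D ℓ σ' T') (μ : L) :
    finrank L (Module.End.eigenspace T μ) ≤ finrank L (Module.End.eigenspace T' μ) := by
  obtain ⟨g, hg, hgσ⟩ := exists_even_conj (hσ.cyc.isConj hσ'.cyc (hσ.card.trans hσ'.card.symm))
    (by rw [hσ.card]; exact hr2)
  obtain ⟨G, hG⟩ := D.exists_lift g hg
  have h := Canon.conj hr hℓ hℓ2 hσ hT hG (by rw [hgσ]; exact hT')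
  rw [(Submodule.equivMapOfInjective G (D.injective (by omega) hG) _).finrank_eq]
  exact Submodule.finrank_mono (eigenspace_map_le h μ)

theorem finrank_eigenspace_eq_conj (D : Setup L V r) (hr : 8 ≤ r) {ℓ : ℕ} (hℓ : ℓ.Prime)
    (hℓ2 : ℓ ≠ 2) {σ σ' : Perm (Fin r)} (hr2 : ℓ + 2 ≤ r) (hσ : Good r ℓ σ) (hσ' : Good r ℓ σ')
    {T T' : Module.End L V} (hT : Canon D ℓ σ T) (hT' : Canon D ℓ σ' T') (μ : L) :
    finrank L (Module.End.eigenspace T μ) = finrank L (Module.End.eigenspace T' μ) :=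
  le_antisymm (finrank_eigenspace_le_conj D hr hℓ hℓ2 hr2 hσ hσ' hT hT' μ)
    (finrank_eigenspace_le_conj D hr hℓ hℓ2 hr2 hσ' hσ hT' hT μ)

/-- All nontrivial eigenvalues of a canonical lift of a cycle have the same multiplicity. -/
theorem finrank_eigenspace_le_root (D : Setup L V r) (hr : 8 ≤ r) {ℓ : ℕ} (hℓ : ℓ.Prime)
    (hℓ2 : ℓ ≠ 2) (hℓL : (ℓ : L) ≠ 0) {σ : Perm (Fin r)} (hr2 : ℓ + 2 ≤ r) (hσ : Good r ℓ σ)
    {T : Module.End L V} (hT : Canon D ℓ σ T) {μ ν : L} (hμ : μ ^ ℓ = 1) (hμ1 : μ ≠ 1)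
    (hν : ν ^ ℓ = 1) (hν1 : ν ≠ 1) :
    finrank L (Module.End.eigenspace T μ) ≤ finrank L (Module.End.eigenspace T ν) := by
  have : NeZero (ℓ : L) := ⟨hℓL⟩
  have : NeZero ℓ := ⟨hℓ.ne_zero⟩
  have hprim : ∀ {x : L}, x ^ ℓ = 1 → x ≠ 1 → IsPrimitiveRoot x ℓ := by
    intro x hx hx1
    rw [IsPrimitiveRoot.iff_orderOf]
    exact (Nat.dvd_prime hℓ).1 (orderOf_dvd_of_pow_eq_one hx) |>.resolve_left
      (fun h => hx1 (orderOf_eq_one_iff.1 h))
  obtain ⟨a, -, ha⟩ := (hprim hν hν1).eq_pow_of_pow_eq_one hμ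
  have hna : ¬ ℓ ∣ a := by
    rintro ⟨c, rfl⟩
    rw [pow_mul, hν, one_pow] at ha
    exact hμ1 ha.symm
  obtain ⟨b, -, hb⟩ := (hprim hμ hμ1).eq_pow_of_pow_eq_one hν
  have hab : (σ ^ a) ^ b = σ := by
    have h1 : ν ^ (a * b) = ν := by rw [pow_mul, ha, hb]
    have hν0 : ν ≠ 0 := fun h => by simp [h, hℓ.ne_zero] at hν
    rw [← pow_mul]
    have h2 : a * b ≡ 1 [MOD ℓ] := by
      have := (isOfFinOrder_iff_pow_eq_one.2 ⟨ℓ, hℓ.pos, hν⟩)
      have h3 : ν ^ (a * b) = ν ^ 1 := by rw [pow_one]; exact h1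
      rwa [this.pow_eq_pow_iff_modEq, ← (hprim hν hν1).eq_orderOf] at h3
    conv_rhs => rw [← pow_one σ]
    rw [pow_eq_pow_iff_modEq, hσ.cyc.orderOf, hσ.card]
    exact h2
  obtain ⟨hσa, hsupp⟩ := hσ.pow hℓ hna hr2
  obtain ⟨g, hg, hgσ⟩ := exists_even_conj (hσ.cyc.isConj hσa.cyc (by rw [hsupp]))
    (by rw [hσ.card]; exact hr2)
  obtain ⟨G, hG⟩ := D.exists_lift g hg
  have h := Canon.conj hr hℓ hℓ2 hσ hT hG (by rw [hgσ]; exact hT.pow a)
  rw [(Submodule.equivMapOfInjective G (D.injective (by omega) hG) _).finrank_eq]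
  refine Submodule.finrank_mono ((eigenspace_map_le h μ).trans ?_)
  intro v hv
  rw [Module.End.mem_eigenspace_iff] at hv ⊢
  have hT2 : (T ^ a) ^ b = T :=
    canon_unique D hr hℓ hℓ2 (by rw [hab]; exact hσ) ((hT.pow a).pow b) (by rw [hab]; exact hT)
  have hp : ∀ i : ℕ, ((T ^ a) ^ i) v = μ ^ i • v := by
    intro i
    induction i with
    | zero => simp
    | succ i ih => rw [pow_succ', Module.End.mul_apply, ih, map_smul, hv, smul_smul, ← pow_succ]
  rw [← hb, ← hp b, hT2]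

/-! ### Disjoint cycles -/

section Blocks

variable {k ℓ : ℕ} [Fact ℓ.Prime] (b : Fin k × ZMod ℓ ↪ Fin r)

/-- The rotation by `a` inside block `i`. -/
noncomputable def rot (i : Fin k) (a : ZMod ℓ) : Perm (Fin r) :=
  viaEmbeddingHom b (prodExtendRight i (Equiv.addLeft a))

theorem rot_apply (i j : Fin k) (a x : ZMod ℓ) :
    rot b i a (b (j, x)) = b (j, if j = i then a + x else x) := by
  rw [rot, viaEmbeddingHom_apply, viaEmbedding_apply]
  rcases eq_or_ne j i with rfl | h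
  · rw [prodExtendRight_apply_eq, if_pos rfl]; rfl
  · rw [prodExtendRight_apply_ne _ h, if_neg h]

theorem rot_apply_of_notMem (i : Fin k) (a : ZMod ℓ) {y : Fin r} (hy : y ∉ Set.range b) :
    rot b i a y = y := by
  rw [rot, viaEmbeddingHom_apply, viaEmbedding_apply_of_notMem _ _ _ hy]

theorem perm_ext_block {g g' : Perm (Fin r)} (h1 : ∀ p, g (b p) = g' (b p))
    (h2 : ∀ y ∉ Set.range b, g y = g' y) : g = g' := by
  ext y
  by_cases hy : y ∈ Set.range b
  · obtain ⟨p, rfl⟩ := hy; rw [h1 p]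
  · rw [h2 y hy]

theorem rot_zero (i : Fin k) : rot b i 0 = 1 := by
  refine perm_ext_block b (fun p => ?_) (fun y hy => by rw [rot_apply_of_notMem b i 0 hy]; rfl)
  obtain ⟨j, x⟩ := p
  rw [rot_apply, zero_add, ite_self]; rfl

theorem rot_add (i : Fin k) (a a' : ZMod ℓ) : rot b i (a + a') = rot b i a * rot b i a' := by
  refine perm_ext_block b (fun p => ?_) (fun y hy => by
    rw [Perm.mul_apply, rot_apply_of_notMem b i a' hy, rot_apply_of_notMem b i _ hy,
      rot_apply_of_notMem b i _ hy])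
  obtain ⟨j, x⟩ := p
  rw [Perm.mul_apply, rot_apply, rot_apply, rot_apply]
  rcases eq_or_ne j i with rfl | h
  · simp [add_assoc]
  · simp [h]

theorem rot_eq_pow (i : Fin k) (a : ZMod ℓ) : rot b i a = rot b i 1 ^ a.val := by
  have h : ∀ n : ℕ, rot b i (n : ZMod ℓ) = rot b i 1 ^ n := by
    intro n
    induction n with
    | zero => rw [Nat.cast_zero, rot_zero, pow_zero]
    | succ n ih => rw [Nat.cast_succ, rot_add, ih, pow_succ]
  rw [← h, ZMod.natCast_zmod_val]

theorem rot_comm (i j : Fin k) : rot b i 1 * rot b j 1 = rot b j 1 * rot b i 1 := by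
  rcases eq_or_ne i j with rfl | hij
  · rfl
  refine perm_ext_block b (fun p => ?_) (fun y hy => by
    simp only [Perm.mul_apply, rot_apply_of_notMem b _ _ hy])
  obtain ⟨l, x⟩ := p
  simp only [Perm.mul_apply, rot_apply]
  rcases eq_or_ne l i with rfl | h1
  · simp [hij]
  · rcases eq_or_ne l j with rfl | h2
    · simp [hij.symm]
    · simp [h1, h2]

theorem rot_ne_one (i : Fin k) : rot b i 1 ≠ 1 := by
  intro h
  have := DFunLike.congr_fun h (b (i, 0))
  rw [rot_apply, if_pos rfl, add_zero, Perm.one_apply] at this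
  exact one_ne_zero (Prod.ext_iff.1 (b.injective this)).2

theorem good_rot (hr : ℓ + 2 ≤ r) (i : Fin k) : Good r ℓ (rot b i 1) := by
  classical
  refine good_of_cycle ?_ ?_ hr
  · refine ⟨b (i, 0), ?_, fun y hy => ?_⟩
    · rw [rot_apply, if_pos rfl, add_zero]
      intro h
      exact one_ne_zero (Prod.ext_iff.1 (b.injective h)).2
    · by_cases hm : y ∈ Set.range b
      · obtain ⟨⟨j, x⟩, rfl⟩ := hm
        rw [rot_apply] at hy
        have hji : j = i := by
          by_contra h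
          rw [if_neg h] at hy
          exact hy rfl
        subst hji
        refine ⟨(x.val : ℤ), ?_⟩
        rw [zpow_natCast, ← rot_eq_pow, rot_apply, if_pos rfl, add_zero]
      · exact absurd (rot_apply_of_notMem b i 1 hm) hy
  · have : (rot b i 1).support = Finset.univ.map
        ((⟨fun x => (i, x), fun x y h => (Prod.ext_iff.1 h).2⟩ : ZMod ℓ ↪ Fin k × ZMod ℓ).trans b) := by
      ext y
      rw [Perm.mem_support]
      simp only [Finset.mem_map, Finset.mem_univ, true_and, Function.Embedding.trans_apply,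
        Function.Embedding.coeFn_mk]
      constructor
      · intro hy
        by_cases hm : y ∈ Set.range b
        · obtain ⟨⟨j, x⟩, rfl⟩ := hm
          rw [rot_apply] at hy
          rcases eq_or_ne j i with rfl | h
          · exact ⟨x, rfl⟩
          · rw [if_neg h] at hy; exact absurd rfl hy
        · exact absurd (rot_apply_of_notMem b i 1 hm) hy
      · rintro ⟨x, rfl⟩ h
        change rot b i 1 (b (i, x)) = b (i, x) at h
        rw [rot_apply, if_pos rfl] at h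
        exact one_ne_zero (add_eq_right.1 (Prod.ext_iff.1 (b.injective h)).2)
    rw [this, Finset.card_map, Finset.card_univ, ZMod.card]

/-- The point map of a monomial move. -/
noncomputable def blockMove (π : Perm (Fin k)) (u : Fin k → (ZMod ℓ)ˣ) : Perm (Fin k × ZMod ℓ) where
  toFun p := (π p.1, (u p.1 : ZMod ℓ) * p.2)
  invFun p := (π.symm p.1, ((u (π.symm p.1))⁻¹ : (ZMod ℓ)ˣ) * p.2)
  left_inv p := Prod.ext (π.symm_apply_apply p.1)
    ((congrArg (fun i => (((u i)⁻¹ : (ZMod ℓ)ˣ) : ZMod ℓ) * ((u p.1 : ZMod ℓ) * p.2))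
      (π.symm_apply_apply p.1)).trans (Units.inv_mul_cancel_left (u p.1) p.2))
  right_inv p := Prod.ext (π.apply_symm_apply p.1) (Units.mul_inv_cancel_left _ _)

theorem blockMove_apply (π : Perm (Fin k)) (u : Fin k → (ZMod ℓ)ˣ) (i : Fin k) (x : ZMod ℓ) :
    blockMove π u (i, x) = (π i, (u i : ZMod ℓ) * x) := rfl

theorem blockMove_mul (π π₀ : Perm (Fin k)) (u u₀ : Fin k → (ZMod ℓ)ˣ) :
    blockMove π u * blockMove π₀ u₀ = blockMove (π * π₀) (fun i => u (π₀ i) * u₀ i) := by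
  ext p
  · rfl
  · obtain ⟨i, x⟩ := p
    simp [blockMove_apply, Perm.mul_apply, mul_assoc]

theorem sign_blockMove_single (i : Fin k) (c : (ZMod ℓ)ˣ) :
    sign (blockMove (1 : Perm (Fin k)) (Function.update 1 i c)) =
      sign (Units.mulLeft c : Perm (ZMod ℓ)) := by
  rw [← sign_prodExtendRight i (Units.mulLeft c : Perm (ZMod ℓ))]
  congr 1
  refine Equiv.ext fun p => ?_
  obtain ⟨j, x⟩ := p
  rcases eq_or_ne j i with rfl | h
  · rw [blockMove_apply, prodExtendRight_apply_eq]; simp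
  · rw [blockMove_apply, prodExtendRight_apply_ne _ h]; simp [h]

theorem sign_blockMove_swap (hℓ2 : ℓ ≠ 2) {i j : Fin k} (hij : i ≠ j) (c : (ZMod ℓ)ˣ) :
    sign (blockMove (swap i j) (Function.update (Function.update 1 i c) j c⁻¹)) = -1 := by
  classical
  set d : Perm (Fin k × ZMod ℓ) := blockMove 1 (Function.update 1 i c) with hd
  set P : Perm (Fin k × ZMod ℓ) := prodCongrLeft (fun _ => swap i j) with hP
  have e : blockMove (swap i j) (Function.update (Function.update 1 i c) j c⁻¹) * d⁻¹ = d⁻¹ * P →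
      blockMove (swap i j) (Function.update (Function.update 1 i c) j c⁻¹) = d⁻¹ * P * d := by
    intro h
    rw [← h, mul_assoc, inv_mul_cancel, mul_one]
  have h1 : blockMove (swap i j) (Function.update (Function.update 1 i c) j c⁻¹) = d⁻¹ * P * d := by
    rw [mul_assoc, eq_inv_mul_iff_mul_eq]
    refine Equiv.ext fun p => ?_
    obtain ⟨l, x⟩ := p
    simp only [hd, hP, Perm.mul_apply, blockMove_apply, Perm.one_apply, prodCongrLeft_apply]
    rcases eq_or_ne l i with rfl | hli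
    · simp [hij, hij.symm]
    rcases eq_or_ne l j with rfl | hlj
    · simp only [swap_apply_right, Function.update_self, Function.update_of_ne hli, Pi.one_apply,
        Units.val_one, one_mul, Units.mul_inv_cancel_left]
    simp [hli, hlj, swap_apply_of_ne_of_ne hli hlj]
  rw [h1, map_mul, map_mul, map_inv, mul_right_comm, inv_mul_cancel, one_mul, hP,
    sign_prodCongrLeft, Finset.prod_congr rfl fun _ _ => sign_swap hij, Finset.prod_const,
    Finset.card_univ, ZMod.card, (Nat.Prime.odd_of_ne_two Fact.out hℓ2).neg_one_pow]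

variable {b}

theorem conj_rot {π : Perm (Fin k)} {u : Fin k → (ZMod ℓ)ˣ} {g : Perm (Fin r)}
    (hg : ∀ p, g (b p) = b (blockMove π u p)) (i : Fin k) (a : ZMod ℓ) :
    g * rot b i a * g⁻¹ = rot b (π i) ((u i : ZMod ℓ) * a) := by
  rw [mul_inv_eq_iff_eq_mul]
  refine perm_ext_block b (fun p => ?_) (fun y hy => ?_)
  · obtain ⟨j, x⟩ := p
    simp only [Perm.mul_apply, rot_apply, hg, blockMove_apply]
    rcases eq_or_ne j i with rfl | h
    · simp [mul_add]
    · simp [h]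
  · have hgy : g y ∉ Set.range b := by
      rintro ⟨q, hq⟩
      obtain ⟨p, rfl⟩ := (blockMove π u).surjective q
      rw [← hg] at hq
      exact hy ⟨p, g.injective hq⟩
    rw [Perm.mul_apply, Perm.mul_apply, rot_apply_of_notMem b i a hy,
      rot_apply_of_notMem b _ _ hgy]

/-- The weight system of disjoint cycles. -/
structure CycleSys (D : Setup L V r) (b : Fin k × ZMod ℓ ↪ Fin r) where
  B : BlockSys L V k (ZMod ℓ) (ZMod ℓ)
  canon : ∀ i, Canon D ℓ (rot b i 1) (B.T i 1)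
  T_eq : ∀ i a, B.T i a = B.T i 1 ^ a.val
  o_eq : B.o = 0
  ψ : AddChar (ZMod ℓ) L
  χ_eq : ∀ c a, B.χ c a = ψ (c * a)
  ψ_inj : Function.Injective ψ

theorem exists_cycleSys (D : Setup L V r) (hr : 8 ≤ r) (hℓ2 : ℓ ≠ 2) (hℓL : (ℓ : L) ≠ 0)
    (hr2 : ℓ + 2 ≤ r) (b : Fin k × ZMod ℓ ↪ Fin r) : Nonempty (CycleSys D b) := by
  have hℓ : ℓ.Prime := Fact.out
  have : NeZero (ℓ : L) := ⟨hℓL⟩
  choose S hS using fun i => exists_canon D (by omega) (hℓ.odd_of_ne_two hℓ2) (good_rot b hr2 i)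
  obtain ⟨ζ, hζ⟩ := HasEnoughRootsOfUnity.exists_primitiveRoot L ℓ
  let ψ : AddChar (ZMod ℓ) L := AddChar.zmodChar ℓ hζ.pow_eq_one
  have hψ : ∀ a : ZMod ℓ, ψ a = ζ ^ a.val := fun a => AddChar.zmodChar_apply hζ.pow_eq_one a
  have hinj : Function.Injective ψ := fun a a' h => ZMod.val_injective ℓ
    (hζ.pow_inj a.val_lt a'.val_lt (by rwa [hψ, hψ] at h))
  have hcomm : ∀ i j, Commute (S i) (S j) := fun i j =>
    commute_centralizer D hr hℓ hℓ2 (good_rot b hr2 j) (rot_comm b i j)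
      (D.sign_eq (hS i).1) (hS j).1 (hS i).1
  refine ⟨{
    B := {
      T := fun i a => S i ^ a.val
      χ := fun c a => ψ (c * a)
      o := 0
      chi_o := fun a => by simp
      chi_inj := fun c c' h => hinj (by simpa using congrFun h 1)
      comm := fun i a j a' => (hcomm i j).pow_pow a.val a'.val
      m := ℓ
      m_ne := hℓL
      pow := fun i a => by rw [← pow_mul, mul_comm, pow_mul, (hS i).2.1, one_pow]
      complete := ?_ }
    canon := fun i => by simpa [ZMod.val_one] using hS i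
    T_eq := fun i a => by simp [ZMod.val_one]
    o_eq := rfl
    ψ := ψ
    χ_eq := fun c a => rfl
    ψ_inj := hinj }⟩
  intro i μ v hv hμ
  have hμ1 : S i v = μ 1 • v := by simpa [ZMod.val_one] using hμ 1
  have hp : ∀ n : ℕ, (S i ^ n) v = μ 1 ^ n • v := by
    intro n
    induction n with
    | zero => simp
    | succ n ih => rw [pow_succ', Module.End.mul_apply, ih, map_smul, hμ1, smul_smul, ← pow_succ]
  have hμl : μ 1 ^ ℓ = 1 := by
    have := hp ℓ
    rw [(hS i).2.1, Module.End.one_apply] at this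
    exact (smul_left_injective L hv
      (show (1 : L) • v = μ 1 ^ ℓ • v by rw [one_smul]; exact this)).symm
  obtain ⟨n, hn, hnμ⟩ := hζ.eq_pow_of_pow_eq_one hμl
  refine ⟨(n : ZMod ℓ), funext fun a => ?_⟩
  have hcast : (n : ZMod ℓ) * a = ((n * a.val : ℕ) : ZMod ℓ) := by
    rw [Nat.cast_mul, ZMod.natCast_zmod_val]
  refine smul_left_injective L hv (show ψ ((n : ZMod ℓ) * a) • v = μ a • v from ?_)
  rw [← hμ a, hp a.val, hcast, AddChar.zmodChar_apply', pow_mul, hnμ]

namespace CycleSys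

variable {D : Setup L V r} (S : CycleSys D b)

theorem commute_T (i : Fin k) (a : ZMod ℓ) : Canon D ℓ (rot b i a) (S.B.T i a) := by
  rw [rot_eq_pow, S.T_eq]
  exact (S.canon i).pow _

theorem T_ne_one (i : Fin k) : S.B.T i 1 ≠ 1 := by
  intro h
  refine rot_ne_one b i (D.faithful (μ := 1) ?_)
  rw [one_smul, ← h]
  exact (S.canon i).1

theorem finrank_W_le_of_move (hr : 8 ≤ r) (hℓ2 : ℓ ≠ 2) (hr2 : ℓ + 2 ≤ r) (π : Perm (Fin k))
    (u : Fin k → (ZMod ℓ)ˣ) {g : Perm (Fin r)} (hgs : sign g = 1)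
    (hg : ∀ p, g (b p) = b (blockMove π u p)) (w w' : Fin k → ZMod ℓ)
    (hw : ∀ i, w' (π i) * (u i : ZMod ℓ) = w i) :
    finrank L (S.B.W w) ≤ finrank L (S.B.W w') := by
  obtain ⟨G, hG⟩ := D.exists_lift g hgs
  refine S.B.finrank_W_le π (fun i a => (u i : ZMod ℓ) * a)
    (fun i a => ⟨((u i)⁻¹ : (ZMod ℓ)ˣ) * a, Units.mul_inv_cancel_left _ _⟩) (D.injective (by omega) hG)
    (fun i a => ?_) w w' (fun i a => by rw [S.χ_eq, S.χ_eq, ← mul_assoc, hw i])
  rcases eq_or_ne a 0 with rfl | ha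
  · rw [mul_zero, S.T_eq, S.T_eq (π i)]; simp
  refine Canon.conj hr Fact.out hℓ2 ?_ (S.commute_T i a) hG ?_
  · rw [rot_eq_pow]
    refine ((good_rot b hr2 i).pow Fact.out ?_ hr2).1
    intro hd
    exact ha ((ZMod.val_eq_zero a).1 (Nat.eq_zero_of_dvd_of_lt hd a.val_lt))
  · rw [conj_rot hg i a]
    exact S.commute_T _ _

theorem finrank_W_eq (hr : 8 ≤ r) (hℓ2 : ℓ ≠ 2) (hr2 : ℓ + 2 ≤ r)
    (hu : ∃ c : (ZMod ℓ)ˣ, sign (Units.mulLeft c : Perm (ZMod ℓ)) = -1)
    (hk : k * ℓ + 2 ≤ r ∨ 2 ≤ k) (w w' : Fin k → ZMod ℓ)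
    (h : (S.B.supp w).card = (S.B.supp w').card) :
    finrank L (S.B.W w) ≤ finrank L (S.B.W w') := by
  classical
  let e : {i // i ∈ S.B.supp w} ≃ {i // i ∈ S.B.supp w'} := Finset.equivOfCardEq h
  set π : Perm (Fin k) := e.extendSubtype with hπ
  have hmem : ∀ i, π i ∈ S.B.supp w' ↔ i ∈ S.B.supp w := fun i => by
    refine ⟨fun hi => ?_, fun hi => e.extendSubtype_mem i hi⟩
    by_contra hn
    exact e.extendSubtype_not_mem i hn hi
  have hsupp : ∀ (v : Fin k → ZMod ℓ) i, i ∈ S.B.supp v ↔ v i ≠ 0 := fun v i => by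
    simp [BlockSys.supp, S.o_eq]
  obtain ⟨u, huw⟩ : ∃ u : Fin k → (ZMod ℓ)ˣ, ∀ i, w' (π i) * (u i : ZMod ℓ) = w i := by
    refine ⟨fun i => if hi : w i ≠ 0 then Units.mk0 (w i / w' (π i))
      (div_ne_zero hi ((hsupp _ _).1 ((hmem i).2 ((hsupp _ _).2 hi)))) else 1, fun i => ?_⟩
    by_cases hi : w i ≠ 0
    · simp only [dif_pos hi, Units.val_mk0]
      exact mul_div_cancel₀ _ ((hsupp _ _).1 ((hmem i).2 ((hsupp _ _).2 hi)))
    · rw [not_not] at hi
      have : w' (π i) = 0 := by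
        by_contra hn
        exact (hsupp _ _).1 ((hmem i).1 ((hsupp _ _).2 hn)) hi
      simp [hi, this]
  by_cases hsp : k * ℓ + 2 ≤ r
  · obtain ⟨g, hg, hgb⟩ := exists_even (fun p => b p) (fun p => b (blockMove π u p)) b.injective
      (b.injective.comp (blockMove π u).injective)
      (by simpa [Nat.card_eq_fintype_card, ZMod.card] using hsp)
    exact S.finrank_W_le_of_move hr hℓ2 hr2 π u hg hgb w w' huw
  have hk2 : 2 ≤ k := hk.resolve_left hsp
  set g : Perm (Fin r) := (blockMove π u).viaEmbedding b with hg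
  have hgb : ∀ p, g (b p) = b (blockMove π u p) := fun p => viaEmbedding_apply _ _ p
  rcases Int.units_eq_one_or (sign g) with h1 | h1
  · exact S.finrank_W_le_of_move hr hℓ2 hr2 π u h1 hgb w w' huw
  obtain ⟨π₀, u₀, hs0, hw0⟩ : ∃ (π₀ : Perm (Fin k)) (u₀ : Fin k → (ZMod ℓ)ˣ),
      sign (blockMove π₀ u₀) = -1 ∧ ∀ i, w (π₀ i) * (u₀ i : ZMod ℓ) = w i := by
    by_cases hz : ∃ i, w i = 0
    · obtain ⟨i, hi⟩ := hz
      obtain ⟨c, hc⟩ := hu
      refine ⟨1, Function.update 1 i c, by rw [sign_blockMove_single, hc], fun j => ?_⟩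
      rcases eq_or_ne j i with rfl | hj
      · simp [hi]
      · simp [hj]
    · simp only [not_exists] at hz
      have hij : (⟨0, by omega⟩ : Fin k) ≠ ⟨1, by omega⟩ := by simp
      set i : Fin k := ⟨0, by omega⟩
      set j : Fin k := ⟨1, by omega⟩
      refine ⟨swap i j, _, sign_blockMove_swap hℓ2 hij (Units.mk0 (w i / w j)
        (div_ne_zero (hz i) (hz j))), fun l => ?_⟩
      rcases eq_or_ne l i with rfl | hli
      · simp [Function.update_of_ne hij, mul_div_cancel₀ _ (hz j)]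
      rcases eq_or_ne l j with rfl | hlj
      · simp [mul_div_cancel₀ _ (hz i)]
      simp [Function.update_of_ne hli, Function.update_of_ne hlj, swap_apply_of_ne_of_ne hli hlj]
  refine S.finrank_W_le_of_move hr hℓ2 hr2 (π * π₀) (fun i => u (π₀ i) * u₀ i)
    (g := g * (blockMove π₀ u₀).viaEmbedding b) ?_ (fun p => ?_) w w' (fun i => ?_)
  · rw [map_mul, h1]
    have : sign ((blockMove π₀ u₀).viaEmbedding b) = -1 := by
      rw [← hs0]; unfold viaEmbedding; convert sign_extendDomain _ _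
    rw [this]; decide
  · rw [Perm.mul_apply, viaEmbedding_apply, hgb, ← blockMove_mul]; rfl
  · rw [Perm.mul_apply, Units.val_mul, ← mul_assoc, huw, hw0]

/-- When no weight of size at least two fits into the space, every nontrivial eigenspace of a
block is a weight space of size one. -/
theorem small (hr : 8 ≤ r) (hℓ2 : ℓ ≠ 2) (hr2 : ℓ + 2 ≤ r)
    (hu : ∃ c : (ZMod ℓ)ˣ, sign (Units.mulLeft c : Perm (ZMod ℓ)) = -1)
    (hk : k * ℓ + 2 ≤ r ∨ 2 ≤ k)
    (hbig : ∀ w, 2 ≤ (S.B.supp w).card → S.B.W w = ⊥) (i : Fin k) :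
    (∀ c : ZMod ℓ, c ≠ 0 →
      0 < finrank L (Module.End.eigenspace (S.B.T i 1) (S.ψ c)) ∧
      k * (ℓ - 1) * finrank L (Module.End.eigenspace (S.B.T i 1) (S.ψ c)) ≤ finrank L V ∧
      finrank L (Module.End.eigenspace (S.B.T i 1) (S.ψ c)) =
        finrank L (S.B.W (Pi.single i c))) ∧
    ∀ c : ZMod ℓ, c ≠ 0 → ∀ j, j ≠ i → ∀ v ∈ Module.End.eigenspace (S.B.T i 1) (S.ψ c),
      S.B.T j 1 v = v := by
  classical
  have hcard : Fintype.card (ZMod ℓ) = ℓ := ZMod.card ℓ
  have hsym : ∀ w w', (S.B.supp w).card = (S.B.supp w').card →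
      finrank L (S.B.W w) = finrank L (S.B.W w') := fun w w' h =>
    le_antisymm (S.finrank_W_eq hr hℓ2 hr2 hu hk w w' h)
      (S.finrank_W_eq hr hℓ2 hr2 hu hk w' w h.symm)
  have hsingle : ∀ c : ZMod ℓ, c ≠ 0 → S.B.supp (Pi.single i c) = {i} := by
    intro c hc
    ext j
    rcases eq_or_ne j i with rfl | h
    · simp [BlockSys.supp, S.o_eq, hc]
    · simp [BlockSys.supp, S.o_eq, h]
  have hmeet : ∀ (c : ZMod ℓ), c ≠ 0 → ∀ w, w ≠ Pi.single i c →
      Module.End.eigenspace (S.B.T i 1) (S.ψ c) ⊓ S.B.W w = ⊥ := by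
    intro c hc w hw
    rw [Submodule.eq_bot_iff]
    rintro v ⟨hv1, hv2⟩
    by_contra hv0
    have hwi : w i = c := by
      have h1 := S.B.mem_W.1 hv2 i 1
      rw [Module.End.mem_eigenspace_iff.1 hv1, S.χ_eq, mul_one] at h1
      exact S.ψ_inj (smul_left_injective L hv0 h1).symm
    have h2 : ¬ 2 ≤ (S.B.supp w).card := fun h => hv0 (by
      have := hbig w h; rw [this] at hv2; exact (Submodule.mem_bot L).1 hv2)
    refine hw (funext fun j => ?_)
    rcases eq_or_ne j i with rfl | hj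
    · simp [hwi]
    · rw [Pi.single_eq_of_ne hj]
      by_contra hwj
      refine h2 (Finset.one_lt_card.2 ⟨i, ?_, j, ?_, hj.symm⟩)
      · simp [BlockSys.supp, S.o_eq, hwi, hc]
      · simp [BlockSys.supp, S.o_eq, hwj]
  have hle : ∀ c : ZMod ℓ, c ≠ 0 →
      finrank L (Module.End.eigenspace (S.B.T i 1) (S.ψ c)) = finrank L (S.B.W (Pi.single i c)) := by
    intro c hc
    refine le_antisymm ?_ (Submodule.finrank_mono fun v hv => ?_)
    · simpa using S.B.finrank_le_sum (S.B.stable_eigenspace i 1 _) {Pi.single i c}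
        (fun w hw => hmeet c hc w (by simpa using hw))
    · rw [Module.End.mem_eigenspace_iff, S.B.mem_W.1 hv i 1, S.χ_eq]; simp
  refine ⟨fun c hc => ⟨?_, ?_, hle c hc⟩, fun c hc j hj v hv => ?_⟩
  · obtain ⟨w, hwi, hw⟩ := S.B.exists_weight (S.T_ne_one i)
    rw [S.o_eq] at hwi
    have h1 : (S.B.supp w).card = 1 := by
      have h0 : i ∈ S.B.supp w := by simp [BlockSys.supp, S.o_eq, hwi]
      have := Finset.card_pos.2 ⟨i, h0⟩
      by_contra hne
      exact hw (hbig w (by omega))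
    rw [hle c hc, ← hsym w _ (by rw [h1, hsingle c hc, Finset.card_singleton])]
    exact Nat.pos_of_ne_zero (by rwa [Ne, Submodule.finrank_eq_zero])
  · rw [hle c hc]
    have := S.B.weight_count hsym (Pi.single i c)
    rwa [hsingle c hc, Finset.card_singleton, Nat.choose_one_right, pow_one, hcard] at this
  · refine S.B.trivial_on (S.B.stable_eigenspace i 1 _) j (fun w hwj => hmeet c hc w ?_) 1 v hv
    intro h
    rw [h, Pi.single_eq_of_ne hj, S.o_eq] at hwj
    exact hwj rfl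

theorem exists_psi {μ : L} (h : μ ^ ℓ = 1) (h1 : μ ≠ 1) : ∃ c : ZMod ℓ, c ≠ 0 ∧ S.ψ c = μ := by
  have hl : S.ψ 1 ^ ℓ = 1 := by
    rw [← AddChar.map_nsmul_eq_pow, nsmul_one, ZMod.natCast_self, AddChar.map_zero_eq_one]
  have hprim : IsPrimitiveRoot (S.ψ 1) ℓ := by
    rw [IsPrimitiveRoot.iff_orderOf]
    refine ((Nat.dvd_prime Fact.out).1 (orderOf_dvd_of_pow_eq_one hl)).resolve_left fun he => ?_
    rw [orderOf_eq_one_iff, ← AddChar.map_zero_eq_one S.ψ] at he
    exact one_ne_zero (S.ψ_inj he)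
  obtain ⟨n, -, hn⟩ := hprim.eq_pow_of_pow_eq_one h
  have e : S.ψ (n : ZMod ℓ) = μ := by
    rw [← hn, ← AddChar.map_nsmul_eq_pow, nsmul_one]
  refine ⟨_, fun h0 => h1 ?_, e⟩
  rw [← e, h0, AddChar.map_zero_eq_one]

omit [IsAlgClosed L] [FiniteDimensional L V] in
theorem psi_pow (c : ZMod ℓ) : S.ψ c ^ ℓ = 1 := by
  rw [← AddChar.map_nsmul_eq_pow, nsmul_eq_mul, ZMod.natCast_self, zero_mul,
    AddChar.map_zero_eq_one]

omit [IsAlgClosed L] [FiniteDimensional L V] in
theorem psi_ne_one {c : ZMod ℓ} (hc : c ≠ 0) : S.ψ c ≠ 1 := by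
  rw [← AddChar.map_zero_eq_one S.ψ]
  exact fun h => hc (S.ψ_inj h)

omit [IsAlgClosed L] [FiniteDimensional L V] in
theorem W_le_eigen (w : Fin k → ZMod ℓ) (i : Fin k) :
    S.B.W w ≤ Module.End.eigenspace (S.B.T i 1) (S.ψ (w i)) := by
  intro v hv
  rw [Module.End.mem_eigenspace_iff, S.B.mem_W.1 hv i 1, S.χ_eq, mul_one]

end CycleSys

end Blocks

end Cfsg.Agent.AltSection
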