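import Cfsg.Agent.Lib.Transfer.AltSection.Involution
import Mathlib.Data.Fin.Tuple.Basic

/-!
Planes attached to double transpositions give a system of lines attached to pairs.
-/

namespace Cfsg.Agent.AltSection

open Equiv Equiv.Perm Module

variable {L : Type*} [Field L] {V : Type*} [AddCommGroup V] [Module L V] {r : ℕ}

/-- A stable subspace splits along an involution. -/
theorem split_involution [FiniteDimensional L V] (h2 : (2 : L) ≠ 0) {B : Module.End L V}
    (hB : B * B = 1) {S : Submodule L V} (hS : ∀ v ∈ S, B v ∈ S) :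
    finrank L S = finrank L (S ⊓ Module.End.eigenspace B 1 : Submodule L V) +
      finrank L (S ⊓ Module.End.eigenspace B (-1) : Submodule L V) := by
  have hBB : ∀ v, B (B v) = v := fun v => by
    rw [← Module.End.mul_apply, hB, Module.End.one_apply]
  have h1 := Submodule.finrank_sup_add_finrank_inf_eq (S ⊓ Module.End.eigenspace B 1)
    (S ⊓ Module.End.eigenspace B (-1))
  have hinf : (S ⊓ Module.End.eigenspace B 1) ⊓ (S ⊓ Module.End.eigenspace B (-1)) = ⊥ := by
    rw [Submodule.eq_bot_iff]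
    rintro v ⟨⟨-, hp⟩, -, hm⟩
    rw [SetLike.mem_coe, Module.End.mem_eigenspace_iff] at hp hm
    rw [hp, one_smul, neg_smul, one_smul, eq_neg_iff_add_eq_zero, ← two_smul L] at hm
    exact (smul_eq_zero.1 hm).resolve_left h2
  have hsup : (S ⊓ Module.End.eigenspace B 1) ⊔ (S ⊓ Module.End.eigenspace B (-1)) = S := by
    refine le_antisymm (sup_le inf_le_left inf_le_left) fun v hv => ?_
    have e : v = (2 : L)⁻¹ • (v + B v) + (2 : L)⁻¹ • (v - B v) := by
      rw [← smul_add, show v + B v + (v - B v) = (2 : L) • v by rw [two_smul]; abel, smul_smul,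
        inv_mul_cancel₀ h2, one_smul]
    rw [e]
    refine Submodule.add_mem_sup (Submodule.smul_mem _ _ ⟨add_mem hv (hS v hv), ?_⟩)
      (Submodule.smul_mem _ _ ⟨sub_mem hv (hS v hv), ?_⟩)
    · rw [SetLike.mem_coe, Module.End.mem_eigenspace_iff, map_add, hBB, one_smul, add_comm]
    · rw [SetLike.mem_coe, Module.End.mem_eigenspace_iff, map_sub, hBB, neg_smul, one_smul, neg_sub]
  rw [hinf, finrank_bot, hsup] at h1
  omega

theorem dbl_sub {m : ℕ} (R : Fin m ↪ Fin r) (i : Fin 4 → Fin m) (hi : Function.Injective i) :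
    dbl (sub R i hi) = viaEmbeddingHom R (swap (i 0) (i 1) * swap (i 2) (i 3)) := by
  rw [dbl_eq, map_mul, via_swap, via_swap]; rfl

theorem exists_append {m M : ℕ} (h : m ≤ M) (hM : M ≤ r) (P : Fin m ↪ Fin r) :
    ∃ R : Fin M ↪ Fin r, ∀ i, R (Fin.castLE h i) = P i := by
  obtain ⟨R⟩ := exists_config M hM
  obtain ⟨g, hg⟩ := exists_perm (fun i => R (Fin.castLE h i)) P
    (R.injective.comp (Fin.castLE_injective h)) P.injective
  exact ⟨R.trans g.toEmbedding, hg⟩

/-- Adjoin two points. -/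
def snoc2 {m : ℕ} (P : Fin m ↪ Fin r) (x y : Fin r) (hx : x ∉ Set.range P) (hy : y ∉ Set.range P)
    (hxy : x ≠ y) : Fin (m + 2) ↪ Fin r :=
  ⟨Fin.snoc (Fin.snoc P x) y, by
    refine Fin.snoc_injective_of_injective (Fin.snoc_injective_of_injective P.injective hx) ?_
    rintro ⟨i, hi⟩
    induction i using Fin.lastCases with
    | last => rw [Fin.snoc_last] at hi; exact hxy hi
    | cast j => rw [Fin.snoc_castSucc] at hi; exact hy ⟨j, hi⟩⟩

theorem emb4_ext {Q Q' : Fin 4 ↪ Fin r} (h0 : Q 0 = Q' 0) (h1 : Q 1 = Q' 1) (h2 : Q 2 = Q' 2)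
    (h3 : Q 3 = Q' 3) : Q = Q' := by
  ext i
  fin_cases i <;> apply congrArg Fin.val <;> assumption

/-- Planes of double transpositions. -/
structure InvSys (D : Setup L V r) where
  two_ne : (2 : L) ≠ 0
  seven : 7 ≤ finrank L V
  T : (Fin 4 ↪ Fin r) → Module.End L V
  rel : ∀ Q, D.rel (dbl Q) (T Q)
  sq : ∀ Q, T Q * T Q = 1
  dim : ∀ Q, finrank L (Module.End.eigenspace (T Q) (-1)) = 2
  equiv : ∀ {g G}, D.rel g G → ∀ Q : Fin 4 ↪ Fin r, G * T Q = T (Q.trans g.toEmbedding) * G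
  fixed : ∀ R : Fin 8 ↪ Fin r,
    ∀ v ∈ Module.End.eigenspace (T (sub R ![0, 1, 2, 3] (by decide))) (-1),
      T (sub R ![4, 5, 6, 7] (by decide)) v = v

namespace InvSys

variable [FiniteDimensional L V] {D : Setup L V r} (S : InvSys D)

/-- The moved plane. -/
def U (Q : Fin 4 ↪ Fin r) : Submodule L V := Module.End.eigenspace (S.T Q) (-1)

theorem mem_U {Q : Fin 4 ↪ Fin r} {v : V} : v ∈ S.U Q ↔ S.T Q v = -v := by
  rw [U, Module.End.mem_eigenspace_iff, neg_smul, one_smul]

theorem sq_apply (Q : Fin 4 ↪ Fin r) (v : V) : S.T Q (S.T Q v) = v := by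
  rw [← Module.End.mul_apply, S.sq, Module.End.one_apply]

theorem fix_dim (Q : Fin 4 ↪ Fin r) :
    finrank L (Module.End.eigenspace (S.T Q) 1) + 2 = finrank L V := by
  have h := split_involution S.two_ne (S.sq Q) (S := ⊤) fun _ _ => Submodule.mem_top
  rw [top_inf_eq, top_inf_eq, S.dim, finrank_top] at h
  omega

theorem eq_zero_of_fix {Q : Fin 4 ↪ Fin r} {v : V} (h : v ∈ S.U Q) (h' : S.T Q v = v) : v = 0 := by
  rw [S.mem_U, h', eq_neg_iff_add_eq_zero, ← two_smul L] at h
  exact (smul_eq_zero.1 h).resolve_left S.two_ne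

theorem T_congr (hr : 3 ≤ r) {Q Q' : Fin 4 ↪ Fin r} (h : dbl Q = dbl Q') : S.T Q = S.T Q' := by
  have := D.nontrivial hr
  obtain ⟨μ, -, hμ⟩ := D.unique (S.rel Q) (h ▸ S.rel Q')
  have h1 : μ * μ = 1 := by
    have e := S.sq Q
    rw [hμ, smul_mul_assoc, mul_smul_comm, smul_smul, S.sq] at e
    exact D.smul_cancel hr D.one (by rw [e, one_smul])
  rcases mul_self_eq_one_iff.1 h1 with rfl | rfl
  · rw [hμ, one_smul]
  exfalso
  have h2 : Module.End.eigenspace (S.T Q') 1 ≤ Module.End.eigenspace (S.T Q) (-1) := by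
    intro v hv
    rw [Module.End.mem_eigenspace_iff, one_smul] at hv
    rw [Module.End.mem_eigenspace_iff, hμ, LinearMap.smul_apply, hv]
  have := Submodule.finrank_mono h2
  have := S.fix_dim Q'
  rw [S.dim] at *
  have := S.seven
  omega

theorem U_map (hr : 3 ≤ r) {g G} (hG : D.rel g G) (Q : Fin 4 ↪ Fin r) :
    (S.U Q).map G = S.U (Q.trans g.toEmbedding) := by
  refine map_eq_of_le (D.injective hr hG) ?_ ?_
  · rintro _ ⟨v, hv, rfl⟩
    rw [S.mem_U, ← Module.End.mul_apply, ← S.equiv hG Q, Module.End.mul_apply, S.mem_U.1 hv,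
      map_neg]
  · rw [U, U, S.dim, S.dim]

/-- Two involutions sharing a pair. -/
theorem six (hr : 3 ≤ r) (R : Fin 6 ↪ Fin r) :
    let A := sub R ![0, 1, 2, 3] (by decide)
    let B := sub R ![0, 1, 4, 5] (by decide)
    let C := sub R ![2, 3, 4, 5] (by decide)
    S.T A * S.T B = S.T B * S.T A ∧ S.T A * S.T B = S.T C ∧
      finrank L (S.U A ⊓ S.U B : Submodule L V) = 1 := by
  intro A B C
  have h2 := S.two_ne
  have h7 := S.seven
  have hperm : dbl A * dbl B = dbl B * dbl A ∧ dbl A * dbl B = dbl C := by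
    simp only [A, B, C, dbl_sub, ← map_mul]
    constructor <;> congr 1 <;> decide
  obtain ⟨z, hz0, hz⟩ := D.comm_scalar (S.rel A) (S.rel B) hperm.1
  have hz2 : z ^ 2 = 1 :=
    D.comm_pow_eq_one hr (S.rel A) (S.rel B) hz (a := 1)
      (by rw [pow_two, S.sq, one_smul]) one_ne_zero
  have hcomm : S.T A * S.T B = S.T B * S.T A := by
    rcases sq_eq_one_iff.1 hz2 with rfl | rfl
    · rw [hz, one_smul]
    exfalso
    have hle : (Module.End.eigenspace (S.T A) 1).map (S.T B) ≤
        Module.End.eigenspace (S.T A) (-1) := by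
      rintro _ ⟨v, hv, rfl⟩
      rw [SetLike.mem_coe, Module.End.mem_eigenspace_iff, one_smul] at hv
      rw [Module.End.mem_eigenspace_iff, ← Module.End.mul_apply, hz, LinearMap.smul_apply,
        Module.End.mul_apply, hv]
    have e := Submodule.finrank_mono hle
    rw [← (Submodule.equivMapOfInjective _ (D.injective hr (S.rel B)) _).finrank_eq, S.dim] at e
    have := S.fix_dim A
    omega
  refine ⟨hcomm, ?_⟩
  obtain ⟨μ, -, hμ⟩ := D.unique (S.rel C) (hperm.2 ▸ D.mul (S.rel A) (S.rel B))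
  have hABsq : (S.T A * S.T B) * (S.T A * S.T B) = 1 := by
    calc _ = (S.T A * S.T B) * (S.T B * S.T A) := congrArg (S.T A * S.T B * ·) hcomm
      _ = S.T A * (S.T B * S.T B) * S.T A := by simp only [mul_assoc]
      _ = 1 := by rw [S.sq, mul_one, S.sq]
  have hμ2 : μ * μ = 1 := by
    have e := S.sq C
    rw [hμ, smul_mul_assoc, mul_smul_comm, smul_smul, hABsq] at e
    exact D.smul_cancel hr D.one (by rw [e, one_smul])
  have hsA : ∀ v ∈ S.U B, S.T A v ∈ S.U B := fun v hv => by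
    rw [S.mem_U, ← Module.End.mul_apply, ← hcomm, Module.End.mul_apply, S.mem_U.1 hv, map_neg]
  have hsB : ∀ v ∈ S.U A, S.T B v ∈ S.U A := fun v hv => by
    rw [S.mem_U, ← Module.End.mul_apply, hcomm, Module.End.mul_apply, S.mem_U.1 hv, map_neg]
  have hC : S.T A * S.T B = S.T C := by
    rcases mul_self_eq_one_iff.1 hμ2 with rfl | rfl
    · rw [hμ, one_smul]
    exfalso
    have hle : Module.End.eigenspace (S.T A) 1 ⊓ Module.End.eigenspace (S.T B) 1 ≤ S.U C := by
      rintro v ⟨ha, hb⟩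
      rw [SetLike.mem_coe, Module.End.mem_eigenspace_iff, one_smul] at ha hb
      rw [S.mem_U, hμ, LinearMap.smul_apply, Module.End.mul_apply, hb, ha, neg_smul, one_smul]
    have e := Submodule.finrank_mono hle
    have e1 := Submodule.finrank_sup_add_finrank_inf_eq (Module.End.eigenspace (S.T A) 1)
      (Module.End.eigenspace (S.T B) 1)
    have := Submodule.finrank_le (Module.End.eigenspace (S.T A) 1 ⊔ Module.End.eigenspace (S.T B) 1)
    have := S.fix_dim A
    have := S.fix_dim B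
    rw [U, S.dim] at e
    omega
  refine ⟨hC, ?_⟩
  have eA := split_involution h2 (S.sq B) hsB
  have eB := split_involution h2 (S.sq A) hsA
  have hsC : ∀ v ∈ S.U C, S.T A v ∈ S.U C := fun v hv => by
    rw [S.mem_U, ← Module.End.mul_apply, ← hC]
    have : S.T A * S.T B * S.T A = S.T A * (S.T A * S.T B) := by
      rw [mul_assoc, ← hcomm]
    rw [this, hC, Module.End.mul_apply, S.mem_U.1 hv, map_neg]
  have eC := split_involution h2 (S.sq A) hsC
  have hC1 : S.U C ⊓ Module.End.eigenspace (S.T A) 1 =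
      S.U B ⊓ Module.End.eigenspace (S.T A) 1 := by
    ext v
    simp only [Submodule.mem_inf, Module.End.mem_eigenspace_iff, one_smul, S.mem_U, ← hC,
      Module.End.mul_apply]
    refine and_congr_left fun ha => ⟨fun h => ?_, fun h => by rw [h, map_neg, ha]⟩
    have h' := congrArg (S.T A) h
    rwa [S.sq_apply, map_neg, ha] at h'
  have hC2 : S.U C ⊓ Module.End.eigenspace (S.T A) (-1) =
      S.U A ⊓ Module.End.eigenspace (S.T B) 1 := by
    ext v
    simp only [Submodule.mem_inf, Module.End.mem_eigenspace_iff, one_smul, neg_smul, S.mem_U,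
      ← hC, Module.End.mul_apply]
    constructor
    · rintro ⟨h, ha⟩
      refine ⟨ha, ?_⟩
      have h' := congrArg (S.T A) h
      rwa [S.sq_apply, map_neg, ha, neg_neg] at h'
    · rintro ⟨ha, hb⟩
      exact ⟨by rw [hb, ha], ha⟩
  rw [hC1, hC2] at eC
  have eAB : S.U A ⊓ Module.End.eigenspace (S.T B) (-1) = S.U A ⊓ S.U B := rfl
  have eBA : S.U B ⊓ Module.End.eigenspace (S.T A) (-1) = S.U A ⊓ S.U B := inf_comm _ _
  rw [eAB] at eA
  rw [eBA] at eB
  have dA : finrank L (S.U A) = 2 := S.dim A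
  have dB : finrank L (S.U B) = 2 := S.dim B
  have dC : finrank L (S.U C) = 2 := S.dim C
  omega

theorem disjoint_U (R : Fin 8 ↪ Fin r) {v : V} (h1 : v ∈ S.U (sub R ![0, 1, 2, 3] (by decide)))
    (h2 : v ∈ S.U (sub R ![4, 5, 6, 7] (by decide))) : v = 0 :=
  S.eq_zero_of_fix h2 (S.fixed R v h1)

/-- The meet of two planes sharing a pair. -/
def meet (P : Fin 6 ↪ Fin r) : Submodule L V :=
  S.U (sub P ![0, 1, 2, 3] (by decide)) ⊓ S.U (sub P ![0, 1, 4, 5] (by decide))

theorem meet_finrank (hr : 3 ≤ r) (P : Fin 6 ↪ Fin r) : finrank L (S.meet P) = 1 := (S.six hr P).2.2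

theorem meet_indep (hr : 3 ≤ r) (R : Fin 8 ↪ Fin r) :
    S.meet (sub R ![0, 1, 2, 3, 4, 5] (by decide)) =
      S.meet (sub R ![0, 1, 2, 3, 6, 7] (by decide)) := by
  have e1 := S.six hr (sub R ![0, 1, 2, 3, 6, 7] (by decide))
  have e2 := S.six hr (sub R ![0, 1, 4, 5, 6, 7] (by decide))
  obtain ⟨hAS, -, -⟩ := e1
  obtain ⟨hBS, hBS', -⟩ := e2
  set qA := sub R ![0, 1, 2, 3] (by decide) with hqA
  set qB := sub R ![0, 1, 4, 5] (by decide) with hqB
  set qS := sub R ![0, 1, 6, 7] (by decide) with hqS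
  set qC := sub R ![4, 5, 6, 7] (by decide) with hqC
  have eAS : sub (sub R ![0, 1, 2, 3, 6, 7] (by decide)) ![0, 1, 2, 3] (by decide) = qA :=
    emb4_ext rfl rfl rfl rfl
  have eSS : sub (sub R ![0, 1, 2, 3, 6, 7] (by decide)) ![0, 1, 4, 5] (by decide) = qS :=
    emb4_ext rfl rfl rfl rfl
  have eBB : sub (sub R ![0, 1, 4, 5, 6, 7] (by decide)) ![0, 1, 2, 3] (by decide) = qB :=
    emb4_ext rfl rfl rfl rfl
  have eBS : sub (sub R ![0, 1, 4, 5, 6, 7] (by decide)) ![0, 1, 4, 5] (by decide) = qS :=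
    emb4_ext rfl rfl rfl rfl
  have eBC : sub (sub R ![0, 1, 4, 5, 6, 7] (by decide)) ![2, 3, 4, 5] (by decide) = qC :=
    emb4_ext rfl rfl rfl rfl
  have hAS' : S.T qA * S.T qS = S.T qS * S.T qA := by rw [← eAS, ← eSS]; exact hAS
  have hBS1 : S.T qB * S.T qS = S.T qS * S.T qB := by rw [← eBB, ← eBS]; exact hBS
  have hBS2 : S.T qB * S.T qS = S.T qC := by rw [← eBB, ← eBS, ← eBC]; exact hBS'
  refine Submodule.eq_of_le_of_finrank_le (le_inf ?_ fun v hv => ?_)
    (by rw [S.meet_finrank hr, S.meet_finrank hr])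
  · refine inf_le_left.trans (le_of_eq ?_)
    congr 1
    exact emb4_ext rfl rfl rfl rfl
  have hA : v ∈ S.U qA := by
    rw [show qA = sub (sub R ![0, 1, 2, 3, 4, 5] (by decide)) ![0, 1, 2, 3] (by decide) from
      emb4_ext rfl rfl rfl rfl]
    exact hv.1
  have hB : v ∈ S.U qB := by
    rw [show qB = sub (sub R ![0, 1, 2, 3, 4, 5] (by decide)) ![0, 1, 4, 5] (by decide) from
      emb4_ext rfl rfl rfl rfl]
    exact hv.2
  rw [show sub (sub R ![0, 1, 2, 3, 6, 7] (by decide)) ![0, 1, 4, 5] (by decide) = qS from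
    emb4_ext rfl rfl rfl rfl, S.mem_U]
  have hw1 : v + S.T qS v ∈ S.U qA := by
    refine add_mem hA ?_
    rw [S.mem_U, ← Module.End.mul_apply, hAS', Module.End.mul_apply, S.mem_U.1 hA, map_neg]
  have hw2 : v + S.T qS v ∈ S.U qC := by
    rw [S.mem_U, ← hBS2, Module.End.mul_apply, map_add, S.sq_apply, map_add, S.mem_U.1 hB,
      ← Module.End.mul_apply, hBS1, Module.End.mul_apply, S.mem_U.1 hB, map_neg]
    abel
  exact eq_neg_of_add_eq_zero_right (S.disjoint_U R hw1 hw2)

theorem two_free {s : Finset (Fin r)} (h : s.card + 2 ≤ r) :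
    ∃ x y, x ≠ y ∧ x ∉ s ∧ y ∉ s := by
  obtain ⟨x, hx, y, hy, hxy⟩ := Finset.one_lt_card.1
    (show 1 < sᶜ.card by rw [Finset.card_compl, Fintype.card_fin]; omega)
  exact ⟨x, y, hxy, Finset.mem_compl.1 hx, Finset.mem_compl.1 hy⟩

theorem meet_congr (hr : 9 ≤ r) (P Q : Fin 6 ↪ Fin r) (h0 : P 0 = Q 0) (h1 : P 1 = Q 1)
    (h2 : P 2 = Q 2) (h3 : P 3 = Q 3) : S.meet P = S.meet Q := by
  classical
  have step : ∀ (P : Fin 6 ↪ Fin r) (x y : Fin r) (hx : x ∉ Set.range P) (hy : y ∉ Set.range P)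
      (hxy : x ≠ y), S.meet P = S.meet (sub (snoc2 P x y hx hy hxy) ![0, 1, 2, 3, 6, 7] (by decide)) := by
    intro P x y hx hy hxy
    rw [← S.meet_indep (by omega)]
    unfold meet
    congr 2 <;> exact emb4_ext rfl rfl rfl rfl
  by_cases hdis : P 4 ≠ Q 4 ∧ P 4 ≠ Q 5 ∧ P 5 ≠ Q 4 ∧ P 5 ≠ Q 5
  · obtain ⟨h44, h45, h54, h55⟩ := hdis
    have hne : ∀ j : Fin 6, (j = 4 ∨ j = 5) → Q j ∉ Set.range P := by
      rintro j hj ⟨i, hi⟩
      fin_cases i
      · exact absurd (Q.injective (h0 ▸ hi)) (by rcases hj with rfl | rfl <;> decide)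
      · exact absurd (Q.injective (h1 ▸ hi)) (by rcases hj with rfl | rfl <;> decide)
      · exact absurd (Q.injective (h2 ▸ hi)) (by rcases hj with rfl | rfl <;> decide)
      · exact absurd (Q.injective (h3 ▸ hi)) (by rcases hj with rfl | rfl <;> decide)
      · rcases hj with rfl | rfl
        exacts [h44 hi, h45 hi]
      · rcases hj with rfl | rfl
        exacts [h54 hi, h55 hi]
    rw [step P (Q 4) (Q 5) (hne 4 (Or.inl rfl)) (hne 5 (Or.inr rfl)) (Q.injective.ne (by decide))]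
    unfold meet
    congr 2 <;>
      exact emb4_ext (by first | rfl | exact h0) (by first | rfl | exact h1)
        (by first | rfl | exact h2) (by first | rfl | exact h3)
  · have hcard : (Finset.univ.map P ∪ Finset.univ.map Q).card ≤ 7 := by
      rw [Finset.card_union, Finset.card_map, Finset.card_map, Finset.card_univ, Fintype.card_fin]
      have hI : 5 ≤ (Finset.univ.map P ∩ Finset.univ.map Q).card := by
        obtain ⟨e, he4, he⟩ : ∃ e, (e = P 4 ∨ e = P 5) ∧ (e = Q 4 ∨ e = Q 5) := by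
          by_contra hno
          refine hdis ⟨fun h => hno ⟨_, Or.inl rfl, Or.inl h⟩, fun h => hno ⟨_, Or.inl rfl, Or.inr h⟩,
            fun h => hno ⟨_, Or.inr rfl, Or.inl h⟩, fun h => hno ⟨_, Or.inr rfl, Or.inr h⟩⟩
        have hsub : ({P 0, P 1, P 2, P 3, e} : Finset (Fin r)) ⊆
            Finset.univ.map P ∩ Finset.univ.map Q := by
          intro x hx
          simp only [Finset.mem_insert, Finset.mem_singleton] at hx
          simp only [Finset.mem_inter, Finset.mem_map, Finset.mem_univ, true_and]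
          rcases hx with rfl | rfl | rfl | rfl | rfl
          · exact ⟨⟨0, rfl⟩, ⟨0, h0.symm⟩⟩
          · exact ⟨⟨1, rfl⟩, ⟨1, h1.symm⟩⟩
          · exact ⟨⟨2, rfl⟩, ⟨2, h2.symm⟩⟩
          · exact ⟨⟨3, rfl⟩, ⟨3, h3.symm⟩⟩
          · exact ⟨he4.elim (fun h => ⟨4, h.symm⟩) fun h => ⟨5, h.symm⟩,
              he.elim (fun h => ⟨4, h.symm⟩) fun h => ⟨5, h.symm⟩⟩
        refine le_trans ?_ (Finset.card_le_card hsub)
        have hP : ∀ i : Fin 6, e = P i → i = 4 ∨ i = 5 := fun i hi => by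
          rcases he4 with h | h
          · exact Or.inl (P.injective (hi.symm.trans h))
          · exact Or.inr (P.injective (hi.symm.trans h))
        have n : ∀ i j : Fin 6, i ≠ j → P i ≠ P j := fun i j h => P.injective.ne h
        have m : ∀ i : Fin 6, i ≠ 4 → i ≠ 5 → P i ≠ e := fun i h4 h5 h =>
          (hP i h.symm).elim h4 h5
        rw [Finset.card_insert_of_notMem, Finset.card_insert_of_notMem,
          Finset.card_insert_of_notMem, Finset.card_insert_of_notMem, Finset.card_singleton] <;>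
          simp only [Finset.mem_insert, Finset.mem_singleton, not_or]
        · exact m 3 (by decide) (by decide)
        · exact ⟨n 2 3 (by decide), m 2 (by decide) (by decide)⟩
        · exact ⟨n 1 2 (by decide), n 1 3 (by decide), m 1 (by decide) (by decide)⟩
        · exact ⟨n 0 1 (by decide), n 0 2 (by decide), n 0 3 (by decide),
            m 0 (by decide) (by decide)⟩
      omega
    obtain ⟨x, y, hxy, hx, hy⟩ := two_free (r := r) (by omega : _ + 2 ≤ r)
      (s := Finset.univ.map P ∪ Finset.univ.map Q)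
    simp only [Finset.mem_union, Finset.mem_map, Finset.mem_univ, true_and, not_or] at hx hy
    rw [step P x y hx.1 hy.1 hxy, step Q x y hx.2 hy.2 hxy]
    unfold meet
    congr 2 <;>
      exact emb4_ext (by first | rfl | exact h0) (by first | rfl | exact h1)
        (by first | rfl | exact h2) (by first | rfl | exact h3)

theorem meet_le (hr : 9 ≤ r) (P : Fin 6 ↪ Fin r) (Q : Fin 4 ↪ Fin r) (h0 : Q 0 = P 0)
    (h1 : Q 1 = P 1) : S.meet P ≤ S.U Q := by
  classical
  obtain ⟨x, y, hxy, hx, hy⟩ := two_free (r := r)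
    (s := Finset.univ.map (sub P ![0, 1, 2, 3] (by decide)) ∪ Finset.univ.map Q) (by
      rw [Finset.card_union, Finset.card_map, Finset.card_map, Finset.card_univ, Fintype.card_fin]
      have hI : ({P 0, P 1} : Finset (Fin r)) ⊆
          Finset.univ.map (sub P ![0, 1, 2, 3] (by decide)) ∩ Finset.univ.map Q := by
        intro z hz
        simp only [Finset.mem_insert, Finset.mem_singleton] at hz
        simp only [Finset.mem_inter, Finset.mem_map, Finset.mem_univ, true_and]
        rcases hz with rfl | rfl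
        · exact ⟨⟨0, rfl⟩, ⟨0, h0⟩⟩
        · exact ⟨⟨1, rfl⟩, ⟨1, h1⟩⟩
      have := Finset.card_le_card hI
      rw [Finset.card_pair (P.injective.ne (by decide))] at this
      omega)
  simp only [Finset.mem_union, Finset.mem_map, Finset.mem_univ, true_and, not_or] at hx hy
  let P' := snoc2 (sub P ![0, 1, 2, 3] (by decide)) x y hx.1 hy.1 hxy
  let A4 : Fin 4 ↪ Fin r := sub P' ![0, 1, 4, 5] (by decide)
  have hA4 : ∀ j : Fin 4, (j = 2 ∨ j = 3) → Q j ∉ Set.range A4 := by
    rintro j hj ⟨i, hi⟩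
    fin_cases i
    · have hi' : P 0 = Q j := hi
      rw [← h0] at hi'
      exact absurd (Q.injective hi') (by rcases hj with rfl | rfl <;> decide)
    · have hi' : P 1 = Q j := hi
      rw [← h1] at hi'
      exact absurd (Q.injective hi') (by rcases hj with rfl | rfl <;> decide)
    · exact hx.2 ⟨j, (show x = Q j from hi).symm⟩
    · exact hy.2 ⟨j, (show y = Q j from hi).symm⟩
  let P3 := snoc2 A4 (Q 2) (Q 3) (hA4 2 (Or.inl rfl)) (hA4 3 (Or.inr rfl))
    (Q.injective.ne (by decide))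
  have e1 : S.meet P = S.meet P' := S.meet_congr hr P P' rfl rfl rfl rfl
  have e2 : S.meet P' = S.meet (sub P' ![0, 1, 4, 5, 2, 3] (by decide)) := by
    unfold meet
    rw [inf_comm]
    congr 2 <;> exact emb4_ext rfl rfl rfl rfl
  have e3 : S.meet (sub P' ![0, 1, 4, 5, 2, 3] (by decide)) = S.meet P3 :=
    S.meet_congr hr _ _ rfl rfl rfl rfl
  rw [e1, e2, e3]
  refine inf_le_right.trans (le_of_eq ?_)
  congr 1
  exact emb4_ext h0.symm h1.symm rfl rfl

/-- The line of a pair. -/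
def line (a b : Fin r) : Submodule L V :=
  ⨅ Q : Fin 4 ↪ Fin r, ⨅ _ : Q 0 = a ∧ Q 1 = b, S.U Q

theorem line_le {a b : Fin r} (Q : Fin 4 ↪ Fin r) (h0 : Q 0 = a) (h1 : Q 1 = b) :
    S.line a b ≤ S.U Q :=
  iInf₂_le (f := fun (Q : Fin 4 ↪ Fin r) (_ : Q 0 = a ∧ Q 1 = b) => S.U Q) Q ⟨h0, h1⟩

theorem line_eq (hr : 9 ≤ r) (P : Fin 6 ↪ Fin r) : S.line (P 0) (P 1) = S.meet P :=
  le_antisymm (le_inf (S.line_le _ rfl rfl) (S.line_le _ rfl rfl))
    (le_iInf₂ fun Q h => S.meet_le hr P Q h.1 h.2)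

theorem line_finrank (hr : 9 ≤ r) {a b : Fin r} (hab : a ≠ b) : finrank L (S.line a b) = 1 := by
  obtain ⟨P, hP⟩ := exists_append (r := r) (show 2 ≤ 6 by norm_num) (by omega)
    ⟨![a, b], by
      intro i j h
      fin_cases i <;> fin_cases j <;> simp [hab, hab.symm] at h ⊢⟩
  have h0 : P 0 = a := hP 0
  have h1 : P 1 = b := hP 1
  rw [← h0, ← h1, S.line_eq hr P, S.meet_finrank (by omega)]

theorem line_symm (hr : 3 ≤ r) (a b : Fin r) : S.line a b = S.line b a := by
  have key : ∀ a b : Fin r, S.line a b ≤ S.line b a := fun a b => by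
    refine le_iInf₂ fun Q h => ?_
    refine (S.line_le (sub Q ![1, 0, 2, 3] (by decide)) h.2 h.1).trans (le_of_eq ?_)
    rw [U, U, S.T_congr hr (Q := sub Q ![1, 0, 2, 3] (by decide)) (Q' := Q) (by
      rw [dbl_eq, dbl_eq]; show swap (Q 1) (Q 0) * _ = _; rw [swap_comm (Q 1) (Q 0)]; rfl)]
  exact le_antisymm (key a b) (key b a)

theorem line_equiv (hr : 3 ≤ r) {g G} (hG : D.rel g G) {a b : Fin r} :
    ∀ v ∈ S.line a b, G v ∈ S.line (g a) (g b) := by
  intro v hv
  refine Submodule.mem_iInf _ |>.2 fun Q => Submodule.mem_iInf _ |>.2 fun h => ?_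
  have e : (Q.trans g⁻¹.toEmbedding).trans g.toEmbedding = Q := by ext i; simp
  rw [← e, ← S.U_map hr hG]
  exact ⟨v, S.line_le (Q.trans g⁻¹.toEmbedding) (by simp [h.1]) (by simp [h.2]) hv, rfl⟩

theorem line_map (hr : 9 ≤ r) {g G} (hG : D.rel g G) {a b : Fin r} (hab : a ≠ b) :
    (S.line a b).map G = S.line (g a) (g b) := by
  refine map_eq_of_le (D.injective (by omega) hG) ?_ ?_
  · rintro _ ⟨v, hv, rfl⟩
    exact S.line_equiv (by omega) hG v hv
  · rw [S.line_finrank hr hab, S.line_finrank hr (g.injective.ne hab)]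

theorem line_ne (hr : 9 ≤ r) {a b c : Fin r} (hab : a ≠ b) (hbc : b ≠ c) (hac : a ≠ c) :
    S.line a b ≠ S.line a c := by
  intro h
  have hall : ∀ Q : Fin 3 ↪ Fin r, S.line (Q 0) (Q 1) = S.line (Q 0) (Q 2) := by
    intro Q
    have hi : Function.Injective ![a, b, c] := by
      intro i j h'
      fin_cases i <;> fin_cases j <;>
        simp [hab, hbc, hac, hab.symm, hbc.symm, hac.symm] at h' ⊢
    obtain ⟨g, G, hG, hg⟩ := D.exists_move (by omega) ⟨_, hi⟩ Q
    have h' := congrArg (Submodule.map G) h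
    rw [S.line_map hr hG hab, S.line_map hr hG hac] at h'
    have e0 : g a = Q 0 := hg 0
    have e1 : g b = Q 1 := hg 1
    have e2 : g c = Q 2 := hg 2
    rwa [e0, e1, e2] at h'
  obtain ⟨R⟩ := exists_config (r := r) 8 (by omega)
  have step : ∀ i j l : Fin 8, (hi : Function.Injective ![j, i, l]) →
      S.line (R i) (R j) = S.line (R j) (R l) := by
    intro i j l hi
    rw [S.line_symm (by omega) (R i) (R j)]
    exact hall (sub R ![j, i, l] hi)
  have e : S.line (R 0) (R 1) = S.line (R 2) (R 3) :=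
    (step 0 1 2 (by decide)).trans (step 1 2 3 (by decide))
  have hne : S.line (R 0) (R 1) ≠ ⊥ := fun h => by
    have := S.line_finrank hr (R.injective.ne (show (0 : Fin 8) ≠ 1 by decide))
    rw [h, finrank_bot] at this
    omega
  obtain ⟨v, hv, hv0⟩ := (Submodule.ne_bot_iff _).1 hne
  refine hv0 (S.disjoint_U (sub R ![0, 1, 4, 5, 2, 3, 6, 7] (by decide))
    (S.line_le _ rfl rfl hv) ?_)
  rw [e] at hv
  exact S.line_le _ rfl rfl hv

theorem line_fixed (R : Fin 8 ↪ Fin r) {v : V} (hv : v ∈ S.line (R 0) (R 1)) :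
    S.T (sub R ![4, 5, 6, 7] (by decide)) v = v :=
  S.fixed R v (S.line_le (sub R ![0, 1, 2, 3] (by decide)) rfl rfl hv)

theorem coplanar (hr : 9 ≤ r) {a b c : Fin r} (hab : a ≠ b) (hbc : b ≠ c) (hac : a ≠ c) :
    S.line a c ≤ S.line a b ⊔ S.line b c := by
  obtain ⟨R, hR⟩ := exists_append (r := r) (show 3 ≤ 9 by norm_num) (by omega)
    ⟨![a, b, c], by
      intro i j h
      fin_cases i <;> fin_cases j <;>
        simp [hab, hbc, hac, hab.symm, hbc.symm, hac.symm] at h ⊢⟩
  have ha : R 0 = a := hR 0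
  have hb : R 1 = b := hR 1
  have hc : R 2 = c := hR 2
  subst ha hb hc
  have hsix := S.six (by omega) (sub R ![0, 1, 3, 4, 5, 6] (by decide))
  obtain ⟨hAB, hABC, -⟩ := hsix
  set qA := sub R ![0, 1, 3, 4] (by decide) with hqA
  set qB := sub R ![0, 1, 5, 6] (by decide) with hqB
  set qC := sub R ![3, 4, 5, 6] (by decide) with hqC
  have eA : sub (sub R ![0, 1, 3, 4, 5, 6] (by decide)) ![0, 1, 2, 3] (by decide) = qA :=
    emb4_ext rfl rfl rfl rfl
  have eB : sub (sub R ![0, 1, 3, 4, 5, 6] (by decide)) ![0, 1, 4, 5] (by decide) = qB :=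
    emb4_ext rfl rfl rfl rfl
  have eC : sub (sub R ![0, 1, 3, 4, 5, 6] (by decide)) ![2, 3, 4, 5] (by decide) = qC :=
    emb4_ext rfl rfl rfl rfl
  have hAB' : S.T qA * S.T qB = S.T qC := by rw [← eA, ← eB, ← eC]; exact hABC
  have hmap := S.line_map hr (S.rel qA) (R.injective.ne (show (1 : Fin 9) ≠ 2 by decide))
  have g1 : dbl qA (R 1) = R 0 := by
    rw [hqA, dbl_sub, viaEmbeddingHom_apply, viaEmbedding_apply]; rfl
  have g2 : dbl qA (R 2) = R 2 := by
    rw [hqA, dbl_sub, viaEmbeddingHom_apply, viaEmbedding_apply]; rfl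
  rw [g1, g2] at hmap
  rw [← hmap]
  rintro _ ⟨u, hu, rfl⟩
  have hfix : S.T qC u = u := by
    have h := S.line_fixed (sub R ![1, 2, 7, 8, 3, 4, 5, 6] (by decide)) hu
    convert h using 3
    exact emb4_ext rfl rfl rfl rfl
  have hTu : S.T qB u = S.T qA u := by
    conv_rhs => rw [← hfix, ← hAB', Module.End.mul_apply, S.sq_apply]
  rw [show S.T qA u = (S.T qA u - u) + u by abel]
  refine Submodule.add_mem_sup ?_ hu
  have h1 : S.T qA u - u ∈ S.U qA := by rw [S.mem_U, map_sub, S.sq_apply, neg_sub]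
  have h2 : S.T qA u - u ∈ S.U qB := by
    rw [← hTu, S.mem_U, map_sub, S.sq_apply, neg_sub]
  rw [show S.line (R 0) (R 1) = S.meet (sub R ![0, 1, 3, 4, 5, 6] (by decide)) from
    S.line_eq hr (sub R ![0, 1, 3, 4, 5, 6] (by decide))]
  show S.T qA u - u ∈ S.U (sub (sub R ![0, 1, 3, 4, 5, 6] _) ![0, 1, 2, 3] _) ⊓
    S.U (sub (sub R ![0, 1, 3, 4, 5, 6] _) ![0, 1, 4, 5] _)
  rw [eA, eB]
  exact ⟨h1, h2⟩

theorem plane (hr : 9 ≤ r) {a b c d : Fin r} (hab : a ≠ b) (hac : a ≠ c) (had : a ≠ d)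
    (hbc : b ≠ c) (hbd : b ≠ d) (hcd : c ≠ d) : ¬ S.line a d ≤ S.line a b ⊔ S.line a c := by
  intro h
  obtain ⟨R, hR⟩ := exists_append (r := r) (show 4 ≤ 8 by norm_num) (by omega)
    ⟨![a, b, c, d], by
      intro i j h
      fin_cases i <;> fin_cases j <;>
        simp [hab, hbc, hac, had, hbd, hcd, hab.symm, hbc.symm, hac.symm, had.symm, hbd.symm,
          hcd.symm] at h ⊢⟩
  have ha : R 0 = a := hR 0
  have hb : R 1 = b := hR 1
  have hc : R 2 = c := hR 2
  have hd : R 3 = d := hR 3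
  subst ha hb hc hd
  set q := sub R ![3, 4, 5, 6] (by decide) with hq
  have hf1 : ∀ u ∈ S.line (R 0) (R 1), S.T q u = u := fun u hu => by
    have h := S.line_fixed (sub R ![0, 1, 2, 7, 3, 4, 5, 6] (by decide)) hu
    convert h using 3
    exact emb4_ext rfl rfl rfl rfl
  have hf2 : ∀ u ∈ S.line (R 0) (R 2), S.T q u = u := fun u hu => by
    have h := S.line_fixed (sub R ![0, 2, 1, 7, 3, 4, 5, 6] (by decide)) hu
    convert h using 3
    exact emb4_ext rfl rfl rfl rfl
  have hmap := S.line_map hr (S.rel q) (R.injective.ne (show (0 : Fin 8) ≠ 3 by decide))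
  have g1 : dbl q (R 0) = R 0 := by
    rw [hq, dbl_sub, viaEmbeddingHom_apply, viaEmbedding_apply]; rfl
  have g2 : dbl q (R 3) = R 4 := by
    rw [hq, dbl_sub, viaEmbeddingHom_apply, viaEmbedding_apply]; rfl
  rw [g1, g2] at hmap
  have hle : S.line (R 0) (R 3) ≤ S.line (R 0) (R 4) := by
    intro v hv
    obtain ⟨x, hx, y, hy, hxy⟩ := Submodule.mem_sup.1 (h hv)
    rw [← hmap]
    refine ⟨v, hv, ?_⟩
    rw [← hxy, map_add, hf1 x hx, hf2 y hy]
  have e := Submodule.eq_of_le_of_finrank_le hle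
    (by rw [S.line_finrank hr (R.injective.ne (by decide)),
      S.line_finrank hr (R.injective.ne (by decide))])
  exact S.line_ne hr (R.injective.ne (by decide)) (R.injective.ne (by decide))
    (R.injective.ne (by decide)) e

/-- Planes of double transpositions give lines. -/
def toLineSystem (hr : 9 ≤ r) : LineSystem D where
  line := S.line
  finrank_eq _ _ h := S.line_finrank hr h
  symm a b _ := S.line_symm (by omega) a b
  equiv hG _ _ _ v hv := S.line_equiv (by omega) hG v hv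
  ne _ _ _ hab hbc hac := S.line_ne hr hab hbc hac
  coplanar _ _ _ hab hbc hac := S.coplanar hr hab hbc hac
  plane _ _ _ _ hab hac had hbc hbd hcd := S.plane hr hab hac had hbc hbd hcd

end InvSys

end Cfsg.Agent.AltSection
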