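import Cfsg.Agent.Lib.Transfer.AltSection.VBlocks
import Cfsg.Agent.Lib.Transfer.AltSection.InvolPlanes

/-!
The bound in characteristic three.
-/

namespace Cfsg.Agent.AltSection

open Equiv Equiv.Perm Module

variable {L : Type*} [Field L] {V : Type*} [AddCommGroup V] [Module L V] {r : ℕ}

theorem exists_blocks_eight (hr : 8 ≤ r) (R : Fin 8 ↪ Fin r) :
    ∃ (b : Fin (r / 4) × Fin 4 ↪ Fin r) (i j : Fin (r / 4)), i ≠ j ∧
      quad b i = sub R ![0, 1, 2, 3] (by decide) ∧ quad b j = sub R ![4, 5, 6, 7] (by decide) := by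
  obtain ⟨b₀⟩ : Nonempty (Fin (r / 4) × Fin 4 ↪ Fin r) := Function.Embedding.nonempty_of_card_le
    (by simp only [Fintype.card_prod, Fintype.card_fin]; omega)
  have h2 : 2 ≤ r / 4 := by omega
  let e : Fin 8 → Fin 2 × Fin 4 :=
    ![(0, 0), (0, 1), (0, 2), (0, 3), (1, 0), (1, 1), (1, 2), (1, 3)]
  have he : Function.Injective e := by decide
  obtain ⟨g, hg⟩ := exists_perm (fun x => b₀ (Fin.castLE h2 (e x).1, (e x).2)) (fun x => R x)
    (fun x y hxy => he (Prod.ext (Fin.castLE_injective h2 (Prod.ext_iff.1 (b₀.injective hxy)).1)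
      (Prod.ext_iff.1 (b₀.injective hxy)).2)) R.injective
  refine ⟨b₀.trans g.toEmbedding, Fin.castLE h2 0, Fin.castLE h2 1, fun h => ?_, ?_, ?_⟩
  · exact absurd (Fin.castLE_injective h2 h) (by decide)
  · exact emb4_ext (hg 0) (hg 1) (hg 2) (hg 3)
  · exact emb4_ext (hg 4) (hg 5) (hg 6) (hg 7)

theorem add_one_ne_fin_three : ∀ c : Fin 3, c + 1 ≠ c := by decide

theorem vchi_neg {c a : Fin 3} (h : a ≠ c) : vchi (L := L) (some c) a = -1 := if_neg h

variable [IsAlgClosed L] [FiniteDimensional L V] {D : Setup L V r} {p : ℕ} [CharP L p]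

/-- A weight meeting the moved space of one involution. -/
theorem vSys_meet (C : Ctx D p) (b : Fin (r / 4) × Fin 4 ↪ Fin r) (i : Fin (r / 4)) (a : Fin 3)
    {w : Fin (r / 4) → Option (Fin 3)} {v : V}
    (hv : v ∈ (vSys b C).W w) (hv' : Mq D (quad b i) a v = -v) (hv0 : v ≠ 0) :
    ∃ c, c ≠ a ∧ w = vsingle i c := by
  classical
  have h := (vSys b C).mem_W.1 hv i a
  rw [vSys_T, hv'] at h
  have hne : (1 : L) ≠ -1 := fun e => C.two_ne (by linear_combination e)
  have h' : (-1 : L) = vchi (w i) a := by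
    refine smul_left_injective L hv0 (show (-1 : L) • v = vchi (w i) a • v from ?_)
    rw [neg_smul, one_smul]; exact h
  rcases hwi : w i with _ | c
  · rw [hwi] at h'; exact absurd h'.symm hne
  have hca : c ≠ a := by
    rintro rfl
    rw [hwi] at h'
    simp [vchi] at h'
    exact hne h'.symm
  refine ⟨c, hca, funext fun j => ?_⟩
  rcases eq_or_ne j i with rfl | hj
  · simp [vsingle, hwi]
  rw [vsingle, Function.update_of_ne hj]
  by_contra hwj
  refine hv0 ?_
  have hbig := vSys_no_big C b w (Finset.one_lt_card.2 ⟨i, ?_, j, ?_, hj.symm⟩)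
  · rw [hbig] at hv; exact (Submodule.mem_bot L).1 hv
  · exact Finset.mem_filter.2 ⟨Finset.mem_univ _, by rw [vSys_o, hwi]; exact Option.some_ne_none c⟩
  · exact Finset.mem_filter.2 ⟨Finset.mem_univ _, hwj⟩

/-- The facts about two disjoint quadruples. -/
theorem quad_facts (C : Ctx D p) (R : Fin 8 ↪ Fin r) :
    finrank L (Module.End.eigenspace (Mq D (sub R ![0, 1, 2, 3] (by decide)) 0) (-1)) = 2 ∧
      ∀ v ∈ Module.End.eigenspace (Mq D (sub R ![0, 1, 2, 3] (by decide)) 0) (-1),
        Mq D (sub R ![4, 5, 6, 7] (by decide)) 0 v = v := by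
  classical
  obtain ⟨b, i, j, hij, hi, hj⟩ := exists_blocks_eight (by have := C.nine; omega) R
  rw [← hi, ← hj]
  set S := vSys b C with hS
  have hmeet : ∀ w, w ≠ vsingle i 1 → w ≠ vsingle i 2 →
      Module.End.eigenspace (S.T i 0) (-1) ⊓ S.W w = ⊥ := by
    intro w hw1 hw2
    rw [Submodule.eq_bot_iff]
    rintro v ⟨hv1, hv2⟩
    by_contra hv0
    rw [SetLike.mem_coe, Module.End.mem_eigenspace_iff, neg_smul, one_smul] at hv1
    obtain ⟨c, hc, rfl⟩ := vSys_meet C b i 0 hv2 hv1 hv0
    fin_cases c
    · exact hc rfl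
    · exact hw1 rfl
    · exact hw2 rfl
  have hne : vsingle i 1 ≠ vsingle i 2 := fun h => by
    simpa [vsingle] using congrFun h i
  refine ⟨le_antisymm ?_ ?_, ?_⟩
  · refine (S.finrank_le_sum (S.stable_eigenspace i 0 (-1)) {vsingle i 1, vsingle i 2}
      fun w hw => ?_).trans ?_
    · simp only [Finset.mem_insert, Finset.mem_singleton, not_or] at hw
      exact hmeet w hw.1 hw.2
    · rw [Finset.sum_pair hne, hS, vSys_single C b i 1, vSys_single C b i 2]
  · refine le_trans ?_ (S.sum_le_of_le (E := Module.End.eigenspace (S.T i 0) (-1))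
      {vsingle i 1, vsingle i 2} fun w hw => ?_)
    · rw [Finset.sum_pair hne, hS, vSys_single C b i 1, vSys_single C b i 2]
    · intro v hv
      rw [Module.End.mem_eigenspace_iff, S.mem_W.1 hv i 0]
      simp only [Finset.mem_insert, Finset.mem_singleton] at hw
      rcases hw with rfl | rfl <;>
        (congr 1; simp [hS, vSys, vsingle, vchi])
  · refine S.trivial_on (S.stable_eigenspace i 0 (-1)) j (fun w hwj => hmeet w ?_ ?_) 0
    · intro h; rw [h, vsingle, Function.update_of_ne hij.symm] at hwj; exact hwj rfl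
    · intro h; rw [h, vsingle, Function.update_of_ne hij.symm] at hwj; exact hwj rfl

/-- The fixed space of a four-group. -/
noncomputable def vFix (D : Setup L V r) (Q : Fin 4 ↪ Fin r) : Submodule L V :=
  ⨅ a, Module.End.eigenspace (Mq D Q a) 1

/-- The moved space of a four-group. -/
noncomputable def vMoved (D : Setup L V r) (Q : Fin 4 ↪ Fin r) : Submodule L V :=
  ⨆ a, Module.End.eigenspace (Mq D Q a) (-1)

theorem vFix_eq (C : Ctx D p) (hk : r / 4 = 2) (hn : finrank L V ≤ 6) (R : Fin 8 ↪ Fin r) :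
    vFix D (sub R ![0, 1, 2, 3] (by decide)) = vMoved D (sub R ![4, 5, 6, 7] (by decide)) ∧
      3 ≤ finrank L (vFix D (sub R ![0, 1, 2, 3] (by decide))) ∧
      vFix D (sub R ![0, 1, 2, 3] (by decide)) ⊓ vFix D (sub R ![4, 5, 6, 7] (by decide)) = ⊥ := by
  classical
  obtain ⟨b, i, j, hij, hi, hj⟩ := exists_blocks_eight (by have := C.nine; omega) R
  rw [← hi, ← hj]
  set S := vSys b C with hS
  have hall : ∀ l : Fin (r / 4), l = i ∨ l = j := fun l => by
    by_contra hno
    simp only [not_or] at hno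
    have h3 := Finset.card_le_univ ({l, i, j} : Finset (Fin (r / 4)))
    rw [Finset.card_eq_three.2 ⟨l, i, j, hno.1, hno.2, hij, rfl⟩, Fintype.card_fin] at h3
    omega
  have hzero : S.W (fun _ => none) = ⊥ := by
    have hnot : (fun _ => none : Fin (r / 4) → Option (Fin 3)) ∉
        Finset.univ.image (fun q : Fin (r / 4) × Fin 3 => vsingle q.1 q.2) := by
      simp only [Finset.mem_image, Finset.mem_univ, true_and, not_exists]
      intro q h
      simpa [vsingle] using congrFun h q.1
    have h := S.sum_le (insert (fun _ => none)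
      (Finset.univ.image (fun q : Fin (r / 4) × Fin 3 => vsingle q.1 q.2)))
    rw [Finset.sum_insert hnot, Finset.sum_image] at h
    · rw [Finset.sum_congr rfl (fun q _ => vSys_single C b q.1 q.2)] at h
      simp [hk] at h
      rw [← Submodule.finrank_eq_zero (R := L)]
      omega
    · rintro ⟨l, c⟩ - ⟨l', c'⟩ - h
      have h1 := congrFun h l
      simp only [vsingle, Function.update_self] at h1
      rcases eq_or_ne l l' with rfl | hl
      · simp at h1; rw [h1]
      · rw [Function.update_of_ne hl] at h1; cases h1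
  have hF : ∀ l m : Fin (r / 4), l ≠ m → (∀ x, x = l ∨ x = m) →
      vFix D (quad b l) ≤ ⨆ w ∈ Finset.univ.image (vsingle m), S.W w := by
    intro l m hlm hlm'
    refine S.le_iSup_of_stable ?_ _ fun w hw => ?_
    · intro x a v hv
      simp only [vFix, Submodule.mem_iInf] at hv ⊢
      exact fun a' => S.stable_eigenspace l a' 1 x a v (hv a')
    rw [Submodule.eq_bot_iff]
    rintro v ⟨hv1, hv2⟩
    by_contra hv0
    rw [SetLike.mem_coe, vFix] at hv1
    simp only [Submodule.mem_iInf, Module.End.mem_eigenspace_iff, one_smul] at hv1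
    have hwl : w l = none := by
      rcases hwl : w l with _ | c
      · rfl
      exfalso
      obtain ⟨a, ha⟩ : ∃ a : Fin 3, a ≠ c := ⟨c + 1, add_one_ne_fin_three c⟩
      have h := S.mem_W.1 hv2 l a
      have hT : S.T l a v = v := hv1 a
      rw [hT, hwl] at h
      have hne : (1 : L) ≠ -1 := fun e => C.two_ne (by linear_combination e)
      refine hne ((smul_left_injective L hv0
        (show (1 : L) • v = S.χ (some c) a • v by rw [one_smul]; exact h)).trans ?_)
      exact vchi_neg ha
    rcases hwm : w m with _ | c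
    · refine hv0 ?_
      have e : w = fun _ => none := funext fun x => by rcases hlm' x with rfl | rfl <;> assumption
      rw [e, hzero] at hv2
      exact (Submodule.mem_bot L).1 hv2
    · refine hw (Finset.mem_image.2 ⟨c, Finset.mem_univ _, funext fun x => ?_⟩)
      rcases hlm' x with rfl | rfl
      · simp [vsingle, hlm, hwl]
      · simp [vsingle, hwm]
  have hW : ∀ c, S.W (vsingle j c) ≤ vFix D (quad b i) := fun c v hv => by
    rw [vFix]
    simp only [Submodule.mem_iInf, Module.End.mem_eigenspace_iff]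
    intro a
    have h := S.mem_W.1 hv i a
    simpa [hS, vSys, vsingle, Function.update_of_ne hij, vchi] using h
  refine ⟨le_antisymm ((hF i j hij hall).trans (iSup₂_le fun w hw => ?_)) (iSup_le fun a => ?_),
    ?_, ?_⟩
  · obtain ⟨c, -, rfl⟩ := Finset.mem_image.1 hw
    obtain ⟨a, ha⟩ : ∃ a : Fin 3, a ≠ c := ⟨c + 1, add_one_ne_fin_three c⟩
    refine le_trans ?_ (le_iSup (fun a => Module.End.eigenspace (Mq D (quad b j) a) (-1)) a)
    intro v hv
    have h := S.mem_W.1 hv j a
    rw [Module.End.mem_eigenspace_iff]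
    simpa [hS, vSys, vsingle, vchi, ha] using h
  · refine (S.le_iSup_of_stable (S.stable_eigenspace j a (-1)) (Finset.univ.image (vsingle j))
      fun w hw => ?_).trans (iSup₂_le fun w hw => ?_)
    · rw [Submodule.eq_bot_iff]
      rintro v ⟨hv1, hv2⟩
      by_contra hv0
      rw [SetLike.mem_coe, Module.End.mem_eigenspace_iff, neg_smul, one_smul] at hv1
      obtain ⟨c, -, rfl⟩ := vSys_meet C b j a hv2 hv1 hv0
      exact hw (Finset.mem_image_of_mem _ (Finset.mem_univ c))
    · obtain ⟨c, -, rfl⟩ := Finset.mem_image.1 hw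
      exact hW c
  · have h := S.sum_le_of_le (E := vFix D (quad b i)) (Finset.univ.image (vsingle j)) fun w hw => by
      obtain ⟨c, -, rfl⟩ := Finset.mem_image.1 hw
      exact hW c
    rw [Finset.sum_image (fun c _ c' _ h => by simpa [vsingle] using congrFun h j),
      Finset.sum_congr rfl (fun c _ => vSys_single C b j c)] at h
    simpa using h
  · refine S.eq_bot_of_stable ?_ fun w => ?_
    · intro x a v hv
      simp only [vFix, Submodule.mem_inf, Submodule.mem_iInf] at hv ⊢
      exact ⟨fun a' => S.stable_eigenspace i a' 1 x a v (hv.1 a'),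
        fun a' => S.stable_eigenspace j a' 1 x a v (hv.2 a')⟩
    rw [Submodule.eq_bot_iff]
    rintro v ⟨⟨hv1, hv2⟩, hv3⟩
    by_contra hv0
    have hnone : ∀ l, v ∈ vFix D (quad b l) → w l = none := by
      intro l hvl
      rw [vFix] at hvl
      simp only [Submodule.mem_iInf, Module.End.mem_eigenspace_iff, one_smul] at hvl
      rcases hwl : w l with _ | c
      · rfl
      exfalso
      obtain ⟨a, ha⟩ : ∃ a : Fin 3, a ≠ c := ⟨c + 1, add_one_ne_fin_three c⟩
      have h := S.mem_W.1 hv3 l a
      have hT : S.T l a v = v := hvl a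
      rw [hT, hwl] at h
      have hne : (1 : L) ≠ -1 := fun e => C.two_ne (by linear_combination e)
      refine hne ((smul_left_injective L hv0
        (show (1 : L) • v = S.χ (some c) a • v by rw [one_smul]; exact h)).trans ?_)
      exact vchi_neg ha
    have e : w = fun _ => none := funext fun x => by
      rcases hall x with rfl | rfl
      · exact hnone _ hv1
      · exact hnone _ hv2
    rw [e, hzero] at hv3
    exact hv0 ((Submodule.mem_bot L).1 hv3)

theorem seven_le (C : Ctx D p) : 7 ≤ finrank L V := by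
  classical
  have hr := C.nine
  obtain ⟨b⟩ : Nonempty (Fin (r / 4) × Fin 4 ↪ Fin r) := Function.Embedding.nonempty_of_card_le
    (by simp only [Fintype.card_prod, Fintype.card_fin]; omega)
  let i : Fin (r / 4) := ⟨0, by omega⟩
  have h := (vSys b C).sum_le (Finset.univ.image (fun q : Fin (r / 4) × Fin 3 => vsingle q.1 q.2))
  rw [Finset.sum_image, Finset.sum_congr rfl (fun q _ => vSys_single C b q.1 q.2)] at h
  rotate_left
  · rintro ⟨l, c⟩ - ⟨l', c'⟩ - h
    have h1 := congrFun h l
    simp only [vsingle, Function.update_self] at h1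
    rcases eq_or_ne l l' with rfl | hl
    · simp at h1; rw [h1]
    · rw [Function.update_of_ne hl] at h1; cases h1
  simp at h
  by_contra hn
  have hk : r / 4 = 2 := by omega
  obtain ⟨R⟩ := exists_config (r := r) 9 hr
  have step : ∀ (q : Fin 4 → Fin 9) (q' : Fin 4 → Fin 9) (hq : Function.Injective q)
      (hq' : Function.Injective q') (o : Fin 4 → Fin 9) (ho : Function.Injective (Fin.append q o))
      (ho' : Function.Injective (Fin.append q' o)),
      vFix D (sub R q hq) = vFix D (sub R q' hq') := by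
    intro q q' hq hq' o ho ho'
    have e1 := (vFix_eq C hk (by omega) (sub R (Fin.append q o) ho)).1
    have e2 := (vFix_eq C hk (by omega) (sub R (Fin.append q' o) ho')).1
    have k1 : sub (sub R (Fin.append q o) ho) ![0, 1, 2, 3] (by decide) = sub R q hq :=
      emb4_ext rfl rfl rfl rfl
    have k2 : sub (sub R (Fin.append q' o) ho') ![0, 1, 2, 3] (by decide) = sub R q' hq' :=
      emb4_ext rfl rfl rfl rfl
    have k3 : sub (sub R (Fin.append q' o) ho') ![4, 5, 6, 7] (by decide) =
        sub (sub R (Fin.append q o) ho) ![4, 5, 6, 7] (by decide) := emb4_ext rfl rfl rfl rfl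
    rw [← k1, ← k2, e1, e2, k3]
  have e : vFix D (sub R ![0, 1, 2, 3] (by decide)) = vFix D (sub R ![4, 5, 6, 7] (by decide)) :=
    (step _ ![4, 1, 2, 3] _ (by decide) ![5, 6, 7, 8] (by decide) (by decide)).trans
      ((step _ ![4, 5, 2, 3] _ (by decide) ![0, 6, 7, 8] (by decide) (by decide)).trans
        ((step _ ![4, 5, 6, 3] _ (by decide) ![0, 1, 7, 8] (by decide) (by decide)).trans
          (step _ _ _ _ ![0, 1, 2, 8] (by decide) (by decide))))
  obtain ⟨-, h3, h0⟩ := vFix_eq C hk (by omega) (sub R ![0, 1, 2, 3, 4, 5, 6, 7] (by decide))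
  have k1 : sub (sub R ![0, 1, 2, 3, 4, 5, 6, 7] (by decide)) ![0, 1, 2, 3] (by decide) =
      sub R ![0, 1, 2, 3] (by decide) := emb4_ext rfl rfl rfl rfl
  have k2 : sub (sub R ![0, 1, 2, 3, 4, 5, 6, 7] (by decide)) ![4, 5, 6, 7] (by decide) =
      sub R ![4, 5, 6, 7] (by decide) := emb4_ext rfl rfl rfl rfl
  rw [k1] at h3
  rw [k1, k2, ← e, inf_idem] at h0
  rw [h0, finrank_bot] at h3
  omega

/-- The bound in characteristic three. -/
theorem bound_char_three (D : Setup L V r) (p : ℕ) [CharP L p] (hr : 9 ≤ r) (h3 : (3 : L) = 0) :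
    r - 1 - (if p ∣ r then 1 else 0) ≤ finrank L V := by
  by_contra hcon
  have C : Ctx D p := ⟨hr, h3, by omega⟩
  let IS : InvSys D := {
    two_ne := C.two_ne
    seven := seven_le C
    T := fun Q => Mq D Q 0
    rel := fun Q => (C.triple Q).1 0
    sq := fun Q => (C.triple Q).2.1 0
    dim := fun Q => by
      obtain ⟨R, hR⟩ := exists_append (r := r) (show 4 ≤ 8 by norm_num) (by omega) Q
      have e : sub R ![0, 1, 2, 3] (by decide) = Q := emb4_ext (hR 0) (hR 1) (hR 2) (hR 3)
      have h := (quad_facts C R).1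
      rwa [e] at h
    equiv := fun hG Q => C.conj hG Q 0
    fixed := fun R => (quad_facts C R).2 }
  exact hcon ((IS.toLineSystem hr).bound p (by omega))

end Cfsg.Agent.AltSection
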