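import Cfsg.Agent.Lib.Transfer.AltSection.Three

/-!
Canonical lifts of the Klein four-groups on four points in characteristic different from two.
-/

namespace Cfsg.Agent.AltSection

open Equiv Equiv.Perm Module

variable {L : Type*} [Field L] {V : Type*} [AddCommGroup V] [Module L V] {r : ℕ}

/-- The three double transpositions of four points. -/
def vf : Fin 3 → Perm (Fin 4) := ![swap 0 1 * swap 2 3, swap 0 2 * swap 1 3, swap 0 3 * swap 1 2]

/-- The rotation of the last three of four points. -/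
def xf : Perm (Fin 4) := swap 1 2 * swap 2 3

theorem vf_facts :
    (∀ a, sign (vf a) = 1 ∧ vf a * vf a = 1 ∧ xf * vf a = vf (a + 1) * xf ∧ vf a ≠ 1) ∧
      (∀ a b, vf a * vf b = vf b * vf a) ∧ vf 0 * vf 1 = vf 2 ∧ sign xf = 1 ∧ xf ^ 3 = 1 ∧
        ∀ a b, vf a = vf b → a = b := by
  decide

/-- A permutation of four points induces a permutation of the double transpositions and sends
the rotation to a power of it times a double transposition. -/
theorem vf_reorder : ∀ e : Perm (Fin 4), ∃ j : Fin 3, j ≠ 0 ∧ ∃ c : Fin 3,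
    (e * vf 0 * e⁻¹ = vf c ∧ e * vf 1 * e⁻¹ = vf (c + j) ∧ e * vf 2 * e⁻¹ = vf (c + j + j)) ∧
      ∃ w : Option (Fin 3), e * xf * e⁻¹ = xf ^ (j : ℕ) * (w.elim 1 vf) := by
  decide

theorem vf_move : ∀ c c' : Fin 3, ∃ e : Perm (Fin 4), e * vf c * e⁻¹ = vf c' := by decide

theorem vf_odd_fix : ∀ c : Fin 3, ∃ e : Perm (Fin 4), sign e = -1 ∧ e * vf c * e⁻¹ = vf c := by
  decide

/-- Transport of permutations along an embedding commutes with conjugation. -/
theorem conj_via {m : ℕ} (Q : Fin m ↪ Fin r) (g : Perm (Fin r)) (σ : Perm (Fin m)) :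
    g * viaEmbeddingHom Q σ * g⁻¹ = viaEmbeddingHom (Q.trans g.toEmbedding) σ := by
  rw [mul_inv_eq_iff_eq_mul]
  ext x
  simp only [Perm.mul_apply, viaEmbeddingHom_apply]
  refine congrArg Fin.val ?_
  by_cases hx : x ∈ Set.range Q
  · obtain ⟨y, rfl⟩ := hx
    rw [viaEmbedding_apply]
    exact (viaEmbedding_apply σ (Q.trans g.toEmbedding) y).symm
  · rw [viaEmbedding_apply_of_notMem _ _ _ hx, viaEmbedding_apply_of_notMem]
    rintro ⟨y, hy⟩
    exact hx ⟨y, g.injective hy⟩

theorem via_reorder {m : ℕ} (Q : Fin m ↪ Fin r) (e σ : Perm (Fin m)) :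
    viaEmbeddingHom (e.toEmbedding.trans Q) σ = viaEmbeddingHom Q (e * σ * e⁻¹) := by
  ext x
  simp only [viaEmbeddingHom_apply]
  refine congrArg Fin.val ?_
  by_cases hx : x ∈ Set.range Q
  · obtain ⟨y, rfl⟩ := hx
    rw [viaEmbedding_apply]
    have h := viaEmbedding_apply σ (e.toEmbedding.trans Q) (e⁻¹ y)
    simp only [Function.Embedding.trans_apply, Equiv.toEmbedding_apply] at h
    simpa [Perm.mul_apply] using h
  · rw [viaEmbedding_apply_of_notMem _ _ _ hx, viaEmbedding_apply_of_notMem]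
    rintro ⟨y, hy⟩
    exact hx ⟨e y, hy⟩

theorem via_sign {m : ℕ} (Q : Fin m ↪ Fin r) (σ : Perm (Fin m)) :
    sign (viaEmbeddingHom Q σ) = sign σ := by
  rw [viaEmbeddingHom_apply]
  unfold viaEmbedding
  convert sign_extendDomain _ _

theorem via_support {m : ℕ} (Q : Fin m ↪ Fin r) (σ : Perm (Fin m)) {x : Fin r}
    (hx : x ∉ Set.range Q) : viaEmbeddingHom Q σ x = x := by
  rw [viaEmbeddingHom_apply, viaEmbedding_apply_of_notMem _ _ _ hx]

theorem via_swap {m : ℕ} (Q : Fin m ↪ Fin r) (x y : Fin m) :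
    viaEmbeddingHom Q (swap x y) = swap (Q x) (Q y) := by
  ext z
  rw [viaEmbeddingHom_apply]
  refine congrArg Fin.val ?_
  by_cases hz : z ∈ Set.range Q
  · obtain ⟨w, rfl⟩ := hz
    rw [viaEmbedding_apply]
    exact Q.injective.map_swap x y w |>.trans rfl
  · rw [viaEmbedding_apply_of_notMem _ _ _ hz, swap_apply_of_ne_of_ne] <;>
      exact fun h => hz ⟨_, h.symm⟩

/-- The double transposition of a quadruple pairing the first two and the last two points. -/
noncomputable def dbl (Q : Fin 4 ↪ Fin r) : Perm (Fin r) := viaEmbeddingHom Q (vf 0)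

theorem dbl_eq (Q : Fin 4 ↪ Fin r) : dbl Q = swap (Q 0) (Q 1) * swap (Q 2) (Q 3) := by
  rw [dbl, show vf 0 = swap 0 1 * swap 2 3 from rfl, map_mul, via_swap, via_swap]

theorem dbl_sq (Q : Fin 4 ↪ Fin r) : dbl Q * dbl Q = 1 := by
  rw [dbl, ← map_mul, (vf_facts.1 0).2.1, map_one]

theorem sign_dbl (Q : Fin 4 ↪ Fin r) : sign (dbl Q) = 1 := by
  rw [dbl, via_sign, (vf_facts.1 0).1]

/-- The scalar of two lifts is transported by conjugation. -/
theorem scalar_transport (D : Setup L V r) (hr : 3 ≤ r) {σ τ σ' τ' g : Perm (Fin r)}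
    {A B A' B' G : Module.End L V} {z : L} (hA : D.rel σ A) (hB : D.rel τ B) (hA' : D.rel σ' A')
    (hB' : D.rel τ' B') (hG : D.rel g G) (hgσ : g * σ = σ' * g) (hgτ : g * τ = τ' * g)
    (h : A * B = z • (B * A)) : A' * B' = z • (B' * A') := by
  obtain ⟨x, hx0, hx⟩ := D.unique (D.mul hG hA) (hgσ ▸ D.mul hA' hG)
  obtain ⟨y, hy0, hy⟩ := D.unique (D.mul hG hB) (hgτ ▸ D.mul hB' hG)
  have e1 : G * (A * B) = (x * y) • (A' * B' * G) := by
    rw [← mul_assoc, hx, smul_mul_assoc, mul_assoc, hy, mul_smul_comm, smul_smul, mul_assoc]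
  have e2 : G * (A * B) = (z * y * x) • (B' * A' * G) := by
    rw [h, mul_smul_comm, ← mul_assoc, hy, smul_mul_assoc, mul_assoc, hx, mul_smul_comm, smul_smul,
      smul_smul, mul_assoc]
    simp only [mul_assoc]
  rw [e1] at e2
  have e3 : (x * y) • (A' * B') = (x * y) • (z • (B' * A')) := by
    refine D.right_cancel hr hG ?_
    rw [smul_mul_assoc, smul_mul_assoc, smul_mul_assoc, e2, smul_smul]
    congr 1
    ring
  exact smul_right_injective _ (mul_ne_zero hx0 hy0) e3

variable [IsAlgClosed L] [FiniteDimensional L V]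

/-- Lifts of an involution and a three-cycle that commute, commute. -/
theorem commute_involution_tri (D : Setup L V r) (hr : 3 ≤ r) {t y : Perm (Fin r)}
    (ht : t * t = 1) (hy : y ^ 3 = 1) (hc : t * y = y * t) {A Y : Module.End L V}
    (hA : D.rel t A) (hY : D.rel y Y) : A * Y = Y * A := by
  obtain ⟨z, hz0, hz⟩ := D.comm_scalar hA hY hc
  obtain ⟨a, ha0, ha⟩ := D.scalar_of_one (T := A ^ 2) (by rw [← ht, ← pow_two]; exact D.pow hA 2)
  obtain ⟨b, hb0, hb⟩ := D.scalar_of_one (T := Y ^ 3) (hy ▸ D.pow hY 3)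
  have h3 := D.comm_pow_eq_one hr hA hY hz hb hb0
  have h2 : z⁻¹ ^ 2 = 1 :=
    D.comm_pow_eq_one hr hY hA (by rw [hz, smul_smul, inv_mul_cancel₀ hz0, one_smul]) ha ha0
  rw [inv_pow, inv_eq_one] at h2
  rw [hz, root_trick (by decide : Odd 3) h3 h2, one_smul]

/-- Lifts of double transpositions on the same four points commute. -/
theorem commute_same (D : Setup L V r) (hr : 9 ≤ r) (h5 : (5 : L) ≠ 0)
    (hn : finrank L V + 2 ≤ r) (Q : Fin 4 ↪ Fin r) (a b : Fin 3) {A B : Module.End L V}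
    (hA : D.rel (viaEmbeddingHom Q (vf a)) A) (hB : D.rel (viaEmbeddingHom Q (vf b)) B) :
    A * B = B * A := by
  have : Fact (Nat.Prime 5) := ⟨by norm_num⟩
  obtain ⟨z, -, hz⟩ := D.comm_scalar hA hB
    (by rw [← map_mul, ← map_mul, vf_facts.2.1 a b])
  obtain ⟨b'⟩ : Nonempty (Fin 1 × ZMod 5 ↪ {x // x ∉ Finset.univ.map Q}) :=
    Function.Embedding.nonempty_of_card_le (by
      rw [Fintype.card_subtype_compl, Fintype.card_coe]
      simp only [Fintype.card_prod, Fintype.card_fin, ZMod.card, Finset.card_map, Finset.card_univ]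
      omega)
  let b5 : Fin 1 × ZMod 5 ↪ Fin r := b'.trans (Function.Embedding.subtype _)
  obtain ⟨S⟩ := exists_cycleSys D (by omega) (by norm_num) (by exact_mod_cast h5) (by omega) b5
  have hg := good_rot b5 (by omega) 0
  have hline := five_lines D hr h5 hn hg (S.canon 0) (S.psi_pow 1) (S.psi_ne_one one_ne_zero)
  have hcm : ∀ c, viaEmbeddingHom Q (vf c) * rot b5 0 1 = rot b5 0 1 * viaEmbeddingHom Q (vf c) := by
    intro c
    refine (Perm.Disjoint.commute fun x => ?_).eq
    by_cases hx : x ∈ Set.range Q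
    · refine Or.inr (rot_apply_of_notMem b5 0 1 ?_)
      rintro ⟨p, rfl⟩
      obtain ⟨y, hy⟩ := hx
      exact (b' p).2 (Finset.mem_map.2 ⟨y, Finset.mem_univ _, hy⟩)
    · exact Or.inl (via_support Q _ hx)
  obtain ⟨α, hα⟩ := line_scalar hline rfl
    (commute_centralizer D (by omega) (by norm_num) (by norm_num) hg (hcm a) (D.sign_eq hA)
      (S.canon 0).1 hA)
  obtain ⟨β, hβ⟩ := line_scalar hline rfl
    (commute_centralizer D (by omega) (by norm_num) (by norm_num) hg (hcm b) (D.sign_eq hB)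
      (S.canon 0).1 hB)
  have hne : Module.End.eigenspace (S.B.T 0 1) (S.ψ 1) ≠ ⊥ := fun h => by
    rw [h, finrank_bot] at hline; omega
  obtain ⟨v, hv, hv0⟩ := (Submodule.ne_bot_iff _).1 hne
  have hα0 : α ≠ 0 := fun h => hv0 (D.injective (by omega) hA
    (by rw [hα v hv, h, zero_smul, map_zero]))
  have hβ0 : β ≠ 0 := fun h => hv0 (D.injective (by omega) hB
    (by rw [hβ v hv, h, zero_smul, map_zero]))
  have e := LinearMap.congr_fun hz v
  simp only [Module.End.mul_apply, LinearMap.smul_apply, hα v hv, hβ v hv, map_smul,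
    smul_smul] at e
  have e' := smul_left_injective L hv0 e
  have hz1 : z = 1 := mul_right_cancel₀ (mul_ne_zero hα0 hβ0) (by linear_combination -e')
  rw [hz, hz1, one_smul]

omit [IsAlgClosed L] [FiniteDimensional L V] in
theorem vf_perm : ∃ e₁ e₂ : Perm (Fin 4), sign e₁ = -1 ∧ sign e₂ = -1 ∧
    e₁ * vf 0 = vf 1 * e₁ ∧ e₂ * vf 0 = vf 2 * e₂ := by
  decide

omit [IsAlgClosed L] [FiniteDimensional L V] in
theorem vf_odd_comm : ∀ b : Fin 3, ∃ e : Perm (Fin 4), sign e = -1 ∧ e * vf b = vf b * e := by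
  decide

omit [IsAlgClosed L] [FiniteDimensional L V] in
/-- Lifts of double transpositions on disjoint quadruples commute. -/
theorem commute_off (D : Setup L V r) (hr : 3 ≤ r) (Q Q' : Fin 4 ↪ Fin r)
    (hd : ∀ i j, Q i ≠ Q' j) (a b : Fin 3) {A B : Module.End L V}
    (hA : D.rel (viaEmbeddingHom Q (vf a)) A) (hB : D.rel (viaEmbeddingHom Q' (vf b)) B) :
    A * B = B * A := by
  have hdis : ∀ σ τ : Perm (Fin 4), viaEmbeddingHom Q σ * viaEmbeddingHom Q' τ =
      viaEmbeddingHom Q' τ * viaEmbeddingHom Q σ := by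
    intro σ τ
    refine (Perm.Disjoint.commute fun x => ?_).eq
    by_cases hx : x ∈ Set.range Q
    · refine Or.inr (via_support Q' _ ?_)
      rintro ⟨j, rfl⟩
      obtain ⟨i, hi⟩ := hx
      exact hd i j hi
    · exact Or.inl (via_support Q _ hx)
  choose M hM using fun c => D.exists_lift (viaEmbeddingHom Q (vf c))
    (by rw [via_sign, (vf_facts.1 c).1])
  obtain ⟨z0, -, h0⟩ := D.comm_scalar (hM 0) hB (hdis _ _)
  obtain ⟨e1, e2, hs1, hs2, he1, he2⟩ := vf_perm
  obtain ⟨f, hfs, hf⟩ := vf_odd_comm b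
  have move : ∀ c (e : Perm (Fin 4)), sign e = -1 → e * vf 0 = vf c * e →
      M c * B = z0 • (B * M c) := by
    intro c e hes he
    obtain ⟨G, hG⟩ := D.exists_lift (viaEmbeddingHom Q e * viaEmbeddingHom Q' f)
      (by rw [map_mul, via_sign, via_sign, hes, hfs]; decide)
    refine scalar_transport D hr (hM 0) hB (hM c) hB hG ?_ ?_ h0
    · rw [mul_assoc, ← hdis, ← mul_assoc, ← map_mul, he, map_mul, mul_assoc]
    · rw [mul_assoc, ← map_mul, hf, map_mul, ← mul_assoc, hdis, mul_assoc]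
  have h1 := move 1 e1 hs1 he1
  have h2 := move 2 e2 hs2 he2
  obtain ⟨μ, hμ0, hμ⟩ := D.unique (hM 2)
    (by rw [← vf_facts.2.2.1, map_mul]; exact D.mul (hM 0) (hM 1))
  have h2' : M 2 * B = (z0 * z0) • (B * M 2) := by
    rw [hμ, smul_mul_assoc, mul_assoc, h1, mul_smul_comm, ← mul_assoc, h0, smul_mul_assoc,
      smul_smul, smul_smul, mul_smul_comm, smul_smul, mul_assoc]
    congr 1
    ring
  have hz : z0 = 1 := by
    have e : z0 • (B * M 2) = (z0 * z0) • (B * M 2) := h2.symm.trans h2'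
    have e' := D.smul_cancel hr (D.mul hB (hM 2)) e
    have hz00 : z0 ≠ 0 := by
      intro hz
      rw [hz, zero_smul] at h0
      exact D.ne_zero hr (D.mul (hM 0) hB) h0
    exact mul_left_cancel₀ hz00 (by rw [mul_one]; exact e'.symm)
  subst hz
  have hall : ∀ c, M c * B = B * M c := by
    intro c
    fin_cases c
    · simpa using h0
    · simpa using h1
    · simpa using h2
  obtain ⟨ν, -, hν⟩ := D.unique hA (hM a)
  rw [hν, smul_mul_assoc, mul_smul_comm, hall a]

/-- The canonical lifts of the three double transpositions of a quadruple. -/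
def Triple (D : Setup L V r) (Q : Fin 4 ↪ Fin r) (M : Fin 3 → Module.End L V) : Prop :=
  (∀ a, D.rel (viaEmbeddingHom Q (vf a)) (M a)) ∧ (∀ a, M a * M a = 1) ∧ M 0 * M 1 = M 2 ∧
    ∀ R, D.rel (viaEmbeddingHom Q xf) R → ∀ a, R * M a = M (a + 1) * R

omit [IsAlgClosed L] [FiniteDimensional L V] in
theorem vf_rot (Q : Fin 4 ↪ Fin r) (a : Fin 3) :
    viaEmbeddingHom Q xf * viaEmbeddingHom Q (vf a) =
      viaEmbeddingHom Q (vf (a + 1)) * viaEmbeddingHom Q xf := by
  rw [← map_mul, (vf_facts.1 a).2.2.1, map_mul]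

theorem exists_triple (D : Setup L V r) (hr : 9 ≤ r) (h5 : (5 : L) ≠ 0)
    (hn : finrank L V + 2 ≤ r) (Q : Fin 4 ↪ Fin r) : ∃ M, Triple D Q M := by
  have hr3 : 3 ≤ r := by omega
  obtain ⟨A, hA, hA2⟩ := D.exists_pow_eq_one (σ := viaEmbeddingHom Q (vf 0)) (m := 2) (by norm_num)
    (by rw [pow_two, ← map_mul, (vf_facts.1 0).2.1, map_one])
    (by rw [via_sign, (vf_facts.1 0).1])
  obtain ⟨R, hR⟩ := D.exists_lift (viaEmbeddingHom Q xf) (by rw [via_sign, vf_facts.2.2.2.1])
  obtain ⟨R', hR', hR'R, hRR'⟩ := D.exists_inv hr3 hR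
  have hrot : ∀ a {X}, D.rel (viaEmbeddingHom Q (vf a)) X →
      D.rel (viaEmbeddingHom Q (vf (a + 1))) (R * X * R') := by
    intro a X hX
    have h := D.mul (D.mul hR hX) hR'
    rwa [vf_rot, mul_inv_cancel_right] at h
  set B := R * A * R' with hB
  set C := R * B * R' with hC
  have hAB : D.rel (viaEmbeddingHom Q (vf 1)) B := hrot 0 hA
  have hBC : D.rel (viaEmbeddingHom Q (vf 2)) C := hrot 1 hAB
  rw [pow_two] at hA2
  have hsq : ∀ X, X * X = 1 → (R * X * R') * (R * X * R') = 1 := by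
    intro X hX
    calc (R * X * R') * (R * X * R') = R * (X * ((R' * R) * X)) * R' := by simp only [mul_assoc]
      _ = 1 := by rw [hR'R, one_mul, hX, mul_one, hRR']
  have hB2 := hsq A hA2
  have hC2 := hsq B hB2
  obtain ⟨μ, hμ0, hμ⟩ := D.unique
    (by rw [← vf_facts.2.2.1, map_mul]; exact D.mul hA hAB) hBC
  have hμ2 : μ * μ = 1 := by
    have h : (A * B) * (A * B) = 1 := by
      calc (A * B) * (A * B) = (A * B) * (B * A) :=
            congrArg (A * B * ·) (commute_same D hr h5 hn Q 0 1 hA hAB)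
        _ = A * (B * B) * A := by simp only [mul_assoc]
        _ = 1 := by rw [hB2, mul_one, hA2]
    rw [hμ, smul_mul_assoc, mul_smul_comm, smul_smul, hC2] at h
    exact D.smul_cancel hr3 D.one (by rw [h, one_smul])
  have hR3 : R * C = A * R := by
    have h3 := D.pow hR 3
    rw [← map_pow, vf_facts.2.2.2.2.1, map_one] at h3
    obtain ⟨ρ, hρ0, hρ⟩ := D.scalar_of_one h3
    have hRA : R * A = B * R := by rw [hB, mul_assoc, hR'R, mul_one]
    have hRB : R * B = C * R := by rw [hC, mul_assoc, hR'R, mul_one]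
    refine D.right_cancel hr3 (D.mul hR hR) ?_
    calc R * C * (R * R) = R * (C * R) * R := by simp only [mul_assoc]
      _ = R * R * (B * R) := by rw [← hRB]; simp only [mul_assoc]
      _ = R ^ 3 * A := by rw [← hRA]; simp [pow_succ, mul_assoc]
      _ = A * R ^ 3 := by rw [hρ, smul_mul_assoc, one_mul, mul_smul_comm, mul_one]
      _ = A * R * (R * R) := by simp [pow_succ, mul_assoc]
  have hRA : R * A = B * R := by rw [hB, mul_assoc, hR'R, mul_one]
  have hRB : R * B = C * R := by rw [hC, mul_assoc, hR'R, mul_one]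
  refine ⟨![μ • A, μ • B, μ • C], ?_, ?_, ?_, ?_⟩
  · intro a
    fin_cases a
    · exact D.smul hA hμ0
    · exact D.smul hAB hμ0
    · exact D.smul hBC hμ0
  · intro a
    fin_cases a
    · show μ • A * μ • A = 1
      rw [smul_mul_assoc, mul_smul_comm, smul_smul, hμ2, one_smul, hA2]
    · show μ • B * μ • B = 1
      rw [smul_mul_assoc, mul_smul_comm, smul_smul, hμ2, one_smul, hB2]
    · show μ • C * μ • C = 1
      rw [smul_mul_assoc, mul_smul_comm, smul_smul, hμ2, one_smul, hC2]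
  · show μ • A * μ • B = μ • C
    rw [smul_mul_assoc, mul_smul_comm, smul_smul, hμ2, one_smul, hμ]
  · intro S hS a
    obtain ⟨ν, -, rfl⟩ := D.unique hS hR
    fin_cases a
    · show ν • R * μ • A = μ • B * ν • R
      rw [smul_mul_assoc, mul_smul_comm, hRA, smul_mul_assoc, mul_smul_comm, smul_comm]
    · show ν • R * μ • B = μ • C * ν • R
      rw [smul_mul_assoc, mul_smul_comm, hRB, smul_mul_assoc, mul_smul_comm, smul_comm]
    · show ν • R * μ • C = μ • A * ν • R
      rw [smul_mul_assoc, mul_smul_comm, hR3, smul_mul_assoc, mul_smul_comm, smul_comm]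

omit [IsAlgClosed L] [FiniteDimensional L V] in
theorem triple_unique (D : Setup L V r) (hr : 3 ≤ r) {Q : Fin 4 ↪ Fin r}
    {M M' : Fin 3 → Module.End L V} (h : Triple D Q M) (h' : Triple D Q M') : M = M' := by
  obtain ⟨hM, h2, h01, hR⟩ := h
  obtain ⟨hM', h2', h01', hR'⟩ := h'
  choose ε hε0 hε using fun a => D.unique (hM' a) (hM a)
  obtain ⟨R, hr'⟩ := D.exists_lift (viaEmbeddingHom Q xf) (by rw [via_sign, vf_facts.2.2.2.1])
  have hstep : ∀ a, ε (a + 1) = ε a := by
    intro a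
    have h := hR' R hr' a
    rw [hε a, hε (a + 1), mul_smul_comm, hR R hr' a, smul_mul_assoc] at h
    exact (D.smul_cancel hr (D.mul (hM (a + 1)) hr') h).symm
  have e1 : ε 1 = ε 0 := hstep 0
  have e2 : ε 2 = ε 0 := (hstep 1).trans e1
  have hone : ε 0 = 1 := by
    have h := h01'
    rw [hε 0, hε 1, hε 2, smul_mul_assoc, mul_smul_comm, smul_smul, h01, e1, e2] at h
    exact mul_left_cancel₀ (hε0 0) (by rw [mul_one]; exact D.smul_cancel hr (hM 2) h)
  funext a
  rw [hε a, show ε a = 1 by fin_cases a <;> simp [e1, e2, hone], one_smul]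

theorem Triple.commute (D : Setup L V r) (hr : 9 ≤ r) (h5 : (5 : L) ≠ 0)
    (hn : finrank L V + 2 ≤ r) {Q : Fin 4 ↪ Fin r} {M : Fin 3 → Module.End L V}
    (h : Triple D Q M) (a b : Fin 3) : M a * M b = M b * M a :=
  commute_same D hr h5 hn Q a b (h.1 a) (h.1 b)

omit [IsAlgClosed L] [FiniteDimensional L V] in
/-- Canonical triples are transported by conjugation. -/
theorem Triple.conj {D : Setup L V r} (hr : 3 ≤ r) {Q : Fin 4 ↪ Fin r} {g : Perm (Fin r)}
    {G : Module.End L V} (hG : D.rel g G) {M M' : Fin 3 → Module.End L V} (h : Triple D Q M)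
    (h' : Triple D (Q.trans g.toEmbedding) M') (a : Fin 3) : G * M a = M' a * G := by
  obtain ⟨G', hG', hG'G, hGG'⟩ := D.exists_inv hr hG
  obtain ⟨hM, h2, h01, hR⟩ := h
  have hmul : ∀ X Y : Module.End L V, (G * X * G') * (G * Y * G') = G * (X * Y) * G' := by
    intro X Y
    calc (G * X * G') * (G * Y * G') = G * X * ((G' * G) * Y) * G' := by simp only [mul_assoc]
      _ = _ := by rw [hG'G, one_mul, mul_assoc G X Y]
  have hc : Triple D (Q.trans g.toEmbedding) fun a => G * M a * G' := by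
    refine ⟨fun a => ?_, fun a => ?_, ?_, fun S hS a => ?_⟩
    · rw [← conj_via]; exact D.mul (D.mul hG (hM a)) hG'
    · show (G * M a * G') * (G * M a * G') = 1
      rw [hmul, h2, mul_one, hGG']
    · show (G * M 0 * G') * (G * M 1 * G') = G * M 2 * G'
      rw [hmul, h01]
    · obtain ⟨R, hRr⟩ := D.exists_lift (viaEmbeddingHom Q xf)
        (by rw [via_sign, vf_facts.2.2.2.1])
      obtain ⟨ν, -, rfl⟩ := D.unique hS
        (T := G * R * G') (by rw [← conj_via]; exact D.mul (D.mul hG hRr) hG')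
      show ν • (G * R * G') * (G * M a * G') = G * M (a + 1) * G' * ν • (G * R * G')
      rw [smul_mul_assoc, mul_smul_comm, hmul, hmul, hR R hRr a]
  rw [triple_unique D hr h' hc]
  simp only [mul_assoc, hG'G, mul_one]

/-- Reordering a quadruple permutes its canonical triple. -/
theorem Triple.reorder {D : Setup L V r} (hr : 9 ≤ r) (h5 : (5 : L) ≠ 0)
    (hn : finrank L V + 2 ≤ r) {Q : Fin 4 ↪ Fin r} {M : Fin 3 → Module.End L V}
    (h : Triple D Q M) (e : Perm (Fin 4)) {M' : Fin 3 → Module.End L V}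
    (h' : Triple D (e.toEmbedding.trans Q) M') {a b : Fin 3} (hab : e * vf a * e⁻¹ = vf b) :
    M' a = M b := by
  obtain ⟨j, hj, c, ⟨e0, e1, e2⟩, w, hw⟩ := vf_reorder e
  have hcm := h.commute D hr h5 hn
  obtain ⟨hM, h2, h01, hR⟩ := h
  let f : Fin 3 → Fin 3 := ![c, c + j, c + j + j]
  have hf : ∀ a, e * vf a * e⁻¹ = vf (f a) := fun a => by
    fin_cases a
    · exact e0
    · exact e1
    · exact e2
  have hprod : ∀ x y z : Fin 3, x ≠ y → y ≠ z → x ≠ z → M x * M y = M z := by
    have e12 : M 1 * M 0 = M 2 := by rw [hcm, h01]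
    have e02 : M 0 * M 2 = M 1 := by rw [← h01, ← mul_assoc, h2, one_mul]
    have e20 : M 2 * M 0 = M 1 := by rw [hcm, e02]
    have e21 : M 2 * M 1 = M 0 := by rw [← h01, mul_assoc, h2, mul_one]
    have e12' : M 1 * M 2 = M 0 := by rw [hcm, e21]
    intro x y z
    fin_cases x <;> fin_cases y <;> fin_cases z <;>
      first
      | (intro h1 h2 h3; exact absurd rfl h1)
      | (intro h1 h2 h3; exact absurd rfl h2)
      | (intro h1 h2 h3; exact absurd rfl h3)
      | exact fun _ _ _ => h01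
      | exact fun _ _ _ => e12
      | exact fun _ _ _ => e02
      | exact fun _ _ _ => e20
      | exact fun _ _ _ => e21
      | exact fun _ _ _ => e12'
  have hfd : f 0 ≠ f 1 ∧ f 1 ≠ f 2 ∧ f 0 ≠ f 2 ∧
      ∀ a, f (a + 1) = f a + j := by
    have key : ∀ c j : Fin 3, j ≠ 0 →
        c ≠ c + j ∧ c + j ≠ c + j + j ∧ c ≠ c + j + j ∧
          ∀ a : Fin 3, (![c, c + j, c + j + j] : Fin 3 → Fin 3) (a + 1) =
            (![c, c + j, c + j + j] : Fin 3 → Fin 3) a + j := by decide
    exact key c j hj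
  have hc : Triple D (e.toEmbedding.trans Q) fun a => M (f a) := by
    refine ⟨fun a => ?_, fun a => h2 _, hprod _ _ _ hfd.1 hfd.2.1 hfd.2.2.1, fun S hS a => ?_⟩
    · rw [via_reorder, hf]; exact hM _
    · rw [via_reorder, hw, map_mul, map_pow] at hS
      obtain ⟨R, hRr⟩ := D.exists_lift (viaEmbeddingHom Q xf)
        (by rw [via_sign, vf_facts.2.2.2.1])
      obtain ⟨W, hW, hWc⟩ : ∃ W, D.rel (viaEmbeddingHom Q (w.elim 1 vf)) W ∧
          ∀ x, W * M x = M x * W := by
        rcases w with _ | x'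
        · refine ⟨1, ?_, fun x => by rw [one_mul, mul_one]⟩
          show D.rel (viaEmbeddingHom Q 1) 1
          rw [map_one]; exact D.one
        · exact ⟨M x', hM x', fun x => hcm x' x⟩
      obtain ⟨ν, -, rfl⟩ := D.unique hS (D.mul (D.pow hRr j) hW)
      have hpow : ∀ (i : Fin 3) x, R ^ (i : ℕ) * M x = M (x + i) * R ^ (i : ℕ) := by
        intro i x
        fin_cases i
        · simp
        · simpa using hR R hRr x
        · show R ^ 2 * M x = M (x + 2) * R ^ 2
          rw [pow_two, mul_assoc, hR R hRr x, ← mul_assoc, hR R hRr (x + 1), mul_assoc,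
            add_assoc, show (1 : Fin 3) + 1 = 2 from rfl]
      show ν • (R ^ (j : ℕ) * W) * M (f a) = M (f (a + 1)) * ν • (R ^ (j : ℕ) * W)
      rw [smul_mul_assoc, mul_smul_comm, mul_assoc, hWc, ← mul_assoc, hpow, hfd.2.2.2 a,
        mul_assoc]
  rw [triple_unique D (by omega) h' hc]
  show M (f a) = M b
  rw [vf_facts.2.2.2.2.2 _ _ ((hf a).symm.trans hab)]

end Cfsg.Agent.AltSection
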