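import Cfsg.Agent.Lib.Transfer.AltSection.Setup
import Mathlib.LinearAlgebra.Dimension.DivisionRing

/-!
A system of lines indexed by pairs of points, compatible with a projective representation of the
alternating group and with coplanar triangles, forces the dimension of the deleted permutation
module.
-/

namespace Cfsg.Agent.AltSection

open Equiv Equiv.Perm Module

variable {L : Type*} [Field L] {V : Type*} [AddCommGroup V] [Module L V] {r : ℕ}

/-- Lines attached to pairs of points. -/
structure LineSystem (D : Setup L V r) where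
  line : Fin r → Fin r → Submodule L V
  finrank_eq : ∀ a b, a ≠ b → finrank L (line a b) = 1
  symm : ∀ a b, a ≠ b → line a b = line b a
  equiv : ∀ {g G}, D.rel g G → ∀ a b, a ≠ b → ∀ v ∈ line a b, G v ∈ line (g a) (g b)
  ne : ∀ a b c, a ≠ b → b ≠ c → a ≠ c → line a b ≠ line a c
  coplanar : ∀ a b c, a ≠ b → b ≠ c → a ≠ c → line a c ≤ line a b ⊔ line b c
  plane : ∀ a b c d, a ≠ b → a ≠ c → a ≠ d → b ≠ c → b ≠ d → c ≠ d →
    ¬ line a d ≤ line a b ⊔ line a c

theorem finrank_le_one_of_const {z : Fin r} {Z : Submodule L (Fin r → L)} {K : Submodule L Z}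
    (h : ∀ w ∈ K, ∀ i, (w : Fin r → L) i = (w : Fin r → L) z) : finrank L K ≤ 1 := by
  let e : K →ₗ[L] L := ((LinearMap.proj z).comp Z.subtype).comp K.subtype
  have he : Function.Injective e := by
    intro a b hab
    refine Subtype.ext (Subtype.ext (funext fun i => ?_))
    rw [h a a.2 i, h b b.2 i]
    exact hab
  have := LinearMap.finrank_le_finrank_of_injective he
  rwa [Module.finrank_self] at this

namespace LineSystem

variable [FiniteDimensional L V] {D : Setup L V r} (S : LineSystem D)

theorem disjoint_of_ne {a b c d : Fin r} (hab : a ≠ b) (hcd : c ≠ d)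
    (h : S.line a b ≠ S.line c d) : S.line a b ⊓ S.line c d = ⊥ := by
  rw [← Submodule.finrank_eq_zero (R := L)]
  by_contra hne
  have h1 := S.finrank_eq a b hab
  have h2 := S.finrank_eq c d hcd
  have h3 := Submodule.finrank_mono (inf_le_left : S.line a b ⊓ S.line c d ≤ S.line a b)
  have e1 : S.line a b ⊓ S.line c d = S.line a b :=
    Submodule.eq_of_le_of_finrank_le inf_le_left (by omega)
  exact h (Submodule.eq_of_le_of_finrank_le (inf_eq_left.1 e1) (by omega))

theorem eq_zero_of_mem {a b c d : Fin r} (hab : a ≠ b) (hcd : c ≠ d)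
    (h : S.line a b ≠ S.line c d) {v : V} (h1 : v ∈ S.line a b) (h2 : v ∈ S.line c d) : v = 0 := by
  have h3 : v ∈ S.line a b ⊓ S.line c d := ⟨h1, h2⟩
  rw [S.disjoint_of_ne hab hcd h] at h3
  exact (Submodule.mem_bot L).1 h3

theorem line_map (hr : 3 ≤ r) {g G} (hG : D.rel g G) {a b : Fin r} (hab : a ≠ b) :
    (S.line a b).map G = S.line (g a) (g b) := by
  refine Submodule.eq_of_le_of_finrank_le ?_ ?_
  · rintro _ ⟨v, hv, rfl⟩
    exact S.equiv hG a b hab v hv
  · rw [S.finrank_eq _ _ (fun h => hab (g.injective h)),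
      ← (Submodule.equivMapOfInjective G (D.injective hr hG) _).finrank_eq, S.finrank_eq a b hab]

theorem ne_disjoint_pair (hr : 5 ≤ r) {a b c d : Fin r} (hab : a ≠ b) (hcd : c ≠ d)
    (hac : a ≠ c) (had : a ≠ d) (hbc : b ≠ c) (hbd : b ≠ d) :
    S.line a b ≠ S.line c d := by
  intro h
  -- move `d` to a fifth point `e`
  obtain ⟨e, he⟩ : ((Finset.univ : Finset (Fin r)) \ {a, b, c, d}).Nonempty := by
    rw [← Finset.card_pos, Finset.card_sdiff, Finset.inter_univ, Finset.card_univ, Fintype.card_fin]
    have : ({a, b, c, d} : Finset (Fin r)).card ≤ 4 := Finset.card_le_four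
    omega
  simp only [Finset.mem_sdiff, Finset.mem_univ, true_and, Finset.mem_insert, Finset.mem_singleton,
    not_or] at he
  obtain ⟨hea, heb, hec, hed⟩ : e ≠ a ∧ e ≠ b ∧ e ≠ c ∧ e ≠ d := he
  set g : Perm (Fin r) := swap a b * swap d e with hg
  have hgs : sign g = 1 := by rw [hg, map_mul, sign_swap hab, sign_swap hed.symm]; decide
  obtain ⟨G, hG⟩ := D.exists_lift g hgs
  have hga : g a = b := by
    rw [hg, Perm.mul_apply, swap_apply_of_ne_of_ne had hea.symm, swap_apply_left]
  have hgb : g b = a := by
    rw [hg, Perm.mul_apply, swap_apply_of_ne_of_ne hbd heb.symm, swap_apply_right]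
  have hgc : g c = c := by
    rw [hg, Perm.mul_apply, swap_apply_of_ne_of_ne hcd hec.symm,
      swap_apply_of_ne_of_ne hac.symm hbc.symm]
  have hgd : g d = e := by
    rw [hg, Perm.mul_apply, swap_apply_left, swap_apply_of_ne_of_ne hea heb]
  have h1 := S.line_map (by omega) hG hab
  have h2 := S.line_map (by omega) hG hcd
  rw [hga, hgb, ← S.symm a b hab] at h1
  rw [hgc, hgd] at h2
  rw [h] at h1
  exact S.ne c d e hcd hed.symm hec.symm (h1.symm.trans h2)

include S in
/-- The dimension bound. -/
theorem bound (p : ℕ) [CharP L p] (hr : 5 ≤ r) :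
    r - 1 - (if p ∣ r then 1 else 0) ≤ finrank L V := by
  classical
  let z : Fin r := ⟨0, by omega⟩
  let y : Fin r := ⟨1, by omega⟩
  have hzy : z ≠ y := by simp [z, y, Fin.ext_iff]
  obtain ⟨uy, huy, huy0⟩ : ∃ v ∈ S.line z y, v ≠ (0 : V) := by
    apply (Submodule.ne_bot_iff _).1
    intro h
    have := S.finrank_eq z y hzy
    rw [h, finrank_bot] at this
    omega
  -- a vector for each point, normalised against `y`
  have hpick : ∀ j, ∃ u : V, (j = z → u = 0) ∧ (j ≠ z → u ∈ S.line z j) ∧
      (j = y → u = uy) ∧ (j ≠ y → u - uy ∈ S.line y j) := by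
    intro j
    rcases eq_or_ne j z with rfl | hjz
    · refine ⟨0, fun _ => rfl, fun h => absurd rfl h, fun h => absurd h hzy, fun _ => ?_⟩
      rw [zero_sub, ← S.symm z y hzy]
      exact neg_mem huy
    rcases eq_or_ne j y with rfl | hjy
    · exact ⟨uy, fun h => absurd h hjz, fun _ => huy, fun _ => rfl, fun h => absurd rfl h⟩
    have h1 := S.coplanar z j y hjz.symm hjy hzy huy
    obtain ⟨u, hu, w, hw, huw⟩ := Submodule.mem_sup.1 h1
    refine ⟨u, fun h => absurd h hjz, fun _ => hu, fun h => absurd h hjy, fun _ => ?_⟩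
    rw [← huw, sub_add_cancel_left, ← S.symm j y hjy]
    exact neg_mem hw
  choose u huz humem huyy husub using hpick
  have hdiff : ∀ i j, i ≠ j → u i - u j ∈ S.line i j := by
    intro i j hij
    rcases eq_or_ne i z with rfl | hiz
    · rw [huz z rfl, zero_sub]
      exact neg_mem (humem j hij.symm)
    rcases eq_or_ne j z with rfl | hjz
    · rw [huz z rfl, sub_zero, S.symm i z hij]
      exact humem i hiz
    rcases eq_or_ne i y with rfl | hiy
    · rw [huyy y rfl]
      have := neg_mem (husub j hij.symm)
      rwa [neg_sub] at this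
    rcases eq_or_ne j y with rfl | hjy
    · rw [huyy y rfl, S.symm i y hij]
      exact husub i hiy
    -- the vector lies in two planes meeting in the line of `{i, j}`
    have h1 : u i - u j ∈ S.line z i ⊔ S.line i j := by
      refine sub_mem (Submodule.mem_sup_left (humem i hiz)) ?_
      exact S.coplanar z i j hiz.symm hij hjz.symm (humem j hjz)
    have h2 : u i - u j ∈ S.line y i ⊔ S.line i j := by
      rw [show u i - u j = (u i - uy) - (u j - uy) by abel]
      refine sub_mem (Submodule.mem_sup_left (husub i hiy)) ?_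
      exact S.coplanar y i j hiy.symm hij hjy.symm (husub j hjy)
    obtain ⟨a, ha, b, hb, hab⟩ := Submodule.mem_sup.1 h1
    obtain ⟨a', ha', b', hb', hab'⟩ := Submodule.mem_sup.1 h2
    suffices a = 0 by rw [← hab, this, zero_add]; exact hb
    by_contra ha0
    have hne : S.line z i ≠ S.line i j := by
      rw [S.symm z i hiz.symm]; exact S.ne i z j hiz hjz.symm hij
    have hne' : S.line i z ≠ S.line i y := S.ne i z y hiz hzy hiy
    -- `a = a' + (b' - b)`
    have hav : a ∈ S.line y i ⊔ S.line i j := by
      have : a = a' + (b' - b) := by rw [eq_sub_of_add_eq hab, ← hab']; abel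
      rw [this]
      exact Submodule.add_mem_sup ha' (sub_mem hb' hb)
    have hle : S.line z i ≤ S.line y i ⊔ S.line i j := by
      intro v hv
      obtain ⟨c, hc⟩ := exists_smul_eq_of_finrank_eq_one (S.finrank_eq z i hiz.symm)
        (x := ⟨a, ha⟩) (fun h => ha0 (Subtype.ext_iff.1 h)) ⟨v, hv⟩
      have hc' : c • a = v := congrArg Subtype.val hc
      rw [← hc']
      exact Submodule.smul_mem _ _ hav
    rw [S.symm z i hiz.symm, S.symm y i hiy.symm] at hle
    exact S.plane i y j z hiy hij hiz hjy.symm hzy.symm hjz hle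
  -- the map from the zero-sum functions
  let f : (Fin r → L) →ₗ[L] V := Fintype.linearCombination L u
  let σ : (Fin r → L) →ₗ[L] L := Fintype.linearCombination L (fun _ => (1 : L))
  have hσ : ∀ w, σ w = ∑ i, w i := fun w => by simp [σ, Fintype.linearCombination_apply]
  have hf : ∀ w, f w = ∑ i, w i • u i := fun w => by simp [f, Fintype.linearCombination_apply]
  -- equivariance up to a scalar
  have heqv : ∀ g G, D.rel g G → ∃ lam : L, ∀ w, σ w = 0 →
      f (w ∘ g.symm) = lam • G (f w) := by
    intro g G hG
    have hr3 : 3 ≤ r := by omega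
    have hne0 : ∀ i j, i ≠ j → u i - u j ≠ 0 := by
      intro i j hij h0
      rcases eq_or_ne i z with rfl | hiz
      · rw [huz z rfl, zero_sub, neg_eq_zero] at h0
        rcases eq_or_ne j y with rfl | hjy
        · exact huy0 ((huyy y rfl) ▸ h0)
        · have := husub j hjy
          rw [h0, zero_sub, neg_mem_iff] at this
          exact huy0 (S.eq_zero_of_mem hzy hjy.symm (by
            rw [S.symm z y hzy]; exact S.ne y z j hzy.symm hij hjy.symm) huy this)
      rcases eq_or_ne j z with rfl | hjz
      · rw [huz z rfl, sub_zero] at h0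
        rcases eq_or_ne i y with rfl | hiy
        · exact huy0 ((huyy y rfl) ▸ h0)
        · have := husub i hiy
          rw [h0, zero_sub, neg_mem_iff] at this
          exact huy0 (S.eq_zero_of_mem hzy hiy.symm (by
            rw [S.symm z y hzy]; exact S.ne y z i hzy.symm hij.symm hiy.symm) huy this)
      rw [sub_eq_zero] at h0
      have h1 := humem i hiz
      have h2 : u i ∈ S.line z j := h0 ▸ humem j hjz
      have hui : u i = 0 :=
        S.eq_zero_of_mem hiz.symm hjz.symm (S.ne z i j hiz.symm hij hjz.symm) h1 h2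
      rcases eq_or_ne i y with rfl | hiy
      · exact huy0 ((huyy y rfl) ▸ hui)
      · have := husub i hiy
        rw [hui, zero_sub, neg_mem_iff] at this
        exact huy0 (S.eq_zero_of_mem hzy hiy.symm (by
          rw [S.symm z y hzy]; exact S.ne y z i hzy.symm hiz.symm hiy.symm) huy this)
    have hscal : ∀ i j, i ≠ j → ∃ c : L, c • G (u i - u j) = u (g i) - u (g j) := by
      intro i j hij
      have hm : u (g i) - u (g j) ∈ S.line (g i) (g j) :=
        hdiff _ _ (fun h => hij (g.injective h))
      have hx : G (u i - u j) ∈ S.line (g i) (g j) := S.equiv hG i j hij _ (hdiff i j hij)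
      have hx0 : G (u i - u j) ≠ 0 := fun h =>
        hne0 i j hij (D.injective hr3 hG (h.trans (map_zero G).symm))
      obtain ⟨c, hc⟩ := exists_smul_eq_of_finrank_eq_one
        (S.finrank_eq (g i) (g j) (fun h => hij (g.injective h)))
        (x := ⟨_, hx⟩) (fun h => hx0 (Subtype.ext_iff.1 h)) ⟨_, hm⟩
      exact ⟨c, congrArg Subtype.val hc⟩
    obtain ⟨lam, hlam⟩ := hscal y z hzy.symm
    have hall : ∀ i, u (g i) - u (g z) = lam • G (u i - u z) := by
      intro i
      rcases eq_or_ne i z with rfl | hiz
      · simp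
      rcases eq_or_ne i y with rfl | hiy
      · exact hlam.symm
      obtain ⟨c, hc⟩ := hscal i z hiz
      obtain ⟨c', hc'⟩ := hscal i y hiy
      have e : (c - c') • G (u i - u z) = (lam - c') • G (u y - u z) := by
        have : c • G (u i - u z) - lam • G (u y - u z) = c' • (G (u i - u z) - G (u y - u z)) := by
          rw [← map_sub, show u i - u z - (u y - u z) = u i - u y by abel, hc, hlam, hc']
          abel
        rw [sub_smul, sub_smul, eq_comm, ← sub_eq_zero]
        rw [smul_sub, ← sub_eq_zero] at this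
        rw [← neg_eq_zero, ← this]
        abel
      have hz0 : (c - c') • (u i - u z) = (lam - c') • (u y - u z) :=
        D.injective hr3 hG (by rw [map_smul, map_smul, e])
      have hmem1 : (c - c') • (u i - u z) ∈ S.line i z := Submodule.smul_mem _ _ (hdiff i z hiz)
      have hmem2 : (c - c') • (u i - u z) ∈ S.line y z := by
        rw [hz0]; exact Submodule.smul_mem _ _ (hdiff y z hzy.symm)
      have h0 := S.eq_zero_of_mem hiz hzy.symm (by
        rw [S.symm i z hiz, S.symm y z hzy.symm]
        exact S.ne z i y hiz.symm hiy hzy) hmem1 hmem2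
      have hcc : c = c' := sub_eq_zero.1 ((smul_eq_zero.1 h0).resolve_right (hne0 i z hiz))
      have hlc : lam = c' := by
        rw [h0] at hz0
        exact sub_eq_zero.1 ((smul_eq_zero.1 hz0.symm).resolve_right (hne0 y z hzy.symm))
      rw [← hc, hcc, hlc]
    refine ⟨lam, fun w hw => ?_⟩
    rw [hσ] at hw
    rw [hf, hf, ← Equiv.sum_comp g]
    simp only [Function.comp_apply, Equiv.symm_apply_apply]
    calc ∑ i, w i • u (g i) = ∑ i, w i • (u (g i) - u (g z)) := by
          simp only [smul_sub, Finset.sum_sub_distrib, ← Finset.sum_smul, hw, zero_smul, sub_zero]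
      _ = lam • G (∑ i, w i • (u i - u z)) := by
          rw [map_sum, Finset.smul_sum]
          refine Finset.sum_congr rfl fun i _ => ?_
          rw [hall i, map_smul, smul_comm]
      _ = lam • G (∑ i, w i • u i) := by
          simp only [smul_sub, Finset.sum_sub_distrib, ← Finset.sum_smul, hw, zero_smul, sub_zero]
  -- the kernel consists of constants
  have hker : ∀ w, σ w = 0 → f w = 0 → ∀ i, w i = w z := by
    intro w hw hw0 b
    by_contra hb
    have hbz : b ≠ z := fun h => hb (by rw [h])
    obtain ⟨c, d, hcd, hc, hd⟩ : ∃ c d, c ≠ d ∧ (c ≠ z ∧ c ≠ b) ∧ (d ≠ z ∧ d ≠ b) := by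
      have h1 : 1 < ((Finset.univ : Finset (Fin r)) \ {z, b}).card := by
        rw [Finset.card_sdiff, Finset.inter_univ, Finset.card_univ, Fintype.card_fin]
        have : ({z, b} : Finset (Fin r)).card ≤ 2 := Finset.card_le_two
        omega
      obtain ⟨c, hc, d, hd, hcd⟩ := Finset.one_lt_card.1 h1
      simp only [Finset.mem_sdiff, Finset.mem_univ, true_and, Finset.mem_insert,
        Finset.mem_singleton, not_or] at hc hd
      exact ⟨c, d, hcd, hc, hd⟩
    set g : Perm (Fin r) := swap z b * swap c d with hg
    have hgs : sign g = 1 := by rw [hg, map_mul, sign_swap hbz.symm, sign_swap hcd]; decide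
    obtain ⟨G, hG⟩ := D.exists_lift g hgs
    obtain ⟨lam, hlam⟩ := heqv g G hG
    have h2 : f (w - w ∘ g.symm) = 0 := by
      rw [map_sub, hlam w hw, hw0, map_zero, smul_zero, sub_zero]
    have h3 : w - w ∘ g.symm = (w z - w b) • (Pi.single z (1 : L) - Pi.single b 1)
        + (w c - w d) • (Pi.single c (1 : L) - Pi.single d 1) := by
      funext x
      have hgx : g.symm x = swap c d (swap z b x) := by
        rw [hg]; simp [Equiv.Perm.mul_def]
      simp only [Pi.sub_apply, Function.comp_apply, hgx, Pi.add_apply, Pi.smul_apply, smul_eq_mul]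
      rcases eq_or_ne x z with rfl | hxz
      · rw [swap_apply_left, swap_apply_of_ne_of_ne hc.2.symm hd.2.symm]
        simp [Pi.single_apply, hbz.symm, hc.1.symm, hd.1.symm]
      rcases eq_or_ne x b with rfl | hxb
      · rw [swap_apply_right, swap_apply_of_ne_of_ne hc.1.symm hd.1.symm]
        simp [Pi.single_apply, hbz, hc.2.symm, hd.2.symm]
      rw [swap_apply_of_ne_of_ne hxz hxb]
      rcases eq_or_ne x c with rfl | hxc
      · rw [swap_apply_left]; simp [Pi.single_apply, hxz, hxb, hcd]
      rcases eq_or_ne x d with rfl | hxd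
      · rw [swap_apply_right]; simp [Pi.single_apply, hxz, hxb, hcd.symm]
      rw [swap_apply_of_ne_of_ne hxc hxd]
      simp [Pi.single_apply, hxz, hxb, hxc, hxd]
    rw [h3] at h2
    have hsing : ∀ i, f (Pi.single i 1) = u i := fun i => by
      simp [f, Fintype.linearCombination_apply_single]
    simp only [map_add, map_smul, map_sub, hsing] at h2
    have hm1 : (w z - w b) • (u z - u b) ∈ S.line z b :=
      Submodule.smul_mem _ _ (hdiff z b hbz.symm)
    have hm2 : (w z - w b) • (u z - u b) ∈ S.line c d := by
      rw [eq_neg_of_add_eq_zero_left h2]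
      exact neg_mem (Submodule.smul_mem _ _ (hdiff c d hcd))
    have h0 := S.eq_zero_of_mem hbz.symm hcd
      (S.ne_disjoint_pair hr hbz.symm hcd hc.1.symm hd.1.symm hc.2.symm hd.2.symm) hm1 hm2
    have hz : u z - u b ≠ 0 := by
      rw [huz z rfl, zero_sub, neg_ne_zero]
      intro h0'
      rcases eq_or_ne b y with rfl | hby
      · exact huy0 ((huyy y rfl) ▸ h0')
      · have := husub b hby
        rw [h0', zero_sub, neg_mem_iff] at this
        exact huy0 (S.eq_zero_of_mem hzy hby.symm (by
          rw [S.symm z y hzy]; exact S.ne y z b hzy.symm hbz.symm hby.symm) huy this)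
    exact hb (sub_eq_zero.1 ((smul_eq_zero.1 h0).resolve_right hz)).symm
  -- dimension count
  let Z : Submodule L (Fin r → L) := LinearMap.ker σ
  let f₀ : Z →ₗ[L] V := f.comp Z.subtype
  have h1 := LinearMap.finrank_range_add_finrank_ker f₀
  have h2 := LinearMap.finrank_range_add_finrank_ker σ
  have h3 : finrank L (LinearMap.range f₀) ≤ finrank L V := Submodule.finrank_le _
  have h4 : finrank L (LinearMap.range σ) ≤ 1 := by
    have := Submodule.finrank_le (LinearMap.range σ)
    rwa [Module.finrank_self] at this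
  rw [Module.finrank_fintype_fun_eq_card, Fintype.card_fin] at h2
  have h5 : finrank L (LinearMap.ker f₀) ≤ if p ∣ r then 1 else 0 := by
    split
    · refine finrank_le_one_of_const (z := z) ?_
      intro w hw
      exact hker w.1 w.2 (LinearMap.mem_ker.1 hw)
    · rename_i hp
      rw [Nat.le_zero, Submodule.finrank_eq_zero, Submodule.eq_bot_iff]
      intro w hw
      have hc := hker w.1 w.2 (LinearMap.mem_ker.1 hw)
      have hs : σ w.1 = 0 := w.2
      rw [hσ, Finset.sum_congr rfl fun i _ => hc i, Finset.sum_const, Finset.card_univ,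
        Fintype.card_fin, nsmul_eq_mul, mul_eq_zero] at hs
      have hwz : w.1 z = 0 := hs.resolve_left (fun h => hp ((CharP.cast_eq_zero_iff L p r).1 h))
      exact Subtype.ext (funext fun i => (hc i).trans hwz)
  have h6 : finrank L (LinearMap.ker σ) = finrank L Z := rfl
  omega

end LineSystem

end Cfsg.Agent.AltSection
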