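import Cfsg.Agent.Lib.Transfer.AltSection.Reduce
import Mathlib.LinearAlgebra.Matrix.ToLin
import Mathlib.FieldTheory.Finiteness

/-!
The bound for representations of finite groups with an alternating quotient.
-/

namespace Cfsg.Agent.AltSection

open Equiv Equiv.Perm Module

variable {r : ℕ}

theorem two_pow_gt : ∀ d, 5 ≤ d → d * d < 2 ^ d := by
  intro d hd
  induction d, hd using Nat.le_induction with
  | base => norm_num
  | succ d hd ih =>
    rw [pow_succ]
    have : 5 * d ≤ d * d := Nat.mul_le_mul_right _ hd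
    nlinarith

/-- A faithful action on an elementary abelian group gives a linear representation over an
algebraically closed field. -/
theorem exists_rep_of_aut {A : Type} [Group A] {q : ℕ} [Fact q.Prime] {M : Type} [CommGroup M]
    [Finite M] (hM : ∀ x : M, x ^ q = 1) (θ : A →* MulAut M) (hθ : Function.Injective θ) :
    ∃ (d : ℕ) (ρ : A →* Module.End (AlgebraicClosure (ZMod q))
      (Fin d → AlgebraicClosure (ZMod q))), Function.Injective ρ ∧ q ^ d = Nat.card M := by
  classical
  let : Module (ZMod q) (Additive M) := AddCommGroup.zmodModule (n := q) fun x => hM x.toMul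
  have : Module.Finite (ZMod q) (Additive M) := Module.Finite.of_finite
  let b := Module.finBasis (ZMod q) (Additive M)
  let e₁ : MulAut M →* Module.End (ZMod q) (Additive M) :=
    { toFun := fun e => AddMonoidHom.toZModLinearMap q e.toAdditive.toAddMonoidHom
      map_one' := rfl
      map_mul' := fun _ _ => rfl }
  have he₁ : Function.Injective e₁ := fun e e' h =>
    MulEquiv.ext fun x => congrArg Additive.toMul (LinearMap.congr_fun h (Additive.ofMul x))
  let e₂ : Module.End (ZMod q) (Additive M) →*
      Matrix (Fin (finrank (ZMod q) (Additive M))) (Fin (finrank (ZMod q) (Additive M))) (ZMod q) :=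
    (LinearMap.toMatrixAlgEquiv b : _ →* _)
  let e₃ : Matrix (Fin (finrank (ZMod q) (Additive M))) (Fin (finrank (ZMod q) (Additive M)))
      (ZMod q) →* Module.End (AlgebraicClosure (ZMod q))
        (Fin (finrank (ZMod q) (Additive M)) → AlgebraicClosure (ZMod q)) :=
    (Matrix.toLinAlgEquiv' : _ ≃ₐ[AlgebraicClosure (ZMod q)] _).toMonoidHom.comp
      ((algebraMap (ZMod q) (AlgebraicClosure (ZMod q))).mapMatrix : _ →+* _).toMonoidHom
  refine ⟨_, (e₃.comp (e₂.comp e₁)).comp θ, ?_, ?_⟩
  · intro x y h
    refine hθ (he₁ ((LinearMap.toMatrixAlgEquiv b).injective ?_))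
    have h' := Matrix.toLinAlgEquiv'.injective h
    exact Matrix.map_injective (algebraMap (ZMod q) (AlgebraicClosure (ZMod q))).injective h'
  · rw [← Nat.card_congr (Additive.ofMul (α := M)).symm, Module.natCard_eq_pow_finrank (K := ZMod q),
      Nat.card_zmod]

theorem section_bound (hr : 9 ≤ r) : ∀ (m : ℕ) (H : Type) [Group H] [Finite H], Nat.card H = m →
    ∀ (π : H →* alternatingGroup (Fin r)), Function.Surjective π →
    ∀ (L : Type) [Field L] [IsAlgClosed L] (p : ℕ) [CharP L p] (V : Type) [AddCommGroup V]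
      [Module L V] [FiniteDimensional L V] (ρ : H →* Module.End L V),
      (∀ h, ρ h = 1 → π h = 1) → r - 1 - (if p ∣ r then 1 else 0) ≤ finrank L V := by
  intro m
  induction m using Nat.strong_induction_on with
  | _ m ih =>
  intro H _ _ hm π hπ L _ _ p _ V _ _ _
  subst hm
  by_cases hsub : ∃ S : Subgroup H, S.map π = ⊤ ∧ S ≠ ⊤
  · obtain ⟨S, hS, hS1⟩ := hsub
    intro ρ hker
    refine ih (Nat.card S) ?_ S rfl (π.comp S.subtype) ?_ L p V (ρ.comp S.subtype)
      fun h hh => hker h hh
    · refine lt_of_le_of_ne (Subgroup.card_le_card_group S) fun h => hS1 ?_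
      exact Subgroup.eq_top_of_card_eq S h
    · rw [← MonoidHom.range_eq_top, MonoidHom.range_comp, Subgroup.range_subtype]
      exact hS
  simp only [not_exists, not_and, not_not] at hsub
  intro ρ hker
  induction hn : finrank L V using Nat.strong_induction_on generalizing V with
  | _ n ihn =>
  subst hn
  by_cases hred : ∃ W : Submodule L V, (∀ h, ∀ v ∈ W, ρ h v ∈ W) ∧ W ≠ ⊥ ∧ W ≠ ⊤
  · obtain ⟨W, hW, hW0, hW1⟩ := hred
    let ρW : H →* Module.End L W :=
      { toFun := fun h => (ρ h).restrict (hW h)
        map_one' := by ext v; simp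
        map_mul' := fun g h => by ext v; simp }
    let ρQ : H →* Module.End L (V ⧸ W) :=
      { toFun := fun h => W.mapQ W (ρ h) (fun v hv => hW h v hv)
        map_one' := by ext v; simp
        map_mul' := fun g h => by ext v; simp }
    have hW2 : finrank L W < finrank L V := Submodule.finrank_lt hW1
    have hQ2 : finrank L (V ⧸ W) < finrank L V := by
      have h1 := W.finrank_quotient_add_finrank
      have h2 : 0 < finrank L W := Nat.pos_of_ne_zero (by rwa [Ne, Submodule.finrank_eq_zero])
      omega
    by_cases hWk : ∀ h, ρW h = 1 → π h = 1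
    · exact (ihn _ hW2 W ρW hWk rfl).trans hW2.le
    by_cases hQk : ∀ h, ρQ h = 1 → π h = 1
    · exact (ihn _ hQ2 (V ⧸ W) ρQ hQk rfl).trans hQ2.le
    exfalso
    have := alt_simple (r := r) (by omega)
    have htriv : ∀ {U : Type} [AddCommGroup U] [Module L U] (σ : H →* Module.End L U),
        ¬ (∀ h, σ h = 1 → π h = 1) → ∀ h, σ h = 1 := by
      intro U _ _ σ hσ h
      simp only [not_forall] at hσ
      obtain ⟨k, hk, hk1⟩ := hσ
      rcases Subgroup.Normal.eq_bot_or_eq_top ((MonoidHom.normal_ker σ).map π hπ) with e | e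
      · exact absurd ((Subgroup.map_eq_bot_iff _).1 e (show k ∈ σ.ker from hk)) hk1
      · have : h ∈ σ.ker := hsub _ e ▸ Subgroup.mem_top h
        exact this
    have hWt := htriv ρW hWk
    have hQt := htriv ρQ hQk
    have hfix : ∀ h, ∀ v ∈ W, ρ h v = v := fun h v hv =>
      congrArg Subtype.val (LinearMap.congr_fun (hWt h) ⟨v, hv⟩)
    have hmove : ∀ h v, ρ h v - v ∈ W := fun h v => by
      have e := LinearMap.congr_fun (hQt h) (Submodule.Quotient.mk v)
      rw [← Submodule.Quotient.eq]
      exact e
    have hcomm : ∀ g h, ρ g * ρ h = ρ h * ρ g := fun g h => LinearMap.ext fun v => by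
      have e1 : ρ g (ρ h v - v) = ρ h v - v := hfix g _ (hmove h v)
      have e2 : ρ h (ρ g v - v) = ρ g v - v := hfix h _ (hmove g v)
      rw [map_sub, sub_eq_iff_eq_add] at e1 e2
      rw [Module.End.mul_apply, Module.End.mul_apply, e1, e2]
      abel
    have hc : commutator H ≤ ρ.ker := by
      rw [commutator_def, Subgroup.commutator_le]
      intro g _ h _
      show ρ (g * h * g⁻¹ * h⁻¹) = 1
      rw [map_mul, map_mul, map_mul, hcomm g h, mul_assoc (ρ h), ← map_mul ρ g g⁻¹, mul_inv_cancel,
        map_one, mul_one, ← map_mul, mul_inv_cancel, map_one]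
    have hctop : commutator H = ⊤ := by
      refine hsub _ ?_
      rw [commutator_def, Subgroup.map_commutator, Subgroup.map_top_of_surjective π hπ]
      exact alt_perfect (by omega)
    obtain ⟨x, hx⟩ := exists_ne (1 : alternatingGroup (Fin r))
    obtain ⟨h, rfl⟩ := hπ x
    exact hx (hker h (hc (hctop ▸ Subgroup.mem_top h)))
  simp only [not_exists, not_and, not_not] at hred
  by_cases hN : ρ.ker ≠ ⊥
  · have hNK : ρ.ker ≤ π.ker := fun h hh => hker h hh
    refine ih (Nat.card (H ⧸ ρ.ker)) ?_ (H ⧸ ρ.ker) rfl (QuotientGroup.lift _ π hNK) ?_ L p V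
      (QuotientGroup.lift _ ρ le_rfl) ?_
    · rw [Subgroup.card_eq_card_quotient_mul_card_subgroup ρ.ker]
      refine lt_mul_of_one_lt_right Nat.card_pos ?_
      rwa [Finite.one_lt_card_iff_nontrivial, Subgroup.nontrivial_iff_ne_bot]
    · intro x
      obtain ⟨h, rfl⟩ := hπ x
      exact ⟨QuotientGroup.mk h, rfl⟩
    · intro x
      induction x using QuotientGroup.induction_on with
      | H h => exact fun hh => hker h hh
  have R : MinRep π ρ := ⟨hπ, hsub, fun h hh => by
      have : h ∈ ρ.ker := hh
      rwa [not_not.1 hN, Subgroup.mem_bot] at this,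
    fun W hW => by
      by_cases h0 : W = ⊥
      · exact Or.inl h0
      · exact Or.inr (hred W hW h0)⟩
  by_cases hK : π.ker ≤ Subgroup.center H
  · obtain ⟨D⟩ := R.exists_setup (by omega) hK
    by_cases h3 : (3 : L) = 0
    · exact bound_char_three D p hr h3
    · exact bound_three D p hr h3
  by_contra hcon
  obtain ⟨q, hq, M, _, _, hMq, hcard, hlt, θ, hθ⟩ := R.exists_section (by omega) (by omega) hK
  have : Fact q.Prime := ⟨hq⟩
  obtain ⟨d, σ, hσ, hd⟩ := exists_rep_of_aut hMq θ hθ
  have hb := ih _ hlt (alternatingGroup (Fin r)) rfl (MonoidHom.id _) Function.surjective_id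
    (AlgebraicClosure (ZMod q)) q (Fin d → AlgebraicClosure (ZMod q)) σ
    (fun h hh => hσ (hh.trans (map_one σ).symm))
  rw [Module.finrank_fintype_fun_eq_card, Fintype.card_fin] at hb
  have hd2 : r - 2 ≤ d := by
    have : (if q ∣ r then 1 else 0) ≤ 1 := by split <;> omega
    omega
  have h2 : 2 ^ (r - 2) ≤ q ^ d :=
    (Nat.pow_le_pow_right (by norm_num) hd2).trans (Nat.pow_le_pow_left hq.two_le _)
  have h3 := two_pow_gt (r - 2) (by omega)
  have hn : finrank L V ≤ r - 2 := by omega
  have h4 := Nat.mul_le_mul hn hn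
  omega

end Cfsg.Agent.AltSection
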