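import Mathlib.GroupTheory.SpecificGroups.Alternating
import Mathlib.GroupTheory.Perm.ViaEmbedding
import Mathlib.Tactic

/-!
Permutation helpers for the bound on alternating sections of linear groups: prescribed even
permutations and the three-cycle generation of the pointwise stabiliser of a set.
-/

namespace Cfsg.Agent.AltSection

open Equiv Equiv.Perm

variable {α ι : Type*} [Fintype α] [DecidableEq α] [Finite ι]

/-- Any injective map extends to a permutation. -/
theorem exists_perm (p q : ι → α) (hp : Function.Injective p) (hq : Function.Injective q) :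
    ∃ g : Perm α, ∀ i, g (p i) = q i := by
  classical
  have : Fintype ι := Fintype.ofFinite ι
  let e : {x // x ∈ Set.range p} ≃ {x // x ∈ Set.range q} :=
    (Equiv.ofInjective p hp).symm.trans (Equiv.ofInjective q hq)
  refine ⟨e.extendSubtype, fun i => ?_⟩
  rw [Equiv.extendSubtype_apply_of_mem e (p i) ⟨i, rfl⟩]
  simp [e, Equiv.ofInjective_symm_apply]

/-- Two spare points allow the extension to be even. -/
theorem exists_even (p q : ι → α) (hp : Function.Injective p) (hq : Function.Injective q)
    (hspare : Nat.card ι + 2 ≤ Fintype.card α) :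
    ∃ g : Perm α, sign g = 1 ∧ ∀ i, g (p i) = q i := by
  classical
  have : Fintype ι := Fintype.ofFinite ι
  obtain ⟨g, hg⟩ := exists_perm p q hp hq
  rcases Int.units_eq_one_or (sign g) with h | h
  · exact ⟨g, h, hg⟩
  · have hc : 1 < ((Finset.univ.image q)ᶜ).card := by
      rw [Finset.card_compl, Finset.card_image_of_injective _ hq, Finset.card_univ]
      rw [Nat.card_eq_fintype_card] at hspare
      omega
    obtain ⟨u, hu, v, hv, huv⟩ := Finset.one_lt_card.1 hc
    refine ⟨swap u v * g, by rw [map_mul, h, sign_swap huv]; simp, fun i => ?_⟩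
    have hn : ∀ w ∈ (Finset.univ.image q)ᶜ, q i ≠ w := by
      intro w hw hiw
      rw [Finset.mem_compl] at hw
      exact hw (hiw ▸ Finset.mem_image_of_mem q (Finset.mem_univ i))
    rw [Perm.mul_apply, hg i, swap_apply_of_ne_of_ne (hn u hu) (hn v hv)]

/-- Induction over three-cycles inside the pointwise stabiliser of a finset. -/
theorem induction_threeCycle_fixing (s : Finset α) {P : Perm α → Prop}
    (h1 : P 1) (hmul : ∀ g h, sign g = 1 → sign h = 1 → P g → P h → P (g * h))
    (h3 : ∀ τ : Perm α, τ.IsThreeCycle → τ.support ⊆ sᶜ → P τ)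
    (g : Perm α) (hg : sign g = 1) (hfix : ∀ x ∈ s, g x = x) : P g := by
  classical
  have hsupp : g.support ⊆ sᶜ := by
    intro x hx
    rw [Finset.mem_compl]
    exact fun hxs => (Perm.mem_support.1 hx) (hfix x hxs)
  set t : Finset α := sᶜ with ht
  have hpres : ∀ x, g x ∈ t ↔ x ∈ t := by
    intro x
    by_cases hx : x ∈ g.support
    · exact ⟨fun _ => hsupp hx, fun _ => hsupp (Perm.apply_mem_support.2 hx)⟩
    · rw [Perm.notMem_support.1 hx]
  let g₀ : Perm {x // x ∈ t} := g.subtypePerm hpres
  have hg₀ : ofSubtype g₀ = g :=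
    ofSubtype_subtypePerm hpres fun x hx => hsupp (Perm.mem_support.2 hx)
  have hmem : g₀ ∈ alternatingGroup {x // x ∈ t} := by
    rw [mem_alternatingGroup, ← sign_ofSubtype, hg₀, hg]
  rw [← closure_three_cycles_eq_alternating] at hmem
  rw [← hg₀]
  refine Subgroup.closure_induction (p := fun x _ => P (ofSubtype x)) ?_ ?_ ?_ ?_ hmem
  · intro x hx
    refine h3 _ ?_ ?_
    · show (ofSubtype x).cycleType = {3}
      rw [cycleType_ofSubtype]; exact hx
    · rw [support_ofSubtype]
      intro y hy
      simp only [Finset.mem_map, Function.Embedding.coe_subtype] at hy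
      obtain ⟨z, _, rfl⟩ := hy
      exact z.2
  · rw [map_one]; exact h1
  · intro x y hx hy hPx hPy
    rw [map_mul]
    refine hmul _ _ ?_ ?_ hPx hPy
    · rw [closure_three_cycles_eq_alternating] at hx
      rw [sign_ofSubtype]; exact hx
    · rw [closure_three_cycles_eq_alternating] at hy
      rw [sign_ofSubtype]; exact hy
  · intro x hx hPx
    have hfin : x⁻¹ = x ^ (orderOf x - 1) := by
      have : x ^ (orderOf x - 1) * x = 1 := by
        rw [← pow_succ, Nat.sub_add_cancel (orderOf_pos x), pow_orderOf_eq_one]
      exact inv_eq_of_mul_eq_one_left this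
    rw [hfin, map_pow]
    have hs : sign (ofSubtype x) = 1 := by
      rw [closure_three_cycles_eq_alternating] at hx
      rw [sign_ofSubtype]; exact hx
    generalize orderOf x - 1 = m
    induction m with
    | zero => rw [pow_zero]; exact h1
    | succ m ih =>
        rw [pow_succ]
        exact hmul _ _ (by rw [map_pow, hs, one_pow]) hs ih hPx

/-- An element commuting with a cycle is a power of it times an element fixing its support. -/
theorem commute_cycle_decomp {σ c : Perm α} (hσ : σ.IsCycle) (hc : c * σ = σ * c) :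
    ∃ i : ℕ, ∀ x ∈ σ.support, ((σ ^ i)⁻¹ * c) x = x := by
  classical
  obtain ⟨a, ha, -⟩ := id hσ
  have hca : c a ∈ σ.support := by
    rw [Perm.mem_support]
    intro h
    have h2 : c (σ a) = c a := by
      have := DFunLike.congr_fun hc a
      simp only [Perm.mul_apply] at this
      rw [this, h]
    exact ha (c.injective h2)
  obtain ⟨i, hi⟩ := hσ.exists_pow_eq ha (Perm.mem_support.1 hca)
  refine ⟨i, fun x hx => ?_⟩
  obtain ⟨j, hj⟩ := hσ.exists_pow_eq ha (Perm.mem_support.1 hx)
  have hcomm : Commute ((σ ^ i)⁻¹ * c) (σ ^ j) :=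
    ((((Commute.refl σ).pow_left i).inv_left).mul_left (show Commute c σ from hc)).pow_right j
  rw [← hj]
  have := DFunLike.congr_fun hcomm.eq a
  simp only [Perm.mul_apply] at this ⊢
  rw [this, ← hi]
  simp

end Cfsg.Agent.AltSection
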