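import Cfsg.Agent.Lib.Transfer.AltSection.Common
import Cfsg.Agent.Lib.Transfer.AltSection.Lines

/-!
Planes attached to three-cycles give a system of lines attached to pairs.
-/

namespace Cfsg.Agent.AltSection

open Equiv Equiv.Perm Module

variable {L : Type*} [Field L] {V : Type*} [AddCommGroup V] [Module L V] {r : ℕ}

/-- Moved planes of the lifts of three-cycles. -/
structure PlaneSys (D : Setup L V r) where
  U : Fin r → Fin r → Fin r → Submodule L V
  T : Fin r → Fin r → Fin r → Module.End L V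
  rel : ∀ {a b c}, Dist a b c → D.rel (tri a b c) (T a b c)
  finrank_eq : ∀ {a b c}, Dist a b c → finrank L (U a b c) = 2
  rotate : ∀ {a b c}, Dist a b c → U b c a = U a b c
  flip : ∀ {a b c}, Dist a b c → U b a c = U a b c
  equiv : ∀ {g G}, D.rel g G → ∀ {a b c}, Dist a b c → ∀ v ∈ U a b c, G v ∈ U (g a) (g b) (g c)
  moved : ∀ {a b c}, Dist a b c → ∀ v, T a b c v - v ∈ U a b c
  fixed : ∀ P : Fin 6 ↪ Fin r, ∀ v ∈ U (P 0) (P 1) (P 2), T (P 3) (P 4) (P 5) v = v
  no_fixed : ∀ {a b c}, Dist a b c → ∀ v ∈ U a b c, T a b c v = v → v = 0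

namespace PlaneSys

variable [FiniteDimensional L V] {D : Setup L V r} (S : PlaneSys D)

theorem U_map (hr : 3 ≤ r) {g G} (hG : D.rel g G) {a b c : Fin r} (h : Dist a b c) :
    (S.U a b c).map G = S.U (g a) (g b) (g c) := by
  refine map_eq_of_le (D.injective hr hG) ?_ ?_
  · rintro _ ⟨v, hv, rfl⟩
    exact S.equiv hG h v hv
  · rw [S.finrank_eq h, S.finrank_eq ⟨g.injective.ne h.1, g.injective.ne h.2.1, g.injective.ne h.2.2⟩]

theorem inf_map (hr : 3 ≤ r) {g G} (hG : D.rel g G) {a b c d : Fin r} (h : Dist a b c)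
    (h' : Dist a b d) :
    (S.U a b c ⊓ S.U a b d).map G = S.U (g a) (g b) (g c) ⊓ S.U (g a) (g b) (g d) := by
  rw [Submodule.map_inf _ (D.injective hr hG), S.U_map hr hG h, S.U_map hr hG h']

theorem disjoint_planes (P : Fin 6 ↪ Fin r) :
    S.U (P 0) (P 1) (P 2) ⊓ S.U (P 3) (P 4) (P 5) = ⊥ := by
  rw [Submodule.eq_bot_iff]
  rintro v ⟨h1, h2⟩
  exact S.no_fixed (Dist.of_emb P 3 4 5 (by decide)) v h2 (S.fixed P v h1)

theorem adj_dim_const (hr : 6 ≤ r) (P Q : Fin 4 ↪ Fin r) :
    finrank L (S.U (P 0) (P 1) (P 2) ⊓ S.U (P 0) (P 1) (P 3) : Submodule L V) =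
      finrank L (S.U (Q 0) (Q 1) (Q 2) ⊓ S.U (Q 0) (Q 1) (Q 3) : Submodule L V) := by
  obtain ⟨g, G, hG, hg⟩ := D.exists_move (by omega) P Q
  rw [(Submodule.equivMapOfInjective G (D.injective (by omega) hG) _).finrank_eq,
    S.inf_map (by omega) hG (Dist.of_emb P 0 1 2 (by decide)) (Dist.of_emb P 0 1 3 (by decide)),
    hg 0, hg 1, hg 2, hg 3]

theorem adj_dim (hr : 9 ≤ r) (P : Fin 4 ↪ Fin r) :
    finrank L (S.U (P 0) (P 1) (P 2) ⊓ S.U (P 0) (P 1) (P 3) : Submodule L V) = 1 := by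
  have hle : finrank L (S.U (P 0) (P 1) (P 2) ⊓ S.U (P 0) (P 1) (P 3) : Submodule L V) ≤ 2 :=
    (Submodule.finrank_mono inf_le_left).trans
      (S.finrank_eq (Dist.of_emb P 0 1 2 (by decide))).le
  by_contra hne
  rcases Nat.lt_or_ge (finrank L (S.U (P 0) (P 1) (P 2) ⊓ S.U (P 0) (P 1) (P 3) : Submodule L V)) 2
    with hlt | hge
  · -- adjacent planes meet trivially
    have h0 : ∀ Q : Fin 4 ↪ Fin r, S.U (Q 0) (Q 1) (Q 2) ⊓ S.U (Q 0) (Q 1) (Q 3) = ⊥ := fun Q => by
      rw [← Submodule.finrank_eq_zero (R := L), ← S.adj_dim_const (by omega) P Q]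
      omega
    obtain ⟨R⟩ := exists_config (r := r) 9 hr
    set U := fun i j k : Fin 9 => S.U (R i) (R j) (R k) with hU
    set T := fun i j k : Fin 9 => S.T (R i) (R j) (R k) with hT
    have hd : ∀ i j k : Fin 9, (i ≠ j ∧ j ≠ k ∧ i ≠ k) → Dist (R i) (R j) (R k) := Dist.of_emb R
    have hrot : ∀ i j k : Fin 9, (i ≠ j ∧ j ≠ k ∧ i ≠ k) → U j k i = U i j k :=
      fun i j k h => S.rotate (hd i j k h)
    have hflip : ∀ i j k : Fin 9, (i ≠ j ∧ j ≠ k ∧ i ≠ k) → U j i k = U i j k :=
      fun i j k h => S.flip (hd i j k h)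
    have hfix : ∀ e : Fin 6 → Fin 9, Function.Injective e → ∀ v ∈ U (e 0) (e 1) (e 2),
        T (e 3) (e 4) (e 5) v = v := fun e he => S.fixed (sub R e he)
    have hinj : ∀ i j k : Fin 9, (i ≠ j ∧ j ≠ k ∧ i ≠ k) → Function.Injective (T i j k) :=
      fun i j k h => D.injective (by omega) (S.rel (hd i j k h))
    -- images under lifts
    have himg : ∀ i j k a b c : Fin 9, (i ≠ j ∧ j ≠ k ∧ i ≠ k) → (a ≠ b ∧ b ≠ c ∧ a ≠ c) →
        ∀ a' b' c', tri (R i) (R j) (R k) (R a) = R a' → tri (R i) (R j) (R k) (R b) = R b' →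
          tri (R i) (R j) (R k) (R c) = R c' → (U a b c).map (T i j k) = U a' b' c' := by
      intro i j k a b c h h' a' b' c' ha hb hc
      have := S.U_map (by omega) (S.rel (hd i j k h)) (hd a b c h')
      rw [ha, hb, hc] at this
      exact this
    set W : Submodule L V := U 0 1 2 ⊔ U 0 1 3 with hW
    have hWdim : finrank L W = 4 := by
      have h1 := Submodule.finrank_sup_add_finrank_inf_eq (U 0 1 2) (U 0 1 3)
      rw [show U 0 1 2 ⊓ U 0 1 3 = ⊥ from h0 (sub R ![0, 1, 2, 3] (by decide)), finrank_bot,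
        S.finrank_eq (hd 0 1 2 (by decide)), S.finrank_eq (hd 0 1 3 (by decide))] at h1
      rw [hW]; omega
    have h356 : (U 3 4 5).map (T 4 5 6) = U 3 5 6 :=
      himg 4 5 6 3 4 5 (by decide) (by decide) 3 5 6
        (tri_other (R.injective.ne (by decide)) (R.injective.ne (by decide))
          (R.injective.ne (by decide)))
        (tri_fst (hd 4 5 6 (by decide))) (tri_snd (hd 4 5 6 (by decide)))
    have hWU : W ⊓ U 3 4 5 = ⊥ := by
      rw [Submodule.eq_bot_iff]
      rintro v ⟨hv1, hv2⟩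
      have hv : T 4 5 6 v = v := by
        obtain ⟨x, hx, y, hy, rfl⟩ := Submodule.mem_sup.1 hv1
        have e1 : T 4 5 6 x = x := hfix ![0, 1, 2, 4, 5, 6] (by decide) x hx
        have e2 : T 4 5 6 y = y := hfix ![0, 1, 3, 4, 5, 6] (by decide) y hy
        rw [map_add, e1, e2]
      have hv3 : v ∈ U 3 5 6 := h356 ▸ ⟨v, hv2, hv⟩
      have hv4 : v ∈ U 3 5 4 := by
        rw [hflip 5 3 4 (by decide), ← hrot 5 3 4 (by decide)]
        exact hv2
      have h := h0 (sub R ![3, 5, 4, 6] (by decide))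
      exact (Submodule.mem_bot L).1 (h ▸ (⟨hv4, hv3⟩ : v ∈ U 3 5 4 ⊓ U 3 5 6))
    set M : Submodule L V := U 0 1 2 ⊔ U 2 3 4 ⊔ U 4 5 6 with hM
    have hMinv : ∀ i j k : Fin 9, (i ≠ j ∧ j ≠ k ∧ i ≠ k) → U i j k ≤ M →
        M.map (T i j k) ≤ M := by
      rintro i j k h hle _ ⟨v, hv, rfl⟩
      have : T i j k v = (T i j k v - v) + v := by abel
      rw [this]
      exact add_mem (hle (S.moved (hd i j k h) v)) hv
    have hM0 : U 0 1 2 ≤ M := le_sup_left.trans le_sup_left
    have hM2 : U 2 3 4 ≤ M := le_sup_right.trans le_sup_left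
    have hM4 : U 4 5 6 ≤ M := le_sup_right
    have hM013 : U 0 1 3 ≤ M := by
      rw [← himg 2 3 4 0 1 2 (by decide) (by decide) 0 1 3
        (tri_other (R.injective.ne (by decide)) (R.injective.ne (by decide))
          (R.injective.ne (by decide)))
        (tri_other (R.injective.ne (by decide)) (R.injective.ne (by decide))
          (R.injective.ne (by decide)))
        (tri_fst (hd 2 3 4 (by decide)))]
      exact (Submodule.map_mono hM0).trans (hMinv 2 3 4 (by decide) hM2)
    have hM356 : U 3 5 6 ≤ M := by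
      refine le_of_map_le_invariant (hinj 2 3 4 (by decide)) (hMinv 2 3 4 (by decide) hM2) ?_
      rw [himg 2 3 4 3 5 6 (by decide) (by decide) 4 5 6 (tri_snd (hd 2 3 4 (by decide)))
        (tri_other (R.injective.ne (by decide)) (R.injective.ne (by decide))
          (R.injective.ne (by decide)))
        (tri_other (R.injective.ne (by decide)) (R.injective.ne (by decide))
          (R.injective.ne (by decide)))]
      exact hM4
    have hM345 : U 3 4 5 ≤ M := by
      refine le_of_map_le_invariant (hinj 4 5 6 (by decide)) (hMinv 4 5 6 (by decide) hM4) ?_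
      rw [h356]
      exact hM356
    have hMdim : finrank L M ≤ 6 := by
      have h1 := Submodule.finrank_sup_add_finrank_inf_eq (U 0 1 2) (U 2 3 4)
      have h2 := Submodule.finrank_sup_add_finrank_inf_eq (U 0 1 2 ⊔ U 2 3 4) (U 4 5 6)
      rw [S.finrank_eq (hd 0 1 2 (by decide)), S.finrank_eq (hd 2 3 4 (by decide))] at h1
      rw [S.finrank_eq (hd 4 5 6 (by decide))] at h2
      rw [hM]; omega
    have hMeq : W ⊔ U 3 4 5 = M := by
      refine Submodule.eq_of_le_of_finrank_le (sup_le (sup_le hM0 hM013) hM345) ?_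
      have h1 := Submodule.finrank_sup_add_finrank_inf_eq W (U 3 4 5)
      rw [hWU, finrank_bot, hWdim, S.finrank_eq (hd 3 4 5 (by decide))] at h1
      omega
    have hfixM : ∀ v ∈ M, T 6 7 8 v = v := by
      rw [← hMeq]
      intro v hv
      obtain ⟨w, hw, z, hz, rfl⟩ := Submodule.mem_sup.1 hv
      obtain ⟨x, hx, y, hy, rfl⟩ := Submodule.mem_sup.1 hw
      have e1 : T 6 7 8 x = x := hfix ![0, 1, 2, 6, 7, 8] (by decide) x hx
      have e2 : T 6 7 8 y = y := hfix ![0, 1, 3, 6, 7, 8] (by decide) y hy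
      have e3 : T 6 7 8 z = z := hfix ![3, 4, 5, 6, 7, 8] (by decide) z hz
      rw [map_add, map_add, e1, e2, e3]
    have h457 : (U 4 5 6).map (T 6 7 8) = U 4 5 7 :=
      himg 6 7 8 4 5 6 (by decide) (by decide) 4 5 7
        (tri_other (R.injective.ne (by decide)) (R.injective.ne (by decide))
          (R.injective.ne (by decide)))
        (tri_other (R.injective.ne (by decide)) (R.injective.ne (by decide))
          (R.injective.ne (by decide)))
        (tri_fst (hd 6 7 8 (by decide)))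
    have hle' : U 4 5 6 ≤ U 4 5 7 := fun v hv =>
      h457 ▸ ⟨v, hv, hfixM v (hM4 hv)⟩
    have h := h0 (sub R ![4, 5, 6, 7] (by decide))
    have e : U 4 5 6 ⊓ U 4 5 7 = U 4 5 6 := inf_eq_left.2 hle'
    have h' : finrank L (U 4 5 6 ⊓ U 4 5 7 : Submodule L V) = 0 := by
      rw [show U 4 5 6 ⊓ U 4 5 7 = ⊥ from h, finrank_bot]
    rw [e, S.finrank_eq (hd 4 5 6 (by decide))] at h'
    omega
  · -- adjacent planes coincide
    have h2 : ∀ Q : Fin 4 ↪ Fin r, S.U (Q 0) (Q 1) (Q 2) = S.U (Q 0) (Q 1) (Q 3) := fun Q => by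
      have hd2 := (S.adj_dim_const (by omega) P Q)
      have e1 : S.U (Q 0) (Q 1) (Q 2) ⊓ S.U (Q 0) (Q 1) (Q 3) = S.U (Q 0) (Q 1) (Q 2) :=
        Submodule.eq_of_le_of_finrank_le inf_le_left
          (by rw [S.finrank_eq (Dist.of_emb Q 0 1 2 (by decide))]; omega)
      exact Submodule.eq_of_le_of_finrank_le (inf_eq_left.1 e1)
        (by rw [S.finrank_eq (Dist.of_emb Q 0 1 2 (by decide)),
          S.finrank_eq (Dist.of_emb Q 0 1 3 (by decide))])
    obtain ⟨R⟩ := exists_config (r := r) 6 (by omega)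
    have step : ∀ a b c d : Fin 6, (hi : Function.Injective ![b, c, a, d]) →
        S.U (R a) (R b) (R c) = S.U (R b) (R c) (R d) := by
      intro a b c d hi
      have h := h2 (sub R ![b, c, a, d] hi)
      have hn : Dist (R a) (R b) (R c) :=
        Dist.of_emb R a b c ⟨hi.ne (a₁ := 2) (a₂ := 0) (by decide),
          hi.ne (a₁ := 0) (a₂ := 1) (by decide), hi.ne (a₁ := 2) (a₂ := 1) (by decide)⟩
      rw [← S.rotate hn]
      exact h
    have e : S.U (R 0) (R 1) (R 2) = S.U (R 3) (R 4) (R 5) :=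
      (step 0 1 2 3 (by decide)).trans ((step 1 2 3 4 (by decide)).trans
        (step 2 3 4 5 (by decide)))
    have h := S.disjoint_planes R
    rw [← e, inf_idem, ← Submodule.finrank_eq_zero (R := L),
      S.finrank_eq (Dist.of_emb R 0 1 2 (by decide))] at h
    omega

theorem adj_indep (hr : 9 ≤ r) (P : Fin 5 ↪ Fin r) :
    S.U (P 0) (P 1) (P 2) ⊓ S.U (P 0) (P 1) (P 3) =
      S.U (P 0) (P 1) (P 2) ⊓ S.U (P 0) (P 1) (P 4) := by
  by_contra hP
  have hbad : ∀ Q : Fin 5 ↪ Fin r, S.U (Q 0) (Q 1) (Q 2) ⊓ S.U (Q 0) (Q 1) (Q 3) ≠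
      S.U (Q 0) (Q 1) (Q 2) ⊓ S.U (Q 0) (Q 1) (Q 4) := by
    intro Q hQ
    obtain ⟨g, G, hG, hg⟩ := D.exists_move (by omega) Q P
    have h := congrArg (Submodule.map G) hQ
    rw [S.inf_map (by omega) hG (Dist.of_emb Q 0 1 2 (by decide)) (Dist.of_emb Q 0 1 3 (by decide)),
      S.inf_map (by omega) hG (Dist.of_emb Q 0 1 2 (by decide))
        (Dist.of_emb Q 0 1 4 (by decide))] at h
    simp only [hg] at h
    exact hP h
  obtain ⟨R⟩ := exists_config (r := r) 7 (by omega)
  set W : Submodule L V := S.U (R 0) (R 1) (R 2) ⊔ S.U (R 0) (R 1) (R 3) with hW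
  have hd : ∀ i j k : Fin 7, (i ≠ j ∧ j ≠ k ∧ i ≠ k) → Dist (R i) (R j) (R k) := Dist.of_emb R
  set A := S.U (R 0) (R 1) (R 2) ⊓ S.U (R 0) (R 1) (R 4) with hA
  set B := S.U (R 0) (R 1) (R 3) ⊓ S.U (R 0) (R 1) (R 4) with hB
  have hA1 : finrank L A = 1 := S.adj_dim hr (sub R ![0, 1, 2, 4] (by decide))
  have hB1 : finrank L B = 1 := S.adj_dim hr (sub R ![0, 1, 3, 4] (by decide))
  have hAB : A ≠ B := by
    intro h
    refine hbad (sub R ![0, 1, 2, 3, 4] (by decide)) ?_
    refine (Submodule.eq_of_le_of_finrank_le (le_inf inf_le_left (h.le.trans inf_le_left)) ?_).symm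
    exact (S.adj_dim hr (sub R ![0, 1, 2, 3] (by decide))).le.trans hA1.symm.le
  have hAB0 : A ⊓ B = ⊥ := by
    rw [← Submodule.finrank_eq_zero (R := L)]
    by_contra h
    have h1 : finrank L (A ⊓ B : Submodule L V) ≤ finrank L A := Submodule.finrank_mono inf_le_left
    have e1 : A ⊓ B = A := Submodule.eq_of_le_of_finrank_le inf_le_left (by omega)
    exact hAB (Submodule.eq_of_le_of_finrank_le (inf_eq_left.1 e1) (by omega))
  have h014 : A ⊔ B = S.U (R 0) (R 1) (R 4) := by
    refine Submodule.eq_of_le_of_finrank_le (sup_le inf_le_right inf_le_right) ?_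
    have := Submodule.finrank_sup_add_finrank_inf_eq A B
    rw [hAB0, finrank_bot, hA1, hB1] at this
    rw [S.finrank_eq (hd 0 1 4 (by decide))]
    omega
  have hfix : ∀ v ∈ S.U (R 0) (R 1) (R 4), S.T (R 4) (R 5) (R 6) v = v := by
    rw [← h014]
    intro v hv
    obtain ⟨x, hx, y, hy, rfl⟩ := Submodule.mem_sup.1 hv
    have hx' := S.fixed (sub R ![0, 1, 2, 4, 5, 6] (by decide)) x hx.1
    have hy' := S.fixed (sub R ![0, 1, 3, 4, 5, 6] (by decide)) y hy.1
    simp only [sub_apply] at hx' hy'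
    rw [map_add]
    exact congrArg₂ (· + ·) hx' hy'
  have hmap := S.U_map (by omega) (S.rel (hd 4 5 6 (by decide))) (hd 0 1 4 (by decide))
  rw [tri_other (R.injective.ne (by decide)) (R.injective.ne (by decide))
      (R.injective.ne (by decide)),
    tri_other (R.injective.ne (by decide)) (R.injective.ne (by decide))
      (R.injective.ne (by decide)), tri_fst (hd 4 5 6 (by decide))] at hmap
  have hle : S.U (R 0) (R 1) (R 4) ≤ S.U (R 0) (R 1) (R 5) := fun v hv =>
    hmap ▸ ⟨v, hv, hfix v hv⟩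
  have h1 := S.adj_dim hr (sub R ![0, 1, 4, 5] (by decide))
  have e : S.U (R 0) (R 1) (R 4) ⊓ S.U (R 0) (R 1) (R 5) = S.U (R 0) (R 1) (R 4) :=
    inf_eq_left.2 hle
  have h2 : finrank L (S.U (R 0) (R 1) (R 4) ⊓ S.U (R 0) (R 1) (R 5) : Submodule L V) = 1 := h1
  rw [e, S.finrank_eq (hd 0 1 4 (by decide))] at h2
  omega

/-- The line of a pair. -/
def line (a b : Fin r) : Submodule L V := ⨅ c : Fin r, ⨅ _ : Dist a b c, S.U a b c

theorem line_le {a b c : Fin r} (h : Dist a b c) : S.line a b ≤ S.U a b c :=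
  iInf₂_le (f := fun c (_ : Dist a b c) => S.U a b c) c h

theorem line_eq (hr : 9 ≤ r) {a b c d : Fin r} (hab : a ≠ b) (hc : Dist a b c) (hd : Dist a b d)
    (hcd : c ≠ d) : S.line a b = S.U a b c ⊓ S.U a b d := by
  refine le_antisymm (le_inf (S.line_le hc) (S.line_le hd)) (le_iInf₂ fun e he => ?_)
  rcases eq_or_ne e c with rfl | hec
  · exact inf_le_left
  rcases eq_or_ne e d with rfl | hed
  · exact inf_le_right
  obtain ⟨-, hbc, hac⟩ := hc
  obtain ⟨-, hbd, had⟩ := hd
  obtain ⟨-, hbe, hae⟩ := he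
  have hi : Function.Injective ![a, b, c, d, e] := by
    intro i j h
    fin_cases i <;> fin_cases j <;>
      simp_all [eq_comm]
  have h : S.U a b c ⊓ S.U a b d = S.U a b c ⊓ S.U a b e := S.adj_indep hr ⟨_, hi⟩
  rw [h]; exact inf_le_right

theorem exists_two (hr : 9 ≤ r) {a b : Fin r} (hab : a ≠ b) :
    ∃ c d, Dist a b c ∧ Dist a b d ∧ c ≠ d := by
  have h1 : 1 < ((Finset.univ : Finset (Fin r)) \ {a, b}).card := by
    rw [Finset.card_sdiff, Finset.inter_univ, Finset.card_univ, Fintype.card_fin]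
    have : ({a, b} : Finset (Fin r)).card ≤ 2 := Finset.card_le_two
    omega
  obtain ⟨c, hc, d, hd, hcd⟩ := Finset.one_lt_card.1 h1
  simp only [Finset.mem_sdiff, Finset.mem_univ, true_and, Finset.mem_insert, Finset.mem_singleton,
    not_or] at hc hd
  exact ⟨c, d, ⟨hab, Ne.symm hc.2, Ne.symm hc.1⟩, ⟨hab, Ne.symm hd.2, Ne.symm hd.1⟩, hcd⟩

theorem line_finrank (hr : 9 ≤ r) {a b : Fin r} (hab : a ≠ b) : finrank L (S.line a b) = 1 := by
  obtain ⟨c, d, hc, hd, hcd⟩ := exists_two hr hab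
  rw [S.line_eq hr hab hc hd hcd]
  have hi : Function.Injective ![a, b, c, d] := by
    intro i j h
    obtain ⟨-, hbc, hac⟩ := hc
    obtain ⟨-, hbd, had⟩ := hd
    fin_cases i <;> fin_cases j <;>
      simp_all [eq_comm]
  exact S.adj_dim hr ⟨_, hi⟩

theorem line_symm (a b : Fin r) : S.line a b = S.line b a := by
  have key : ∀ a b : Fin r, S.line a b ≤ S.line b a := fun a b =>
    le_iInf₂ fun c h => (S.line_le (a := a) (b := b) (c := c) ⟨h.1.symm, h.2.2, h.2.1⟩).trans
      (S.flip h).le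
  exact le_antisymm (key a b) (key b a)

theorem line_equiv {g G} (hG : D.rel g G) {a b : Fin r} (hab : a ≠ b) :
    ∀ v ∈ S.line a b, G v ∈ S.line (g a) (g b) := by
  intro v hv
  refine Submodule.mem_iInf _ |>.2 fun c => Submodule.mem_iInf _ |>.2 fun hc => ?_
  obtain ⟨c, rfl⟩ := g.surjective c
  have h : Dist a b c := ⟨hab, fun h => hc.2.1 (congrArg g h), fun h => hc.2.2 (congrArg g h)⟩
  exact S.equiv hG h v (S.line_le h hv)

theorem line_ne (hr : 9 ≤ r) {a b c : Fin r} (hab : a ≠ b) (hbc : b ≠ c) (hac : a ≠ c) :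
    S.line a b ≠ S.line a c := by
  intro h
  have hall : ∀ Q : Fin 3 ↪ Fin r, S.line (Q 0) (Q 1) = S.line (Q 0) (Q 2) := by
    intro Q
    have hi : Function.Injective ![a, b, c] := by
      intro i j h'
      fin_cases i <;> fin_cases j <;>
        simp_all [eq_comm]
    obtain ⟨g, G, hG, hg⟩ := D.exists_move (by omega) ⟨_, hi⟩ Q
    have hmap : ∀ x y : Fin r, x ≠ y → (S.line x y).map G = S.line (g x) (g y) := by
      intro x y hxy
      refine map_eq_of_le (D.injective (by omega) hG) ?_ ?_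
      · rintro _ ⟨v, hv, rfl⟩
        exact S.line_equiv hG hxy v hv
      · rw [S.line_finrank hr hxy, S.line_finrank hr (g.injective.ne hxy)]
    have h' := congrArg (Submodule.map G) h
    rw [hmap a b hab, hmap a c hac] at h'
    have e0 : g a = Q 0 := hg 0
    have e1 : g b = Q 1 := hg 1
    have e2 : g c = Q 2 := hg 2
    rwa [e0, e1, e2] at h'
  obtain ⟨R⟩ := exists_config (r := r) 6 (by omega)
  have step : ∀ i j l : Fin 6, (hi : Function.Injective ![j, i, l]) →
      S.line (R i) (R j) = S.line (R j) (R l) := by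
    intro i j l hi
    rw [S.line_symm (R i) (R j)]
    exact hall (sub R ![j, i, l] hi)
  have e : S.line (R 0) (R 1) = S.line (R 4) (R 5) :=
    (step 0 1 2 (by decide)).trans ((step 1 2 3 (by decide)).trans
      ((step 2 3 4 (by decide)).trans (step 3 4 5 (by decide))))
  have hle : S.line (R 0) (R 1) ≤ S.U (R 0) (R 1) (R 2) ⊓ S.U (R 3) (R 4) (R 5) := by
    refine le_inf (S.line_le (Dist.of_emb R 0 1 2 (by decide))) ?_
    rw [e, ← S.rotate (Dist.of_emb R 3 4 5 (by decide))]
    exact S.line_le (Dist.of_emb R 4 5 3 (by decide))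
  rw [S.disjoint_planes R, le_bot_iff, ← Submodule.finrank_eq_zero (R := L),
    S.line_finrank hr (R.injective.ne (by decide))] at hle
  omega

/-- Planes give lines. -/
def toLineSystem (hr : 9 ≤ r) : LineSystem D where
  line := S.line
  finrank_eq _ _ h := S.line_finrank hr h
  symm a b _ := S.line_symm a b
  equiv hG _ _ hab v hv := S.line_equiv hG hab v hv
  ne _ _ _ hab hbc hac := S.line_ne hr hab hbc hac
  coplanar a b c hab hbc hac := by
    have hd : Dist a b c := ⟨hab, hbc, hac⟩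
    have hd' : Dist c a b := ⟨hac.symm, hab, hbc.symm⟩
    have h1 : S.line a b ≤ S.U a b c := S.line_le hd
    have h2 : S.line b c ≤ S.U a b c :=
      (S.line_le (c := a) ⟨hbc, hac.symm, hab.symm⟩).trans (S.rotate hd).le
    have h3 : S.line a c ≤ S.U a b c := by
      rw [S.rotate hd', ← S.flip hd']
      exact S.line_le ⟨hac, hbc.symm, hab⟩
    suffices h : S.line a b ⊔ S.line b c = S.U a b c by rw [h]; exact h3
    refine Submodule.eq_of_le_of_finrank_le (sup_le h1 h2) ?_
    have h0 : S.line a b ⊓ S.line b c = ⊥ := by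
      rw [← Submodule.finrank_eq_zero (R := L)]
      by_contra hne
      have hA := S.line_finrank hr hab
      have hB := S.line_finrank hr hbc
      have h' := Submodule.finrank_mono (inf_le_left : S.line a b ⊓ S.line b c ≤ S.line a b)
      have e1 : S.line a b ⊓ S.line b c = S.line a b :=
        Submodule.eq_of_le_of_finrank_le inf_le_left (by omega)
      have e2 : S.line a b = S.line b c :=
        Submodule.eq_of_le_of_finrank_le (inf_eq_left.1 e1) (by omega)
      exact S.line_ne hr hab.symm hac hbc ((S.line_symm b a).trans e2)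
    have := Submodule.finrank_sup_add_finrank_inf_eq (S.line a b) (S.line b c)
    rw [h0, finrank_bot, S.line_finrank hr hab, S.line_finrank hr hbc] at this
    rw [S.finrank_eq hd]
    omega
  plane a b c d hab hac had hbc hbd hcd h := by
    have hc : Dist a b c := ⟨hab, hbc, hac⟩
    have hd : Dist a b d := ⟨hab, hbd, had⟩
    have hd' : Dist d a b := ⟨had.symm, hab, hbd.symm⟩
    have h1 : S.line a b ⊔ S.line a c ≤ S.U a b c := by
      refine sup_le (S.line_le hc) ?_
      have hc' : Dist c a b := ⟨hac.symm, hab, hbc.symm⟩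
      rw [S.rotate hc', ← S.flip hc']
      exact S.line_le ⟨hac, hbc.symm, hab⟩
    have h2 : S.line a d ≤ S.U a b d := by
      rw [S.rotate hd', ← S.flip hd']
      exact S.line_le ⟨had, hbd.symm, hab⟩
    have h3 : S.line a d ≤ S.line a b := by
      rw [S.line_eq hr hab hc hd hcd]
      exact le_inf (h.trans h1) h2
    exact S.line_ne hr hab hbd had (Submodule.eq_of_le_of_finrank_le h3
      (by rw [S.line_finrank hr hab, S.line_finrank hr had])).symm

end PlaneSys

end Cfsg.Agent.AltSection
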