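import Cfsg.Agent.Lib.Transfer.AltSection.Invol
import Mathlib.GroupTheory.Frattini
import Mathlib.GroupTheory.IsPerfect
import Mathlib.GroupTheory.SpecificGroups.Alternating.Simple
import Mathlib.GroupTheory.GroupAction.Quotient
import Mathlib.Algebra.Module.ZMod
import Mathlib.FieldTheory.IsAlgClosed.AlgebraicClosure

/-!
Reduction of linear representations of finite groups with an alternating quotient to faithful
projective representations of the alternating group.
-/

namespace Cfsg.Agent.AltSection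

open Equiv Equiv.Perm Module

variable {r : ℕ}

theorem alt_simple (hr : 5 ≤ r) : IsSimpleGroup (alternatingGroup (Fin r)) :=
  alternatingGroup.isSimpleGroup (by simpa using hr)

theorem alt_center (hr : 5 ≤ r) {x : alternatingGroup (Fin r)}
    (hx : x ∈ Subgroup.center (alternatingGroup (Fin r))) : x = 1 := by
  rw [alternatingGroup.center_eq_bot (by simp; omega)] at hx
  exact Subgroup.mem_bot.1 hx

theorem alt_perfect (hr : 5 ≤ r) : commutator (alternatingGroup (Fin r)) = ⊤ := by
  have := alt_simple hr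
  refine (Subgroup.Normal.eq_bot_or_eq_top (inferInstance : (commutator _).Normal)).resolve_left ?_
  intro h
  have hab : ∀ x : alternatingGroup (Fin r), x ∈ Subgroup.center (alternatingGroup (Fin r)) := by
    intro x
    rw [Subgroup.mem_center_iff]
    intro y
    have hm : y * x * y⁻¹ * x⁻¹ ∈ commutator (alternatingGroup (Fin r)) :=
      Subgroup.commutator_mem_commutator (Subgroup.mem_top y) (Subgroup.mem_top x)
    rw [h, Subgroup.mem_bot, mul_inv_eq_one, mul_inv_eq_iff_eq_mul] at hm
    exact hm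
  obtain ⟨x, hx⟩ := exists_ne (1 : alternatingGroup (Fin r))
  exact hx (alt_center hr (hab x))

/-- The alternating group has no proper subgroup of index less than its degree. -/
theorem alt_index_ge (hr : 5 ≤ r) {S : Subgroup (alternatingGroup (Fin r))} (hS : S ≠ ⊤) :
    r ≤ S.index := by
  classical
  have := alt_simple hr
  by_contra hlt
  have hker : (MulAction.toPermHom (alternatingGroup (Fin r))
      (alternatingGroup (Fin r) ⧸ S)).ker = ⊥ := by
    refine (Subgroup.Normal.eq_bot_or_eq_top (MonoidHom.normal_ker _)).resolve_right fun h => hS ?_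
    rw [← Subgroup.normalCore_eq_ker] at h
    exact eq_top_iff.2 (h ▸ Subgroup.normalCore_le S)
  have hinj := (MonoidHom.ker_eq_bot_iff _).1 hker
  have h1 := Nat.card_le_card_of_injective _ hinj
  rw [Nat.card_perm, ← Subgroup.index_eq_card] at h1
  have : Nontrivial (Fin r) := Fin.nontrivial_iff_two_le.2 (by omega)
  have h2 := two_mul_nat_card_alternatingGroup (α := Fin r)
  rw [Nat.card_perm, Nat.card_fin] at h2
  have h3 : (r - 1).factorial * r = r.factorial := by
    rw [mul_comm, Nat.mul_factorial_pred (by omega)]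
  have h4 : S.index.factorial ≤ (r - 1).factorial := Nat.factorial_le (by omega)
  have h5 : 0 < (r - 1).factorial := Nat.factorial_pos _
  have h6 : (r - 1).factorial * 5 ≤ (r - 1).factorial * r := Nat.mul_le_mul_left _ hr
  omega

variable {L V : Type} [Field L] [AddCommGroup V] [Module L V] [FiniteDimensional L V]

theorem card_le_finrank_of_joint {ι κ : Type*} [Fintype ι] {W : Type*} [AddCommGroup W]
    [Module L W] [FiniteDimensional L W] (f : κ → Module.End L W)
    (hf : ∀ a b, Commute (f a) (f b)) (μ : ι → κ → L) (hμ : Function.Injective μ) (v : ι → W)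
    (hv : ∀ i, v i ≠ 0) (he : ∀ i a, f a (v i) = μ i a • v i) :
    Fintype.card ι ≤ finrank L W := by
  have h : iSupIndep fun x : κ → L => ⨅ a, (f a).maxGenEigenspace (x a) :=
    Module.End.independent_iInf_maxGenEigenspace_of_forall_mapsTo f
      fun a b φ => Module.End.mapsTo_maxGenEigenspace_of_comm (hf a b).symm φ
  refine ((h.comp hμ).linearIndependent _ (fun i => ?_) hv).fintype_card_le_finrank
  refine Submodule.mem_iInf _ |>.2 fun a => ?_
  exact (Module.End.mem_maxGenEigenspace _ _ _).2 ⟨1, by simp [he i a]⟩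

theorem exists_common_eigen [IsAlgClosed L] {κ : Type*} (f : κ → Module.End L V)
    (hf : ∀ a b, Commute (f a) (f b)) (E : Submodule L V) (hE0 : E ≠ ⊥)
    (hE : ∀ a, ∀ v ∈ E, f a v ∈ E) : ∃ v, v ≠ 0 ∧ ∀ a, ∃ μ : L, f a v = μ • v := by
  induction hn : finrank L E using Nat.strong_induction_on generalizing E with
  | _ n ih =>
    subst hn
    obtain ⟨v₀, hv₀, hv₀0⟩ := (Submodule.ne_bot_iff _).1 hE0
    by_cases hsc : ∀ a, ∃ μ : L, ∀ v ∈ E, f a v = μ • v
    · exact ⟨v₀, hv₀0, fun a => (hsc a).imp fun μ h => h v₀ hv₀⟩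
    simp only [not_forall, not_exists] at hsc
    obtain ⟨a, hsc⟩ := hsc
    have : Nontrivial E := Submodule.nontrivial_iff_ne_bot.2 hE0
    let TE : Module.End L E := (f a).restrict fun v hv => hE a v hv
    obtain ⟨μ, hμ⟩ := Module.End.exists_eigenvalue TE
    obtain ⟨x, hx, hx0⟩ := hμ.exists_hasEigenvector
    let K : Submodule L V := E ⊓ Module.End.eigenspace (f a) μ
    have hxK : (x : V) ∈ K :=
      ⟨x.2, Module.End.mem_eigenspace_iff.2
        (congrArg Subtype.val (Module.End.mem_eigenspace_iff.1 hx))⟩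
    refine ih (finrank L K) (Submodule.finrank_lt_finrank_of_lt (lt_of_le_of_ne inf_le_left ?_)) K
      (fun h => ?_) (fun b v hv => ⟨hE b v hv.1, ?_⟩) rfl
    · intro h
      obtain ⟨u, hu, hu'⟩ := hsc μ
      have : u ∈ K := by rw [show K = E from h]; exact hu
      exact hu' (Module.End.mem_eigenspace_iff.1 this.2)
    · rw [h] at hxK
      exact hx0 (Subtype.ext ((Submodule.mem_bot L).1 hxK))
    · rw [SetLike.mem_coe, Module.End.mem_eigenspace_iff, ← Module.End.mul_apply, (hf a b).eq,
        Module.End.mul_apply, Module.End.mem_eigenspace_iff.1 hv.2, map_smul]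

variable {H : Type} [Group H] [Finite H]

/-- A representation of a minimal extension, faithful and irreducible. -/
structure MinRep (π : H →* alternatingGroup (Fin r)) (ρ : H →* Module.End L V) : Prop where
  surj : Function.Surjective π
  min : ∀ S : Subgroup H, S.map π = ⊤ → S = ⊤
  faithful : ∀ h, ρ h = 1 → h = 1
  irred : ∀ W : Submodule L V, (∀ h, ∀ v ∈ W, ρ h v ∈ W) → W = ⊥ ∨ W = ⊤

namespace MinRep

variable {π : H →* alternatingGroup (Fin r)} {ρ : H →* Module.End L V}

omit [FiniteDimensional L V] in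
theorem isPerfect (R : MinRep π ρ) (hr : 5 ≤ r) : Group.IsPerfect H := by
  refine ⟨R.min _ ?_⟩
  rw [commutator_def, Subgroup.map_commutator, ← MonoidHom.range_eq_map,
    MonoidHom.range_eq_top_of_surjective π R.surj]
  exact alt_perfect hr

omit [Finite H] [FiniteDimensional L V] in
theorem inv_apply (h : H) (v : V) : ρ h (ρ h⁻¹ v) = v := by
  rw [← Module.End.mul_apply, ← map_mul, mul_inv_cancel, map_one, Module.End.one_apply]

omit [Finite H] [FiniteDimensional L V] in
theorem nontrivial (R : MinRep π ρ) (hr : 5 ≤ r) : Nontrivial V := by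
  by_contra hV
  rw [not_nontrivial_iff_subsingleton] at hV
  have := alt_simple hr
  obtain ⟨x, hx⟩ := exists_ne (1 : alternatingGroup (Fin r))
  obtain ⟨h, rfl⟩ := R.surj x
  exact hx (by rw [R.faithful h (LinearMap.ext fun v => Subsingleton.elim _ _), map_one])

omit [Finite H] in
theorem scalar_of_central [IsAlgClosed L] (R : MinRep π ρ) (hr : 5 ≤ r) {z : H}
    (hz : z ∈ Subgroup.center H) : ∃ μ : L, μ ≠ 0 ∧ ρ z = μ • 1 := by
  have := R.nontrivial hr
  obtain ⟨μ, hμ⟩ := Module.End.exists_eigenvalue (ρ z)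
  have hW : Module.End.eigenspace (ρ z) μ = ⊤ := by
    refine (R.irred _ fun h v hv => ?_).resolve_left hμ
    rw [Module.End.mem_eigenspace_iff] at hv ⊢
    rw [← Module.End.mul_apply, ← map_mul, ← Subgroup.mem_center_iff.1 hz h, map_mul,
      Module.End.mul_apply, hv, map_smul]
  have he : ρ z = μ • 1 := LinearMap.ext fun v => by
    rw [LinearMap.smul_apply, Module.End.one_apply]
    exact Module.End.mem_eigenspace_iff.1 (hW ▸ Submodule.mem_top)
  refine ⟨μ, fun h0 => ?_, he⟩
  obtain ⟨v, hv⟩ := exists_ne (0 : V)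
  refine hv ?_
  have e : ρ z⁻¹ (ρ z v) = v := by
    rw [← Module.End.mul_apply, ← map_mul, inv_mul_cancel, map_one, Module.End.one_apply]
  rw [← e, he, h0]
  simp

/-- A noncentral abelian normal subgroup forces dimension at least `r`. -/
theorem le_of_abelian [IsAlgClosed L] (R : MinRep π ρ) (hr : 5 ≤ r) {A : Subgroup H} [A.Normal]
    (hA : ∀ x ∈ A, ∀ y ∈ A, x * y = y * x) (hnc : ¬ A ≤ Subgroup.center H) :
    r ≤ finrank L V := by
  classical
  have := R.nontrivial hr
  have hcomm : ∀ a b : A, Commute (ρ a) (ρ b) := fun a b => by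
    rw [Commute, SemiconjBy, ← map_mul, ← map_mul, hA a a.2 b b.2]
  obtain ⟨v, hv, hvμ⟩ := exists_common_eigen (fun a : A => ρ a) hcomm ⊤ top_ne_bot
    (fun _ _ _ => Submodule.mem_top)
  choose μ hμ using hvμ
  let c : H → A → L := fun h a => μ ⟨h⁻¹ * a * h, by
    simpa using ‹A.Normal›.conj_mem a a.2 h⁻¹⟩
  have heig : ∀ (h : H) (a : A), ρ a (ρ h v) = c h a • ρ h v := by
    intro h a
    rw [← map_smul, ← hμ, ← Module.End.mul_apply, ← Module.End.mul_apply, ← map_mul, ← map_mul]
    congr 2
    group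
  have hne : ∀ h, ρ h v ≠ 0 := fun h h0 => hv (by
    have := congrArg (ρ h⁻¹) h0
    rwa [map_zero, ← Module.End.mul_apply, ← map_mul, inv_mul_cancel, map_one,
      Module.End.one_apply] at this)
  have hc : ∀ g h a, c (g * h) a = c h ⟨g⁻¹ * a * g, by
      simpa using ‹A.Normal›.conj_mem a a.2 g⁻¹⟩ := by
    intro g h a
    refine congrArg μ (Subtype.ext ?_)
    show (g * h)⁻¹ * (a : H) * (g * h) = h⁻¹ * (g⁻¹ * (a : H) * g) * h
    group
  let S : Subgroup H :=
    { carrier := {h | c h = c 1}
      one_mem' := rfl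
      mul_mem' := fun {g h} hg hh => by
        simp only [Set.mem_setOf_eq] at hg hh ⊢
        funext a
        rw [hc, hh, ← hc g 1 a, mul_one, hg]
      inv_mem' := fun {g} hg => by
        simp only [Set.mem_setOf_eq] at hg ⊢
        funext a
        have e := congrFun hg ⟨g * a * g⁻¹, ‹A.Normal›.conj_mem a a.2 g⟩
        have e1 : c g ⟨g * a * g⁻¹, ‹A.Normal›.conj_mem a a.2 g⟩ = c 1 a := by
          refine congrArg μ (Subtype.ext ?_)
          show g⁻¹ * (g * (a : H) * g⁻¹) * g = 1⁻¹ * (a : H) * 1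
          group
        rw [← e1, e]
        refine congrArg μ (Subtype.ext ?_)
        show g⁻¹⁻¹ * (a : H) * g⁻¹ = 1⁻¹ * (g * (a : H) * g⁻¹) * 1
        group }
  by_cases hS : S = ⊤
  · exfalso
    apply hnc
    intro x hx
    let W : Submodule L V := ⨅ a : A, Module.End.eigenspace (ρ a) (c 1 a)
    have hW : W = ⊤ := by
      refine (R.irred W fun h u hu => ?_).resolve_left fun h0 => ?_
      · simp only [W, Submodule.mem_iInf, Module.End.mem_eigenspace_iff] at hu ⊢
        intro a
        have e : c h = c 1 := by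
          have : h ∈ S := hS ▸ Subgroup.mem_top h
          exact this
        have e2 := hu ⟨h⁻¹ * a * h, by simpa using ‹A.Normal›.conj_mem a a.2 h⁻¹⟩
        rw [← congrFun e a, ← Module.End.mul_apply, ← map_mul,
          show (a : H) * h = h * (h⁻¹ * a * h) by group, map_mul, Module.End.mul_apply, e2,
          map_smul]
        congr 1
        refine congrArg μ (Subtype.ext ?_)
        show 1⁻¹ * (h⁻¹ * (a : H) * h) * 1 = h⁻¹ * (a : H) * h
        group
      · have hvW : v ∈ W := by
          simp only [W, Submodule.mem_iInf, Module.End.mem_eigenspace_iff]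
          intro a
          have e := heig 1 a
          rwa [map_one, Module.End.one_apply] at e
        rw [h0] at hvW
        exact hv ((Submodule.mem_bot L).1 hvW)
    have hsc : ρ x = c 1 ⟨x, hx⟩ • 1 := LinearMap.ext fun u => by
      have hu : u ∈ W := hW ▸ Submodule.mem_top
      simp only [W, Submodule.mem_iInf, Module.End.mem_eigenspace_iff] at hu
      simpa using hu ⟨x, hx⟩
    rw [Subgroup.mem_center_iff]
    intro y
    have e : ρ (y * x * y⁻¹ * x⁻¹) = 1 := by
      rw [map_mul, map_mul, map_mul, hsc, mul_smul_comm, mul_one, smul_mul_assoc, ← map_mul,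
        mul_inv_cancel, map_one, ← hsc, ← map_mul, mul_inv_cancel, map_one]
    have e' := R.faithful _ e
    rw [mul_inv_eq_one, mul_inv_eq_iff_eq_mul] at e'
    exact e'
  · have hi : (S.map π).index ∣ S.index := S.index_map_dvd R.surj
    have hge : r ≤ (S.map π).index := alt_index_ge hr fun h => hS (R.min S h)
    have hpos : 0 < S.index := Nat.pos_of_ne_zero Subgroup.FiniteIndex.index_ne_zero
    have hrS : r ≤ S.index := hge.trans (Nat.le_of_dvd hpos hi)
    let μ' : H ⧸ S → A → L := fun x => c x.out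
    have hinj : Function.Injective μ' := by
      intro x y hxy
      rw [← QuotientGroup.out_eq' x, ← QuotientGroup.out_eq' y, QuotientGroup.eq]
      show c (x.out⁻¹ * y.out) = c 1
      funext a
      rw [hc]
      refine (congrFun hxy _).symm.trans (congrArg μ (Subtype.ext ?_))
      show x.out⁻¹ * (x.out⁻¹⁻¹ * (a : H) * x.out⁻¹) * x.out = 1⁻¹ * (a : H) * 1
      group
    have := Fintype.ofFinite (H ⧸ S)
    have h := card_le_finrank_of_joint (fun a : A => ρ a) hcomm μ' hinj (fun x => ρ x.out v)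
      (fun x => hne _) (fun x a => heig _ a)
    rw [Subgroup.index_eq_card, Nat.card_eq_fintype_card] at hrS
    omega

/-- An elementary abelian section acted upon by the alternating group. -/
theorem exists_section [IsAlgClosed L] (R : MinRep π ρ) (hr : 5 ≤ r) (hsmall : finrank L V < r)
    (hK : ¬ π.ker ≤ Subgroup.center H) :
    ∃ (q : ℕ) (_ : q.Prime) (M : Type) (_ : CommGroup M) (_ : Finite M),
      (∀ x : M, x ^ q = 1) ∧ Nat.card M ≤ finrank L V * finrank L V ∧
      Nat.card (alternatingGroup (Fin r)) < Nat.card H ∧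
      ∃ θ : alternatingGroup (Fin r) →* MulAut M, Function.Injective θ := by
  classical
  have hperf := R.isPerfect hr
  have := alt_simple hr
  have hfr : π.ker ≤ frattini H := by
    rw [frattini, Order.radical]
    refine le_iInf₂ fun S hS => ?_
    by_contra hnle
    have htop : S ⊔ π.ker = ⊤ := hS.2 _ (left_lt_sup.2 hnle)
    refine hS.1 (R.min S ?_)
    have e := congrArg (Subgroup.map π) htop
    rwa [Subgroup.map_sup, (Subgroup.map_eq_bot_iff _).2 le_rfl, sup_bot_eq,
      Subgroup.map_top_of_surjective π R.surj] at e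
  have := frattini_nilpotent (G := H)
  have hnil : Group.IsNilpotent π.ker :=
    Group.nilpotent_of_mulEquiv (Subgroup.subgroupOfEquivOfLe hfr)
  let mk : H →* H ⧸ Subgroup.center H := QuotientGroup.mk' _
  let K' : Subgroup (H ⧸ Subgroup.center H) := π.ker.map mk
  have hK'n : K'.Normal := Subgroup.Normal.map inferInstance _ (QuotientGroup.mk'_surjective _)
  have hK'nil : Group.IsNilpotent K' :=
    Group.nilpotent_of_surjective (mk.subgroupMap π.ker) (mk.subgroupMap_surjective π.ker)
  have hK'ne : K' ≠ ⊥ := by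
    intro h
    rw [Subgroup.map_eq_bot_iff, QuotientGroup.ker_mk'] at h
    exact hK h
  have : Nontrivial K' := (Subgroup.nontrivial_iff_ne_bot _).2 hK'ne
  have hZ := Group.IsNilpotent.center_ne_bot (G := K')
  have hZc : Nat.card (Subgroup.center K') ≠ 1 := fun h => hZ (Subgroup.card_eq_one.1 h)
  set q := (Nat.card (Subgroup.center K')).minFac with hqdef
  have hq : q.Prime := Nat.minFac_prime hZc
  have : Fact q.Prime := ⟨hq⟩
  let M : Subgroup (H ⧸ Subgroup.center H) :=
    { carrier := {x | x ∈ K' ∧ (∀ k ∈ K', k * x = x * k) ∧ x ^ q = 1}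
      one_mem' := ⟨one_mem _, fun k _ => by rw [mul_one, one_mul], one_pow _⟩
      mul_mem' := fun {x y} hx hy => ⟨mul_mem hx.1 hy.1, fun k hk => by
        rw [← mul_assoc, hx.2.1 k hk, mul_assoc, hy.2.1 k hk, mul_assoc], by
        rw [(show Commute x y from hy.2.1 x hx.1).mul_pow, hx.2.2, hy.2.2, one_mul]⟩
      inv_mem' := fun {x} hx => ⟨inv_mem hx.1, fun k hk =>
        ((show Commute k x from hx.2.1 k hk).inv_right).eq, by rw [inv_pow, hx.2.2, inv_one]⟩ }
  have hMn : M.Normal := ⟨fun x hx g => ⟨hK'n.conj_mem x hx.1 g, fun k hk => by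
      have e := hx.2.1 (g⁻¹ * k * g) (by simpa using hK'n.conj_mem k hk g⁻¹)
      calc k * (g * x * g⁻¹) = g * (g⁻¹ * k * g * x) * g⁻¹ := by group
        _ = _ := by rw [e]; group, by rw [conj_pow, hx.2.2]; group⟩⟩
  have hMcomm : ∀ x y : M, x * y = y * x := fun x y => Subtype.ext (y.2.2.1 x x.2.1)
  have hMne : M ≠ ⊥ := by
    obtain ⟨z, hz⟩ := exists_prime_orderOf_dvd_card' (G := Subgroup.center K') q (Nat.minFac_dvd _)
    intro h
    have hzM : ((z : K') : H ⧸ Subgroup.center H) ∈ M := by
      refine ⟨(z : K').2, fun k hk => congrArg Subtype.val (Subgroup.mem_center_iff.1 z.2 ⟨k, hk⟩),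
        ?_⟩
      rw [← SubgroupClass.coe_pow, ← SubgroupClass.coe_pow, ← hz, pow_orderOf_eq_one]
      simp
    rw [h, Subgroup.mem_bot] at hzM
    have : z = 1 := Subtype.ext (Subtype.ext hzM)
    rw [this, orderOf_one] at hz
    exact hq.one_lt.ne hz
  let ψ : H →* MulAut M := MulAut.conjNormal.comp mk
  have hψ : ∀ h (x : M), ((ψ h x : M) : H ⧸ Subgroup.center H) = mk h * x * (mk h)⁻¹ :=
    fun h x => MulAut.conjNormal_apply _ _
  have hker : ψ.ker = π.ker := by
    refine le_antisymm ?_ fun k hk => ?_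
    · rcases Subgroup.Normal.eq_bot_or_eq_top
        ((MonoidHom.normal_ker ψ).map π R.surj) with h | h
      · exact (Subgroup.map_eq_bot_iff _).1 h
      · exfalso
        have htop := R.min _ h
        apply hMne
        rw [← le_bot_iff, ← Group.IsPerfect.center_quotient_center_eq_bot H]
        intro x hx
        rw [Subgroup.mem_center_iff]
        intro g
        obtain ⟨g, rfl⟩ := QuotientGroup.mk'_surjective (Subgroup.center H) g
        have e : ψ g = 1 := by
          have : g ∈ ψ.ker := htop ▸ Subgroup.mem_top g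
          exact this
        have e2 := hψ g ⟨x, hx⟩
        rw [e, MulAut.one_apply] at e2
        exact (eq_mul_inv_iff_mul_eq.1 e2).symm
    · refine MulEquiv.ext fun x => Subtype.ext ?_
      rw [hψ, x.2.2.1 (mk k) (Subgroup.mem_map_of_mem mk hk), mul_inv_cancel_right]
      rfl
  let inst : CommGroup M := { (inferInstance : Group M) with mul_comm := hMcomm }
  refine ⟨q, hq, M, inst, inferInstance, fun x => Subtype.ext x.2.2.2, ?_, ?_, ?_⟩
  · let M₀ : Subgroup H := M.comap mk
    let A : Subgroup H :=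
      { carrier := {x | x ∈ M₀ ∧ ∀ y ∈ M₀, y * x = x * y}
        one_mem' := ⟨one_mem _, fun y _ => by rw [mul_one, one_mul]⟩
        mul_mem' := fun {x y} hx hy => ⟨mul_mem hx.1 hy.1, fun z hz => by
          rw [← mul_assoc, hx.2 z hz, mul_assoc, hy.2 z hz, mul_assoc]⟩
        inv_mem' := fun {x} hx => ⟨inv_mem hx.1, fun y hy =>
          ((show Commute y x from hx.2 y hy).inv_right).eq⟩ }
    have hM₀n : M₀.Normal := hMn.comap mk
    have hAn : A.Normal := ⟨fun x hx g => ⟨hM₀n.conj_mem x hx.1 g, fun y hy => by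
      have e := hx.2 (g⁻¹ * y * g) (by simpa using hM₀n.conj_mem y hy g⁻¹)
      calc y * (g * x * g⁻¹) = g * (g⁻¹ * y * g * x) * g⁻¹ := by group
        _ = _ := by rw [e]; group⟩⟩
    have hAc : A ≤ Subgroup.center H := by
      by_contra hnc
      have := R.le_of_abelian hr (A := A) (fun x hx y hy => hy.2 x hx.1) hnc
      omega
    choose s hs using fun m : M => QuotientGroup.mk'_surjective (Subgroup.center H) (m : H ⧸ Subgroup.center H)
    have hsM : ∀ m, s m ∈ M₀ := fun m => by
      show mk (s m) ∈ M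
      rw [show mk (s m) = (m : H ⧸ Subgroup.center H) from hs m]; exact m.2
    have hcen : ∀ x ∈ M₀, ∀ y ∈ M₀, x * y * x⁻¹ * y⁻¹ ∈ Subgroup.center H := by
      intro x hx y hy
      rw [← QuotientGroup.eq_one_iff]
      show mk (x * y * x⁻¹ * y⁻¹) = 1
      have e := hMcomm ⟨mk x, hx⟩ ⟨mk y, hy⟩
      have e' : mk x * mk y = mk y * mk x := congrArg Subtype.val e
      rw [map_mul, map_mul, map_mul, map_inv, map_inv, e']
      group
    choose lam hlam0 hlam using fun (m : M) (y : M₀) =>
      R.scalar_of_central hr (hcen y y.2 (s m) (hsM m))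
    let f : M₀ → Module.End L (Module.End L V) := fun y =>
      (LinearMap.mulLeft L (ρ (y : H))).comp (LinearMap.mulRight L (ρ ((y : H)⁻¹)))
    have hf : ∀ a b, Commute (f a) (f b) := by
      intro a b
      obtain ⟨z, hz0, hz⟩ := R.scalar_of_central hr (hcen a a.2 b b.2)
      have e : ρ (a : H) * ρ (b : H) = z • (ρ (b : H) * ρ (a : H)) := by
        rw [← map_mul, ← map_mul,
          show (a : H) * b = (a * b * (a : H)⁻¹ * (b : H)⁻¹) * (b * a) by group, map_mul, hz,
          smul_mul_assoc, one_mul]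
      obtain ⟨z', hz'0, hz'⟩ := R.scalar_of_central hr (inv_mem (hcen a a.2 b b.2))
      have e2 : ρ ((b : H)⁻¹) * ρ ((a : H)⁻¹) = z' • (ρ ((a : H)⁻¹) * ρ ((b : H)⁻¹)) := by
        rw [← map_mul, ← map_mul, show (b : H)⁻¹ * (a : H)⁻¹ =
          ((a : H)⁻¹ * (b : H)⁻¹) * ((a * b * (a : H)⁻¹ * (b : H)⁻¹)⁻¹) by group, map_mul, hz',
          mul_smul_comm, mul_one]
      have hzz : z * z' = 1 := by
        have e3 : ρ ((a * b * (a : H)⁻¹ * (b : H)⁻¹) * (a * b * (a : H)⁻¹ * (b : H)⁻¹)⁻¹) =
            (z * z') • 1 := by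
          rw [map_mul, hz, hz', smul_mul_assoc, one_mul, smul_smul]
        rw [mul_inv_cancel, map_one] at e3
        have := R.nontrivial hr
        exact (smul_left_injective L one_ne_zero (show (1 : L) • (1 : Module.End L V) =
          (z * z') • 1 by rw [one_smul]; exact e3)).symm
      refine LinearMap.ext fun T => ?_
      simp only [f, Module.End.mul_apply, LinearMap.comp_apply, LinearMap.mulLeft_apply,
        LinearMap.mulRight_apply]
      calc ρ (a : H) * (ρ (b : H) * (T * ρ ((b : H)⁻¹)) * ρ ((a : H)⁻¹))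
          = (ρ (a : H) * ρ (b : H)) * T * (ρ ((b : H)⁻¹) * ρ ((a : H)⁻¹)) := by
            simp only [mul_assoc]
        _ = (z * z') • ((ρ (b : H) * ρ (a : H)) * T * (ρ ((a : H)⁻¹) * ρ ((b : H)⁻¹))) := by
            rw [e, e2, mul_smul_comm, smul_mul_assoc, smul_mul_assoc, smul_smul, mul_comm z']
        _ = _ := by rw [hzz, one_smul]; simp only [mul_assoc]
    have hv : ∀ m, ρ (s m) ≠ 0 := fun m h0 => by
      have := R.nontrivial hr
      have e : ρ (s m) * ρ (s m)⁻¹ = 1 := by rw [← map_mul, mul_inv_cancel, map_one]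
      rw [h0, zero_mul] at e
      exact zero_ne_one e
    have he : ∀ m y, f y (ρ (s m)) = lam m y • ρ (s m) := by
      intro m y
      simp only [f, LinearMap.comp_apply, LinearMap.mulLeft_apply, LinearMap.mulRight_apply]
      rw [← map_mul, ← map_mul,
        show (y : H) * (s m * (y : H)⁻¹) = (y * s m * (y : H)⁻¹ * (s m)⁻¹) * s m by group,
        map_mul, hlam, smul_mul_assoc, one_mul]
    have hinj : Function.Injective lam := by
      intro m m' h
      have hd : (s m)⁻¹ * s m' ∈ A := by
        refine ⟨mul_mem (inv_mem (hsM m)) (hsM m'), fun y hy => ?_⟩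
        have e : ρ (y * s m * y⁻¹ * (s m)⁻¹) = ρ (y * s m' * y⁻¹ * (s m')⁻¹) := by
          rw [hlam m ⟨y, hy⟩, hlam m' ⟨y, hy⟩, h]
        have e' : y * s m * y⁻¹ * (s m)⁻¹ = y * s m' * y⁻¹ * (s m')⁻¹ := by
          refine inv_mul_eq_one.1 (R.faithful _ ?_)
          rw [map_mul, ← e, ← map_mul, inv_mul_cancel, map_one]
        have hcy := Subgroup.mem_center_iff.1 (hcen y hy (s m) (hsM m))
        calc y * ((s m)⁻¹ * s m') = (s m)⁻¹ *
              (s m * y * (s m)⁻¹ * y⁻¹) * (y * s m' * y⁻¹ * (s m')⁻¹) * s m' * y := by group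
          _ = (s m)⁻¹ * s m' * y := by rw [← e']; group
      have e : mk ((s m)⁻¹ * s m') = 1 := (QuotientGroup.eq_one_iff _).2 (hAc hd)
      rw [map_mul, map_inv, inv_mul_eq_one] at e
      exact Subtype.ext ((hs m).symm.trans (e.trans (hs m')))
    have := Fintype.ofFinite M
    have h := card_le_finrank_of_joint f hf lam hinj (fun m => ρ (s m)) hv he
    rw [Module.finrank_linearMap] at h
    rwa [Nat.card_eq_fintype_card]
  · rw [← Nat.card_congr (QuotientGroup.quotientKerEquivOfSurjective π R.surj).toEquiv,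
      Subgroup.card_eq_card_quotient_mul_card_subgroup π.ker]
    refine lt_mul_of_one_lt_right Nat.card_pos ?_
    rw [Finite.one_lt_card_iff_nontrivial, Subgroup.nontrivial_iff_ne_bot]
    intro h
    exact hK (h ▸ bot_le)
  · refine ⟨(π.liftOfSurjective R.surj) ⟨ψ, hker.ge⟩, fun x y hxy => ?_⟩
    obtain ⟨a, rfl⟩ := R.surj x
    obtain ⟨b, rfl⟩ := R.surj y
    rw [MonoidHom.liftOfRightInverse_comp_apply, MonoidHom.liftOfRightInverse_comp_apply] at hxy
    have : a⁻¹ * b ∈ π.ker := by
      rw [← hker, MonoidHom.mem_ker, map_mul, map_inv, hxy, inv_mul_cancel]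
    rwa [MonoidHom.mem_ker, map_mul, map_inv, inv_mul_eq_one] at this

/-- The projective representation of the alternating group. -/
theorem exists_setup [IsAlgClosed L] (R : MinRep π ρ) (hr : 5 ≤ r)
    (hK : π.ker ≤ Subgroup.center H) : Nonempty (Setup L V r) := by
  refine ⟨{
    rel := fun σ T => ∃ h : H, ∃ μ : L, μ ≠ 0 ∧ ((π h : alternatingGroup (Fin r)) : Perm (Fin r)) = σ ∧ T = μ • ρ h
    one := ⟨1, 1, one_ne_zero, by simp, by simp⟩
    mul := ?_
    sign_eq := ?_
    exists_lift := ?_
    smul := ?_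
    unique := ?_
    faithful := ?_ }⟩
  · rintro σ τ S T ⟨h, μ, hμ, rfl, rfl⟩ ⟨g, ν, hν, rfl, rfl⟩
    exact ⟨h * g, μ * ν, mul_ne_zero hμ hν, by simp,
      by rw [map_mul, smul_mul_assoc, mul_smul_comm, smul_smul]⟩
  · rintro σ T ⟨h, μ, -, rfl, -⟩
    exact mem_alternatingGroup.1 (π h).2
  · intro σ hσ
    obtain ⟨h, hh⟩ := R.surj ⟨σ, mem_alternatingGroup.2 hσ⟩
    exact ⟨ρ h, h, 1, one_ne_zero, by rw [hh], by rw [one_smul]⟩
  · rintro σ T c ⟨h, μ, hμ, rfl, rfl⟩ hc
    exact ⟨h, c * μ, mul_ne_zero hc hμ, rfl, by rw [smul_smul]⟩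
  · rintro σ S T ⟨h, μ, hμ, rfl, rfl⟩ ⟨g, ν, hν, hg, rfl⟩
    have hk : g⁻¹ * h ∈ π.ker := by
      rw [MonoidHom.mem_ker, map_mul, map_inv, inv_mul_eq_one]
      exact Subtype.ext hg
    obtain ⟨z, hz0, hz⟩ := R.scalar_of_central hr (hK hk)
    refine ⟨μ * z * ν⁻¹, mul_ne_zero (mul_ne_zero hμ hz0) (inv_ne_zero hν), ?_⟩
    conv_lhs => rw [← mul_inv_cancel_left g h, map_mul, hz, mul_smul_comm, mul_one, smul_smul]
    rw [smul_smul, inv_mul_cancel_right₀ hν]
  · rintro σ c ⟨h, μ, hμ, rfl, he⟩
    have hsc : ρ h = (μ⁻¹ * c) • 1 := by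
      rw [← smul_smul, he, smul_smul, inv_mul_cancel₀ hμ, one_smul]
    have hc : h ∈ Subgroup.center H := by
      rw [Subgroup.mem_center_iff]
      intro g
      refine inv_mul_eq_one.1 (R.faithful ((g * h)⁻¹ * (h * g)) ?_)
      have e : ρ (g * h) = ρ (h * g) := by
        rw [map_mul, map_mul, hsc, mul_smul_comm, smul_mul_assoc, mul_one, one_mul]
      rw [map_mul, ← e, ← map_mul, inv_mul_cancel, map_one]
    have : π h = 1 := alt_center hr (by
      rw [Subgroup.mem_center_iff]
      intro y
      obtain ⟨g, rfl⟩ := R.surj y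
      rw [← map_mul, ← map_mul, Subgroup.mem_center_iff.1 hc g])
    rw [this]; rfl

end MinRep

end Cfsg.Agent.AltSection
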