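import Cfsg.Agent.Lib.Transfer.AltSection.Perm
import Mathlib.FieldTheory.IsAlgClosed.Basic
import Mathlib.LinearAlgebra.Eigenspace.Basic
import Mathlib.LinearAlgebra.FiniteDimensional.Basic

/-!
Projective representations of an alternating group, given by a relation between permutations and
their lifts; canonical lifts of cycles of odd prime length.
-/

namespace Cfsg.Agent.AltSection

open Equiv Equiv.Perm

variable {L : Type*} [Field L] {V : Type*} [AddCommGroup V] [Module L V] {r : ℕ}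

/-- A faithful projective representation of the alternating group of degree `r`. -/
structure Setup (L V : Type*) [Field L] [AddCommGroup V] [Module L V] (r : ℕ) where
  rel : Perm (Fin r) → Module.End L V → Prop
  one : rel 1 1
  mul : ∀ {σ τ S T}, rel σ S → rel τ T → rel (σ * τ) (S * T)
  sign_eq : ∀ {σ T}, rel σ T → sign σ = 1
  exists_lift : ∀ σ, sign σ = 1 → ∃ T, rel σ T
  smul : ∀ {σ T} {μ : L}, rel σ T → μ ≠ 0 → rel σ (μ • T)
  unique : ∀ {σ S T}, rel σ S → rel σ T → ∃ μ : L, μ ≠ 0 ∧ S = μ • T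
  faithful : ∀ {σ} {μ : L}, rel σ (μ • (1 : Module.End L V)) → σ = 1

namespace Setup

variable (D : Setup L V r)

theorem pow {σ T} (h : D.rel σ T) (m : ℕ) : D.rel (σ ^ m) (T ^ m) := by
  induction m with
  | zero => rw [pow_zero, pow_zero]; exact D.one
  | succ m ih => rw [pow_succ, pow_succ]; exact D.mul ih h

include D in
theorem nontrivial (hr : 3 ≤ r) : Nontrivial V := by
  by_contra hV
  rw [not_nontrivial_iff_subsingleton] at hV
  have : Subsingleton (Module.End L V) := ⟨fun f g => LinearMap.ext fun x => Subsingleton.elim _ _⟩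
  obtain ⟨τ, hτ, hτs⟩ : ∃ τ : Perm (Fin r), τ ≠ 1 ∧ sign τ = 1 := by
    have h01 : (⟨0, by omega⟩ : Fin r) ≠ ⟨1, by omega⟩ := by simp
    have h02 : (⟨0, by omega⟩ : Fin r) ≠ ⟨2, by omega⟩ := by simp
    refine ⟨swap (⟨0, by omega⟩ : Fin r) ⟨1, by omega⟩ * swap (⟨0, by omega⟩ : Fin r) ⟨2, by omega⟩,
      fun h => ?_, by rw [map_mul, sign_swap h01, sign_swap h02]; decide⟩
    have h2 := DFunLike.congr_fun h (⟨0, by omega⟩ : Fin r)
    simp [Perm.mul_apply, swap_apply_of_ne_of_ne] at h2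
  obtain ⟨T, hT⟩ := D.exists_lift τ hτs
  exact hτ (D.faithful (μ := 1) (by rw [Subsingleton.elim ((1 : L) • (1 : Module.End L V)) T]; exact hT))

theorem scalar_of_one {T} (h : D.rel 1 T) : ∃ μ : L, μ ≠ 0 ∧ T = μ • 1 :=
  D.unique h D.one

/-- Every lift is invertible, with inverse a lift of the inverse. -/
theorem exists_inv (hr : 3 ≤ r) {σ T} (h : D.rel σ T) :
    ∃ S, D.rel σ⁻¹ S ∧ S * T = 1 ∧ T * S = 1 := by
  have := D.nontrivial hr
  obtain ⟨S', hS'⟩ := D.exists_lift σ⁻¹ (by rw [map_inv, D.sign_eq h, inv_one])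
  have h1 := D.mul hS' h
  rw [inv_mul_cancel] at h1
  obtain ⟨μ, hμ, hμe⟩ := D.scalar_of_one h1
  refine ⟨μ⁻¹ • S', D.smul hS' (inv_ne_zero hμ), ?_, ?_⟩
  · rw [smul_mul_assoc, hμe, smul_smul, inv_mul_cancel₀ hμ, one_smul]
  · have h2 := D.mul h hS'
    rw [mul_inv_cancel] at h2
    obtain ⟨ν, hν, hνe⟩ := D.scalar_of_one h2
    have h3 : T * (S' * T) = (T * S') * T := (mul_assoc _ _ _).symm
    rw [hμe, hνe, mul_smul_comm, mul_one, smul_mul_assoc, one_mul] at h3
    have hT : T ≠ 0 := by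
      intro h0
      rw [h0, mul_zero] at hμe
      exact one_ne_zero ((smul_eq_zero.1 hμe.symm).resolve_left hμ)
    have : μ = ν := smul_left_injective L hT h3
    rw [mul_smul_comm, hνe, smul_smul, this, inv_mul_cancel₀ hν, one_smul]

theorem ne_zero (hr : 3 ≤ r) {σ T} (h : D.rel σ T) : T ≠ 0 := by
  have := D.nontrivial hr
  obtain ⟨S, -, hST, -⟩ := D.exists_inv hr h
  intro h0
  rw [h0, mul_zero] at hST
  exact zero_ne_one hST

theorem injective (hr : 3 ≤ r) {σ T} (h : D.rel σ T) : Function.Injective T := by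
  obtain ⟨S, -, hST, -⟩ := D.exists_inv hr h
  intro x y hxy
  have := congrArg S hxy
  simpa [← Module.End.mul_apply, hST] using this

theorem surjective (hr : 3 ≤ r) {σ T} (h : D.rel σ T) : Function.Surjective T := by
  obtain ⟨S, -, -, hTS⟩ := D.exists_inv hr h
  exact fun x => ⟨S x, by simp [← Module.End.mul_apply, hTS]⟩

theorem right_cancel (hr : 3 ≤ r) {σ U} (h : D.rel σ U) {A B : Module.End L V}
    (hAB : A * U = B * U) : A = B := by
  obtain ⟨S, -, -, hUS⟩ := D.exists_inv hr h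
  calc A = A * (U * S) := by rw [hUS, mul_one]
    _ = B * (U * S) := by rw [← mul_assoc, hAB, mul_assoc]
    _ = B := by rw [hUS, mul_one]

theorem smul_cancel (hr : 3 ≤ r) {σ U} (h : D.rel σ U) {a b : L} (hab : a • U = b • U) : a = b :=
  smul_left_injective L (D.ne_zero hr h) hab

theorem comm_scalar {σ τ S T} (hS : D.rel σ S) (hT : D.rel τ T) (hc : σ * τ = τ * σ) :
    ∃ c : L, c ≠ 0 ∧ S * T = c • (T * S) := by
  have h2 := D.mul hT hS
  rw [← hc] at h2
  exact D.unique (D.mul hS hT) h2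

/-- Lifts of commuting permutations: the scalar is killed by an exponent of one of them. -/
theorem comm_pow_eq_one (hr : 3 ≤ r) {σ τ S T} (hS : D.rel σ S) (hT : D.rel τ T) {c : L}
    (hc : S * T = c • (T * S)) {m : ℕ} {a : L} (hm : T ^ m = a • 1) (ha : a ≠ 0) : c ^ m = 1 := by
  have key : ∀ i : ℕ, S * T ^ i = c ^ i • (T ^ i * S) := by
    intro i
    induction i with
    | zero => simp
    | succ i ih =>
        rw [pow_succ, ← mul_assoc, ih, smul_mul_assoc, mul_assoc, hc, mul_smul_comm, smul_smul,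
          ← mul_assoc, ← pow_succ]
  have h := key m
  rw [hm, mul_smul_comm, mul_one, smul_mul_assoc, one_mul, smul_smul] at h
  have h2 := D.smul_cancel hr hS h
  exact mul_right_cancel₀ ha (by rw [one_mul]; exact h2.symm)

theorem exists_pow_eq_one [IsAlgClosed L] {σ : Perm (Fin r)} {m : ℕ} (hm : 0 < m) (hσ : σ ^ m = 1)
    (hs : sign σ = 1) : ∃ T, D.rel σ T ∧ T ^ m = 1 := by
  obtain ⟨T, hT⟩ := D.exists_lift σ hs
  have h1 := D.pow hT m
  rw [hσ] at h1
  obtain ⟨μ, hμ, hμe⟩ := D.scalar_of_one h1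
  obtain ⟨ν, hν⟩ := IsAlgClosed.exists_pow_nat_eq μ⁻¹ hm
  have hν0 : ν ≠ 0 := by
    intro h0
    rw [h0, zero_pow hm.ne'] at hν
    exact inv_ne_zero hμ hν.symm
  exact ⟨ν • T, D.smul hT hν0, by rw [smul_pow, hν, hμe, smul_smul, inv_mul_cancel₀ hμ, one_smul]⟩

end Setup

/-- The canonical lift of a permutation `σ` of odd order `ℓ`: it has order `ℓ` and is carried to
its inverse by some lift. -/
def Canon (D : Setup L V r) (ℓ : ℕ) (σ : Perm (Fin r)) (T : Module.End L V) : Prop :=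
  D.rel σ T ∧ T ^ ℓ = 1 ∧ ∃ s S, D.rel s S ∧ σ * s * σ = s ∧ T * S * T = S

/-- A cycle of length `ℓ` admitting inverters. -/
structure Good (r ℓ : ℕ) (σ : Perm (Fin r)) : Prop where
  cyc : σ.IsCycle
  card : σ.support.card = ℓ
  inverter : ∃ s : Perm (Fin r), sign s = 1 ∧ σ * s * σ = s

theorem Good.pow_eq_one {ℓ : ℕ} {σ : Perm (Fin r)} (h : Good r ℓ σ) : σ ^ ℓ = 1 := by
  rw [← h.card, ← h.cyc.orderOf, pow_orderOf_eq_one]

theorem Good.sign_eq {ℓ : ℕ} {σ : Perm (Fin r)} (hℓ : Odd ℓ) (h : Good r ℓ σ) : sign σ = 1 := by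
  rw [h.cyc.sign, h.card, hℓ.neg_one_pow, neg_neg]

theorem root_trick {ℓ : ℕ} (hℓ : Odd ℓ) {μ : L} (h1 : μ ^ ℓ = 1) (h2 : μ ^ 2 = 1) : μ = 1 := by
  obtain ⟨j, rfl⟩ := hℓ
  rw [pow_succ, pow_mul, h2, one_pow, one_mul] at h1
  exact h1

theorem three_points {σ : Perm (Fin r)} (hσ : Good r 3 σ) :
    ∃ a b c : Fin r, σ a = b ∧ σ b = c ∧ σ c = a ∧ (a ≠ b ∧ b ≠ c ∧ a ≠ c) ∧
      σ.support = {a, b, c} := by
  obtain ⟨a, ha⟩ : σ.support.Nonempty := Finset.card_pos.1 (by rw [hσ.card]; norm_num)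
  have h1 : σ a ∈ σ.support := Perm.apply_mem_support.2 ha
  have h2 : σ (σ a) ∈ σ.support := Perm.apply_mem_support.2 h1
  have h3 : σ (σ (σ a)) = a := by
    have := DFunLike.congr_fun hσ.pow_eq_one a
    simpa [pow_succ, Perm.mul_apply] using this
  have e1 : a ≠ σ a := (Perm.mem_support.1 ha).symm
  have e2 : σ a ≠ σ (σ a) := (Perm.mem_support.1 h1).symm
  have e3 : a ≠ σ (σ a) := fun h => e1 (by rw [← h] at h3; exact h3.symm)
  refine ⟨a, σ a, σ (σ a), rfl, rfl, h3, ⟨e1, e2, e3⟩, ?_⟩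
  symm
  refine Finset.eq_of_subset_of_card_le ?_ ?_
  · intro x hx
    simp only [Finset.mem_insert, Finset.mem_singleton] at hx
    rcases hx with rfl | rfl | rfl <;> assumption
  · rw [hσ.card, Finset.card_eq_three.2 ⟨a, σ a, σ (σ a), e1, e3, e2, rfl⟩]

/-- Lifts of a disjoint three-cycle commute with every lift of a cycle of length `ℓ`. -/
theorem commute_disjoint [IsAlgClosed L] (D : Setup L V r) (hr : 8 ≤ r) {ℓ : ℕ}
    (hℓ : ℓ.Prime) (hℓ2 : ℓ ≠ 2) {σ τ : Perm (Fin r)} (hσ : Good r ℓ σ) (hτ : τ.IsThreeCycle)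
    (hd : τ.support ⊆ σ.supportᶜ) {T R : Module.End L V} (hT : D.rel σ T) (hR : D.rel τ R) :
    R * T = T * R := by
  have hr3 : 3 ≤ r := by omega
  have hdis : Perm.Disjoint τ σ := by
    rw [Perm.disjoint_iff_disjoint_support, Finset.disjoint_left]
    exact fun x hx => Finset.mem_compl.1 (hd hx)
  obtain ⟨z, hz0, hz⟩ := D.comm_scalar hR hT hdis.commute.eq
  obtain ⟨μT, hμT0, hTl⟩ := D.scalar_of_one (T := T ^ ℓ) (hσ.pow_eq_one ▸ D.pow hT ℓ)
  obtain ⟨μR, hμR0, hRl⟩ := D.scalar_of_one (T := R ^ 3)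
    ((hτ.orderOf ▸ pow_orderOf_eq_one τ : τ ^ 3 = 1) ▸ D.pow hR 3)
  have hzl : z ^ ℓ = 1 := D.comm_pow_eq_one hr3 hR hT hz hTl hμT0
  have hz3 : z ^ 3 = 1 := by
    have hz' : T * R = z⁻¹ • (R * T) := by rw [hz, smul_smul, inv_mul_cancel₀ hz0, one_smul]
    have := D.comm_pow_eq_one hr3 hT hR hz' hRl hμR0
    rwa [inv_pow, inv_eq_one] at this
  suffices z = 1 by rw [hz, this, one_smul]
  by_cases hℓ3 : ℓ = 3
  · subst hℓ3
    obtain ⟨a, b, c, hab, hbc, hca, hne, hsupp⟩ := three_points hσ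
    obtain ⟨hab', hbc', hac'⟩ := hne
    -- two spare points
    have hsp : 1 < ((σ.support ∪ τ.support)ᶜ).card := by
      have h1 := Finset.card_union_le σ.support τ.support
      rw [Finset.card_compl, Fintype.card_fin]
      rw [hσ.card, hτ.card_support] at h1
      omega
    obtain ⟨u, hu, v, hv, huv⟩ := Finset.one_lt_card.1 hsp
    simp only [Finset.mem_compl, Finset.mem_union, not_or] at hu hv
    set s : Perm (Fin r) := swap a b * swap u v with hs
    have hss : sign s = 1 := by rw [hs, map_mul, sign_swap hab', sign_swap huv]; decide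
    have hfix : ∀ x, x ∉ σ.support → σ x = x := fun x hx => Perm.notMem_support.1 hx
    have hau : a ∈ σ.support := by rw [hsupp]; simp
    have hbu : b ∈ σ.support := by rw [hsupp]; simp
    have hcu : c ∈ σ.support := by rw [hsupp]; simp
    have hne_uv : ∀ x ∈ σ.support, x ≠ u ∧ x ≠ v := fun x hx =>
      ⟨fun h => hu.1 (by rw [← h]; exact hx), fun h => hv.1 (by rw [← h]; exact hx)⟩
    have hinv : σ * s * σ = s := by
      ext x
      simp only [hs, Perm.mul_apply]
      by_cases hx : x ∈ σ.support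
      · rw [hsupp] at hx
        simp only [Finset.mem_insert, Finset.mem_singleton] at hx
        obtain ⟨hau', hav'⟩ := hne_uv a hau
        obtain ⟨hbu', hbv'⟩ := hne_uv b hbu
        obtain ⟨hcu', hcv'⟩ := hne_uv c hcu
        rcases hx with rfl | rfl | rfl
        · rw [hab, swap_apply_of_ne_of_ne hbu' hbv', swap_apply_right, hab,
            swap_apply_of_ne_of_ne hau' hav', swap_apply_left]
        · rw [hbc, swap_apply_of_ne_of_ne hcu' hcv', swap_apply_of_ne_of_ne hac'.symm hbc'.symm, hca,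
            swap_apply_of_ne_of_ne hbu' hbv', swap_apply_right]
        · rw [hca, swap_apply_of_ne_of_ne hau' hav', swap_apply_left, hbc,
            swap_apply_of_ne_of_ne hcu' hcv', swap_apply_of_ne_of_ne hac'.symm hbc'.symm]
      · rw [hfix x hx]
        refine congrArg Fin.val (hfix _ ?_)
        rw [Perm.notMem_support] at hx
        intro hmem
        rcases eq_or_ne x u with rfl | hxu
        · rw [swap_apply_left, swap_apply_of_ne_of_ne (hne_uv a hau).2.symm
            (hne_uv b hbu).2.symm] at hmem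
          exact hv.1 hmem
        · rcases eq_or_ne x v with rfl | hxv
          · rw [swap_apply_right, swap_apply_of_ne_of_ne (hne_uv a hau).1.symm
              (hne_uv b hbu).1.symm] at hmem
            exact hu.1 hmem
          · rw [swap_apply_of_ne_of_ne hxu hxv, swap_apply_of_ne_of_ne] at hmem
            · exact (Perm.mem_support.1 hmem) hx
            · rintro rfl; exact (Perm.mem_support.1 hau) hx
            · rintro rfl; exact (Perm.mem_support.1 hbu) hx
    have hsτ : s * τ = τ * s := by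
      refine (Perm.Disjoint.commute ?_).eq
      intro x
      by_cases hx : x ∈ τ.support
      · left
        have hxσ : x ∉ σ.support := Finset.mem_compl.1 (hd hx)
        have hxu : x ≠ u := fun h => hu.2 (h ▸ hx)
        have hxv : x ≠ v := fun h => hv.2 (h ▸ hx)
        rw [hs, Perm.mul_apply, swap_apply_of_ne_of_ne hxu hxv,
          swap_apply_of_ne_of_ne (fun h => hxσ (by rw [h]; exact hau)) (fun h => hxσ (by rw [h]; exact hbu))]
      · exact Or.inr (Perm.notMem_support.1 hx)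
    obtain ⟨S, hS⟩ := D.exists_lift s hss
    obtain ⟨w, hw0, hw⟩ := D.comm_scalar hS hR hsτ
    have hσ2 : σ ^ 2 * s = s * σ := by
      have h1 : σ ^ 2 * (σ * s * σ) = σ ^ 3 * (s * σ) := by group
      rw [hinv, hσ.pow_eq_one, one_mul] at h1
      exact h1
    obtain ⟨q, hq0, hq⟩ := D.unique (D.mul hS hT) (hσ2 ▸ D.mul (D.pow hT 2) hS)
    have hRT2 : R * T ^ 2 = (z * z) • (T ^ 2 * R) := by
      rw [pow_two, ← mul_assoc, hz, smul_mul_assoc, mul_assoc, hz, mul_smul_comm, smul_smul,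
        mul_assoc]
    have e1 : S * (R * T) = (w * q) • (R * T ^ 2 * S) := by
      rw [← mul_assoc, hw, smul_mul_assoc, mul_assoc, hq, mul_smul_comm, smul_smul, mul_assoc]
    have e2 : S * (R * T) = (z * q * w) • (T ^ 2 * R * S) := by
      rw [hz, mul_smul_comm, ← mul_assoc, hq, smul_mul_assoc, mul_assoc, hw, mul_smul_comm,
        smul_smul, smul_smul]
      simp only [mul_assoc]
    have e3 : (w * q * (z * z)) • (T ^ 2 * R * S) = (z * q * w) • (T ^ 2 * R * S) := by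
      rw [← e2, e1, hRT2, smul_mul_assoc, smul_smul]
    have e4 := D.smul_cancel hr3 (D.mul (D.mul (D.pow hT 2) hR) hS) e3
    have e5 : (w * q * z) * z = (w * q * z) * 1 := by
      rw [mul_one, mul_assoc, e4]; ring
    exact mul_left_cancel₀ (mul_ne_zero (mul_ne_zero hw0 hq0) hz0) e5
  · have hc3 : Nat.Coprime ℓ 3 := (Nat.coprime_primes hℓ Nat.prime_three).2 hℓ3
    have h1 : orderOf z ∣ 1 := by
      rw [← hc3]
      exact Nat.dvd_gcd (orderOf_dvd_of_pow_eq_one hzl) (orderOf_dvd_of_pow_eq_one hz3)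
    exact orderOf_eq_one_iff.1 (Nat.dvd_one.1 h1)

/-- Canonical lifts commute with lifts of the centraliser. -/
theorem commute_centralizer [IsAlgClosed L] (D : Setup L V r) (hr : 8 ≤ r) {ℓ : ℕ}
    (hℓ : ℓ.Prime) (hℓ2 : ℓ ≠ 2) {σ c : Perm (Fin r)} (hσ : Good r ℓ σ) (hc : c * σ = σ * c)
    (hcs : sign c = 1) {T C : Module.End L V} (hT : D.rel σ T) (hC : D.rel c C) :
    C * T = T * C := by
  obtain ⟨i, hi⟩ := commute_cycle_decomp hσ.cyc hc
  have hsσ := D.sign_eq hT
  have hsign : sign ((σ ^ i)⁻¹ * c) = 1 := by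
    rw [map_mul, map_inv, map_pow, hsσ, one_pow, inv_one, one_mul, hcs]
  obtain ⟨U, hU, hUT⟩ : ∃ U, D.rel ((σ ^ i)⁻¹ * c) U ∧ U * T = T * U := by
    refine induction_threeCycle_fixing σ.support
      (P := fun g => ∃ U, D.rel g U ∧ U * T = T * U) ⟨1, D.one, by rw [one_mul, mul_one]⟩
      ?_ ?_ _ hsign hi
    · rintro g h - - ⟨A, hA, hAT⟩ ⟨B, hB, hBT⟩
      exact ⟨A * B, D.mul hA hB, by rw [mul_assoc, hBT, ← mul_assoc, hAT, mul_assoc]⟩
    · intro τ hτ hd
      obtain ⟨R, hR⟩ := D.exists_lift τ hτ.sign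
      exact ⟨R, hR, commute_disjoint D hr hℓ hℓ2 hσ hτ hd hT hR⟩
  have h2 := D.mul (D.pow hT i) hU
  rw [mul_inv_cancel_left] at h2
  obtain ⟨μ, -, hμ⟩ := D.unique hC h2
  rw [hμ, smul_mul_assoc, mul_smul_comm, mul_assoc, hUT, ← mul_assoc, ← mul_assoc]
  congr 2
  exact ((Commute.refl T).pow_left i).eq

theorem exists_canon [IsAlgClosed L] (D : Setup L V r) (hr : 3 ≤ r) {ℓ : ℕ} (hℓ : Odd ℓ)
    {σ : Perm (Fin r)} (hσ : Good r ℓ σ) : ∃ T, Canon D ℓ σ T := by
  obtain ⟨T, hT, hTl⟩ := D.exists_pow_eq_one hℓ.pos hσ.pow_eq_one (hσ.sign_eq hℓ)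
  obtain ⟨s, hs, hss⟩ := hσ.inverter
  obtain ⟨S, hS⟩ := D.exists_lift s hs
  have h1 := D.mul (D.mul hT hS) hT
  rw [hss] at h1
  obtain ⟨c, hc0, hc⟩ := D.unique h1 hS
  have key : ∀ i : ℕ, T ^ i * S * T ^ i = c ^ i • S := by
    intro i
    induction i with
    | zero => simp
    | succ i ih =>
        calc T ^ (i + 1) * S * T ^ (i + 1) = T ^ i * (T * S * T) * T ^ i := by
              conv_lhs => arg 2; rw [pow_succ']
              rw [pow_succ]; simp only [mul_assoc]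
          _ = c ^ (i + 1) • S := by
              rw [hc, mul_smul_comm, smul_mul_assoc, ih, smul_smul, pow_succ']
  have hcl : c ^ ℓ = 1 := by
    have := key ℓ
    rw [hTl, one_mul, mul_one] at this
    exact D.smul_cancel hr hS (by rw [← this, one_smul])
  obtain ⟨j, hj⟩ := hℓ
  have hμ0 : c ^ j ≠ 0 := pow_ne_zero _ hc0
  refine ⟨c ^ j • T, D.smul hT hμ0, ?_, s, S, hS, hss, ?_⟩
  · rw [smul_pow, hTl, ← pow_mul, mul_comm, pow_mul, hcl, one_pow, one_smul]
  · rw [smul_mul_assoc, mul_smul_comm, smul_mul_assoc, smul_smul, hc, smul_smul, ← pow_add,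
      ← pow_succ, show j + j + 1 = ℓ by omega, hcl, one_smul]

theorem canon_unique [IsAlgClosed L] (D : Setup L V r) (hr : 8 ≤ r) {ℓ : ℕ}
    (hℓ : ℓ.Prime) (hℓ2 : ℓ ≠ 2) {σ : Perm (Fin r)} (hσ : Good r ℓ σ)
    {T T' : Module.End L V} (h : Canon D ℓ σ T) (h' : Canon D ℓ σ T') : T = T' := by
  have hr3 : 3 ≤ r := by omega
  obtain ⟨hT, hTl, s, S, hS, hs, hTS⟩ := h
  obtain ⟨hT', hTl', s', S', hS', hs', hTS'⟩ := h'
  obtain ⟨μ, hμ0, rfl⟩ := D.unique hT' hT
  have hcomm : (s⁻¹ * s') * σ = σ * (s⁻¹ * s') := by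
    have e : σ * s * σ * ((s⁻¹ * s') * σ) = σ * s' * σ * σ := by
      rw [hs]; rw [hs']; group
    rw [mul_assoc (σ * s) σ] at e
    have e2 : σ * s * (σ * ((s⁻¹ * s') * σ)) = σ * s * (s⁻¹ * s' * σ * σ) := by
      rw [e]; group
    have e3 := mul_left_cancel e2
    have e4 : σ * (s⁻¹ * s') * σ = s⁻¹ * s' * σ * σ := by rw [← e3]; group
    exact (mul_right_cancel e4).symm
  obtain ⟨C, hC⟩ := D.exists_lift (s⁻¹ * s') (by
    rw [map_mul, map_inv, D.sign_eq hS, D.sign_eq hS', inv_one, one_mul])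
  have hCT := commute_centralizer D hr hℓ hℓ2 hσ hcomm (D.sign_eq hC) hT hC
  have h2 := D.mul hS hC
  rw [mul_inv_cancel_left] at h2
  obtain ⟨ν, hν0, rfl⟩ := D.unique hS' h2
  have h3 : T * (S * C) * T = S * C := by
    rw [mul_assoc, mul_assoc S C T, hCT, ← mul_assoc, ← mul_assoc, hTS]
  simp only [smul_mul_assoc, mul_smul_comm, smul_smul, h3] at hTS'
  have hμ2 : μ * ν * μ = ν ∨ ν * (μ * μ) = ν ∨ μ * (ν * μ) = ν ∨ μ * μ * ν = ν ∨ μ * (μ * ν) = ν := by
    first
    | exact Or.inl (D.smul_cancel hr3 h2 hTS')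
    | exact Or.inr (Or.inl (D.smul_cancel hr3 h2 hTS'))
    | exact Or.inr (Or.inr (Or.inl (D.smul_cancel hr3 h2 hTS')))
    | exact Or.inr (Or.inr (Or.inr (Or.inl (D.smul_cancel hr3 h2 hTS'))))
    | exact Or.inr (Or.inr (Or.inr (Or.inr (D.smul_cancel hr3 h2 hTS'))))
  have hsq : μ ^ 2 = 1 := by
    have : ν * μ ^ 2 = ν * 1 := by
      rw [mul_one]
      rcases hμ2 with e | e | e | e | e <;> linear_combination e
    exact mul_left_cancel₀ hν0 this
  have hl : μ ^ ℓ = 1 := by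
    rw [smul_pow, hTl] at hTl'
    exact D.smul_cancel hr3 D.one (by rw [hTl', one_smul])
  rw [root_trick (hℓ.odd_of_ne_two hℓ2) hl hsq, one_smul]

theorem Good.conj {ℓ : ℕ} {σ g : Perm (Fin r)} (h : Good r ℓ σ) : Good r ℓ (g * σ * g⁻¹) := by
  obtain ⟨s, hs, hss⟩ := h.inverter
  refine ⟨h.cyc.conj, by rw [Perm.card_support_conj, h.card],
    ⟨g * s * g⁻¹, by rw [map_mul, map_mul, map_inv, hs, mul_one, mul_inv_cancel], ?_⟩⟩
  calc g * σ * g⁻¹ * (g * s * g⁻¹) * (g * σ * g⁻¹) = g * (σ * s * σ) * g⁻¹ := by group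
    _ = _ := by rw [hss]

/-- Canonical lifts are transported by conjugation. -/
theorem Canon.conj [IsAlgClosed L] {D : Setup L V r} (hr : 8 ≤ r) {ℓ : ℕ} (hℓ : ℓ.Prime)
    (hℓ2 : ℓ ≠ 2) {σ g : Perm (Fin r)} (hσ : Good r ℓ σ) {T T' G : Module.End L V}
    (h : Canon D ℓ σ T) (hG : D.rel g G) (h' : Canon D ℓ (g * σ * g⁻¹) T') :
    G * T = T' * G := by
  obtain ⟨G', hG', hG'G, hGG'⟩ := D.exists_inv (by omega) hG
  obtain ⟨hT, hTl, s, S, hS, hs, hTS⟩ := h
  have hcan : Canon D ℓ (g * σ * g⁻¹) (G * T * G') := by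
    refine ⟨D.mul (D.mul hG hT) hG', ?_, g * s * g⁻¹, G * S * G', D.mul (D.mul hG hS) hG', ?_, ?_⟩
    · have key : ∀ i : ℕ, (G * T * G') ^ i = G * T ^ i * G' := by
        intro i
        induction i with
        | zero => rw [pow_zero, pow_zero, mul_one, hGG']
        | succ i ih =>
            rw [pow_succ, ih, pow_succ]
            simp only [mul_assoc]
            congr 2
            rw [← mul_assoc G', hG'G, one_mul]
      rw [key, hTl, mul_one, hGG']
    · calc g * σ * g⁻¹ * (g * s * g⁻¹) * (g * σ * g⁻¹) = g * (σ * s * σ) * g⁻¹ := by group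
        _ = _ := by rw [hs]
    · calc G * T * G' * (G * S * G') * (G * T * G')
            = G * (T * ((G' * G) * (S * ((G' * G) * T)))) * G' := by simp only [mul_assoc]
        _ = G * (T * S * T) * G' := by simp only [hG'G, one_mul, mul_assoc]
        _ = _ := by rw [hTS]
  rw [canon_unique D hr hℓ hℓ2 hσ.conj h' hcan]
  simp only [mul_assoc, hG'G, mul_one]

end Cfsg.Agent.AltSection
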