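import Cfsg.Agent.Lib.Transfer.AltSection.Cycles
import Cfsg.Agent.Lib.Transfer.AltSection.Planes

/-!
The bound in characteristic different from three.
-/

namespace Cfsg.Agent.AltSection

open Equiv Equiv.Perm Module

variable {L : Type*} [Field L] {V : Type*} [AddCommGroup V] [Module L V] {r : ℕ}

theorem le_choose {k j : ℕ} (h1 : 1 ≤ j) (h2 : j < k) : k ≤ k.choose j := by
  induction k generalizing j with
  | zero => omega
  | succ k ih =>
    rcases eq_or_lt_of_le (Nat.lt_succ_iff.1 h2) with h | h
    · rw [h, Nat.choose_succ_self_right]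
    · rcases Nat.lt_or_ge j 2 with hj | hj
      · obtain rfl : j = 1 := by omega
        simp
      · obtain ⟨i, rfl⟩ : ∃ i, j = i + 1 := ⟨j - 1, by omega⟩
        rw [Nat.choose_succ_succ]
        have := ih (j := i + 1) (by omega) (by omega)
        have : 0 < k.choose i := Nat.choose_pos (by omega)
        simp only [Nat.succ_eq_add_one] at *
        omega

theorem line_scalar {E : Submodule L V} (hE : finrank L E = 1) {T R : Module.End L V} {μ : L}
    (hEe : E = Module.End.eigenspace T μ) (hc : R * T = T * R) :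
    ∃ ν : L, ∀ v ∈ E, R v = ν • v := by
  subst hEe
  have : Nontrivial (Module.End.eigenspace T μ) := nontrivial_of_finrank_eq_succ hE
  obtain ⟨x, hx⟩ := exists_ne (0 : Module.End.eigenspace T μ)
  have hRx : R (x : V) ∈ Module.End.eigenspace T μ :=
    eigenspace_map_le hc μ ⟨(x : V), x.2, rfl⟩
  obtain ⟨ν, hν⟩ := exists_smul_eq_of_finrank_eq_one hE hx ⟨_, hRx⟩
  refine ⟨ν, fun v hv => ?_⟩
  obtain ⟨c, hc'⟩ := exists_smul_eq_of_finrank_eq_one hE hx ⟨v, hv⟩
  have e1 : c • (x : V) = v := congrArg Subtype.val hc'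
  have e2 : ν • (x : V) = R (x : V) := congrArg Subtype.val hν
  rw [← e1, map_smul, ← e2, smul_comm]

theorem rot_eq_tri {k : ℕ} (b : Fin k × ZMod 3 ↪ Fin r) (i : Fin k) :
    rot b i 1 = tri (b (i, 0)) (b (i, 1)) (b (i, 2)) := by
  have hd : Dist (b (i, 0)) (b (i, 1)) (b (i, 2)) :=
    ⟨b.injective.ne (by simp), b.injective.ne (by simp; decide), b.injective.ne (by simp; decide)⟩
  have hne : ∀ {y : Fin r}, y ∉ Set.range b → ∀ p, y ≠ b p := fun hy p h => hy ⟨p, h.symm⟩
  refine perm_ext_block b (fun p => ?_) (fun y hy => by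
    rw [rot_apply_of_notMem b i 1 hy, tri_other (hne hy _) (hne hy _) (hne hy _)])
  obtain ⟨j, x⟩ := p
  rw [rot_apply]
  rcases eq_or_ne j i with rfl | h
  · rw [if_pos rfl]
    have hx : x = 0 ∨ x = 1 ∨ x = 2 := by revert x; decide
    rcases hx with rfl | rfl | rfl
    · rw [tri_fst hd, add_zero]
    · rw [tri_snd hd]; rfl
    · rw [tri_thd]; rfl
  · rw [if_neg h, tri_other] <;> exact fun he => h (Prod.ext_iff.1 (b.injective he)).1

theorem tri_rotate {a b c : Fin r} (h : Dist a b c) : tri b c a = tri a b c := by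
  have h' : Dist b c a := ⟨h.2.1, h.2.2.symm, h.1.symm⟩
  ext x
  rcases eq_or_ne x a with rfl | ha
  · rw [tri_thd, tri_fst h]
  rcases eq_or_ne x b with rfl | hb
  · rw [tri_fst h', tri_snd h]
  rcases eq_or_ne x c with rfl | hc
  · rw [tri_snd h', tri_thd]
  rw [tri_other hb hc ha, tri_other ha hb hc]

theorem tri_flip {a b c : Fin r} (h : Dist a b c) : tri b a c = tri a b c ^ 2 := by
  have h' : Dist b a c := ⟨h.1.symm, h.2.2, h.2.1⟩
  ext x
  rw [pow_two, Perm.mul_apply]
  rcases eq_or_ne x a with rfl | ha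
  · rw [tri_snd h', tri_fst h, tri_snd h]
  rcases eq_or_ne x b with rfl | hb
  · rw [tri_fst h', tri_snd h, tri_thd]
  rcases eq_or_ne x c with rfl | hc
  · rw [tri_thd, tri_thd, tri_fst h]
  rw [tri_other hb ha hc, tri_other ha hb hc, tri_other ha hb hc]

theorem good_tri (hr : 5 ≤ r) {a b c : Fin r} (h : Dist a b c) : Good r 3 (tri a b c) :=
  good_of_cycle (isThreeCycle_tri h).isCycle (isThreeCycle_tri h).card_support (by omega)

theorem odd_scaling_three : ∃ c : (ZMod 3)ˣ, sign (Units.mulLeft c : Perm (ZMod 3)) = -1 := by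
  decide

theorem odd_scaling_five : ∃ c : (ZMod 5)ˣ, sign (Units.mulLeft c : Perm (ZMod 5)) = -1 := by
  decide

theorem odd_scaling_seven : ∃ c : (ZMod 7)ˣ, sign (Units.mulLeft c : Perm (ZMod 7)) = -1 := by
  decide

theorem full_count (m : ℕ) (hm : m = 3) (i : Fin m) : 4 ≤ (Finset.univ.filter
    fun x : Fin m → ZMod 3 => x i = 1 ∧ ∀ j, x j ≠ 0).card := by
  subst hm
  revert i
  decide

theorem zmod_three_ne : (0 : ZMod 3) ≠ 1 ∧ (1 : ZMod 3) ≠ 2 ∧ (0 : ZMod 3) ≠ 2 := by decide

variable [IsAlgClosed L] [FiniteDimensional L V]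

/-- In degree at most `r - 2`, nontrivial eigenvalues of canonical lifts of five-cycles are
simple. -/
theorem five_lines (D : Setup L V r) (hr : 9 ≤ r) (h5 : (5 : L) ≠ 0) (hn : finrank L V + 2 ≤ r)
    {σ : Perm (Fin r)} (hσ : Good r 5 σ) {T : Module.End L V} (hT : Canon D 5 σ T) {μ : L}
    (hμ : μ ^ 5 = 1) (hμ1 : μ ≠ 1) : finrank L (Module.End.eigenspace T μ) = 1 := by
  have : Fact (Nat.Prime 5) := ⟨by norm_num⟩
  set k := r / 5 with hk
  obtain ⟨b⟩ : Nonempty (Fin k × ZMod 5 ↪ Fin r) := Function.Embedding.nonempty_of_card_le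
    (by simp only [Fintype.card_prod, Fintype.card_fin, ZMod.card]; omega)
  obtain ⟨S⟩ := exists_cycleSys D (by omega) (by norm_num) (by exact_mod_cast h5) (by omega) b
  have hu := odd_scaling_five
  have hk2 : k * 5 + 2 ≤ r ∨ 2 ≤ k := by omega
  have hsym : ∀ w w', (S.B.supp w).card = (S.B.supp w').card →
      finrank L (S.B.W w) = finrank L (S.B.W w') := fun w w' h =>
    le_antisymm (S.finrank_W_eq (by omega) (by norm_num) (by omega) hu hk2 w w' h)
      (S.finrank_W_eq (by omega) (by norm_num) (by omega) hu hk2 w' w h.symm)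
  have hbig : ∀ w, 2 ≤ (S.B.supp w).card → S.B.W w = ⊥ := by
    intro w hw
    by_contra hne
    have h1 := S.B.weight_count hsym w
    rw [ZMod.card] at h1
    have hd : 0 < finrank L (S.B.W w) :=
      Nat.pos_of_ne_zero (by rwa [Ne, Submodule.finrank_eq_zero])
    have hjk : (S.B.supp w).card ≤ k := (Finset.card_le_univ _).trans (by simp)
    have h2 : 8 * k ≤ k.choose (S.B.supp w).card * 4 ^ (S.B.supp w).card := by
      generalize (S.B.supp w).card = j at hw hjk
      rcases eq_or_lt_of_le hjk with he | hlt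
      · rw [he, Nat.choose_self, one_mul]
        rw [he] at hw
        clear * - hw
        generalize k = m at hw
        induction m, hw using Nat.le_induction with
        | base => norm_num
        | succ j hj ih => rw [pow_succ]; omega
      · have h4 : (4 : ℕ) ^ 2 ≤ 4 ^ j := Nat.pow_le_pow_right (by norm_num) hw
        calc 8 * k ≤ k * 4 ^ 2 := by omega
          _ ≤ _ := Nat.mul_le_mul (le_choose (by omega) hlt) h4
    have h3 : k.choose (S.B.supp w).card * 4 ^ (S.B.supp w).card * 1 ≤
        k.choose (S.B.supp w).card * 4 ^ (S.B.supp w).card * finrank L (S.B.W w) :=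
      Nat.mul_le_mul_left _ hd
    simp only [show (5 : ℕ) - 1 = 4 from rfl] at h1
    omega
  obtain ⟨c, hc, rfl⟩ := S.exists_psi hμ hμ1
  let i : Fin k := ⟨0, by omega⟩
  obtain ⟨h0, h1, -⟩ := (S.small (by omega) (by norm_num) (by omega) hu hk2 hbig i).1 c hc
  rw [finrank_eigenspace_eq_conj D (by omega) (by norm_num) (by norm_num) (by omega) hσ
    (good_rot b (by omega) i) hT (S.canon i) (S.ψ c)]
  by_contra hne
  have : k * 4 * 2 ≤ k * 4 * finrank L (Module.End.eigenspace (S.B.T i 1) (S.ψ c)) :=
    Nat.mul_le_mul_left _ (by omega)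
  simp only [show (5 : ℕ) - 1 = 4 from rfl] at h1
  omega

/-- A three-cycle off a cycle with simple eigenvalues fixes their eigenvectors. -/
theorem disjoint_fix (D : Setup L V r) {ℓ : ℕ} (hℓ : ℓ.Prime) (hℓ2 : ℓ ≠ 2) (hr : ℓ + 5 ≤ r)
    {σ : Perm (Fin r)} (hσ : Good r ℓ σ) {T : Module.End L V} (hT : Canon D ℓ σ T) {μ : L}
    (hline : finrank L (Module.End.eigenspace T μ) = 1) {a b c : Fin r} (h : Dist a b c)
    (ha : a ∉ σ.support) (hb : b ∉ σ.support) (hc : c ∉ σ.support) {Y : Module.End L V}
    (hY : Canon D 3 (tri a b c) Y) :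
    ∀ v ∈ Module.End.eigenspace T μ, Y v = v := by
  have hℓ3 : 3 ≤ ℓ := by have := hℓ.two_le; omega
  have hsupp : (tri a b c).support ⊆ σ.supportᶜ := by
    intro x hx
    rw [Finset.mem_compl]
    intro hxσ
    rw [Perm.mem_support] at hx
    exact hx (tri_other (fun e => ha (e ▸ hxσ)) (fun e => hb (e ▸ hxσ)) (fun e => hc (e ▸ hxσ)))
  have hYT := commute_disjoint D (by omega) hℓ hℓ2 hσ (isThreeCycle_tri h) hsupp hT.1 hY.1
  obtain ⟨ν, hν⟩ := line_scalar hline rfl hYT
  let pts : Fin 3 ⊕ {x // x ∈ σ.support} → Fin r := Sum.elim ![a, b, c] Subtype.val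
  let qts : Fin 3 ⊕ {x // x ∈ σ.support} → Fin r := Sum.elim ![b, a, c] Subtype.val
  have hab : a ≠ b := h.1
  have hinj : ∀ x y z : Fin r, Dist x y z → x ∉ σ.support → y ∉ σ.support → z ∉ σ.support →
      Function.Injective (Sum.elim ![x, y, z] Subtype.val :
        Fin 3 ⊕ {x // x ∈ σ.support} → Fin r) := by
    intro x y z hd hx hy hz
    refine Function.Injective.sumElim ?_ Subtype.val_injective ?_
    · obtain ⟨h1, h2, h3⟩ := hd
      intro i j hij
      fin_cases i <;> fin_cases j <;>
        simp [h1, h2, h3, h1.symm, h2.symm, h3.symm] at hij ⊢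
    · intro i w hi
      fin_cases i
      · exact hx ((show x = w.1 from hi) ▸ w.2)
      · exact hy ((show y = w.1 from hi) ▸ w.2)
      · exact hz ((show z = w.1 from hi) ▸ w.2)
  obtain ⟨s, hs, hsp⟩ := exists_even pts qts (hinj a b c h ha hb hc)
    (hinj b a c ⟨h.1.symm, h.2.2, h.2.1⟩ hb ha hc)
    (by rw [Nat.card_eq_fintype_card, Fintype.card_sum, Fintype.card_fin, Fintype.card_coe,
      hσ.card, Fintype.card_fin]; omega)
  obtain ⟨S, hS⟩ := D.exists_lift s hs
  have hsσ : s * σ = σ * s := by
    refine (Perm.Disjoint.commute fun x => ?_).eq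
    by_cases hx : x ∈ σ.support
    · exact Or.inl (hsp (Sum.inr ⟨x, hx⟩))
    · exact Or.inr (Perm.notMem_support.1 hx)
  have hST := commute_centralizer D (by omega) hℓ hℓ2 hσ hsσ hs hT.1 hS
  obtain ⟨ξ, hξ⟩ := line_scalar hline rfl hST
  have e0 : s a = b := hsp (Sum.inl 0)
  have e1 : s b = a := hsp (Sum.inl 1)
  have e2 : s c = c := hsp (Sum.inl 2)
  have hconj : s * tri a b c * s⁻¹ = tri a b c ^ 2 := by
    rw [conj_tri, e0, e1, e2, tri_flip h]
  have hSY := Canon.conj (D := D) (by omega) Nat.prime_three (by norm_num)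
    (good_tri (by omega) h) hY hS (T' := Y ^ 2) (by rw [hconj]; exact hY.pow 2)
  intro v hv
  rcases eq_or_ne v 0 with rfl | hv0
  · simp
  have e := LinearMap.congr_fun hSY v
  simp only [Module.End.mul_apply, hν v hv, map_smul, hξ v hv, pow_two, smul_smul] at e
  have e' := smul_left_injective L hv0 e
  have hξ0 : ξ ≠ 0 := by
    intro h0
    have := hξ v hv
    rw [h0, zero_smul] at this
    exact hv0 (D.injective (by omega) hS (this.trans (map_zero S).symm))
  have hν0 : ν ≠ 0 := by
    intro h0
    have := hν v hv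
    rw [h0, zero_smul] at this
    exact hv0 (D.injective (by omega) hY.1 (this.trans (map_zero Y).symm))
  have hν1 : ν = 1 := by
    have h' : (ν * ξ) * ν = (ν * ξ) * 1 := by linear_combination -e'
    exact mul_left_cancel₀ (mul_ne_zero hν0 hξ0) h'
  rw [hν v hv, hν1, one_smul]

/-- The exceptional possibility of three blocks moved at once does not occur. -/
theorem no_full (D : Setup L V r) (p : ℕ) [CharP L p] (hr : 9 ≤ r) (hr2 : r ≤ 11) (h3 : (3 : L) ≠ 0)
    (hn : finrank L V + 2 + (if p ∣ r then 1 else 0) ≤ r) {a b c : Fin r} (habc : Dist a b c)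
    {X : Module.End L V} (hX : Canon D 3 (tri a b c) X)
    (h1 : finrank L (Module.End.eigenspace X 1) ≤ 1)
    (hω : ∃ ω : L, ω ^ 3 = 1 ∧ ω ≠ 1 ∧ 4 ≤ finrank L (Module.End.eigenspace X ω))
    (hn8 : 8 ≤ finrank L V) : False := by
  have hr10 : 10 ≤ r := by omega
  have htr : ∀ {a' b' c' : Fin r} {Y : Module.End L V}, Dist a' b' c' →
      Canon D 3 (tri a' b' c') Y → ∀ μ : L,
      finrank L (Module.End.eigenspace Y μ) = finrank L (Module.End.eigenspace X μ) :=
    fun h' hY μ => finrank_eigenspace_eq_conj D (by omega) Nat.prime_three (by norm_num) (by omega)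
      (good_tri (by omega) h') (good_tri (by omega) habc) hY hX μ
  by_cases h5 : (5 : L) = 0
  · -- seven-cycles
    have hr11 : r = 11 := by
      by_contra hne
      have hr' : r = 10 := by omega
      have hp : p ∣ r := by
        rw [hr']
        refine (CharP.cast_eq_zero_iff L p 10).1 ?_
        push_cast
        linear_combination (2 : L) * h5
      rw [if_pos hp] at hn
      omega
    have : Fact (Nat.Prime 7) := ⟨by norm_num⟩
    have h7 : (7 : L) ≠ 0 := by
      intro h7
      exact one_ne_zero (show (1 : L) = 0 by linear_combination (3 : L) * h5 - (2 : L) * h7)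
    obtain ⟨b'⟩ : Nonempty (Fin 1 × ZMod 7 ↪ Fin r) := Function.Embedding.nonempty_of_card_le
      (by simp only [Fintype.card_prod, Fintype.card_fin, ZMod.card]; omega)
    obtain ⟨S⟩ := exists_cycleSys D (by omega) (by norm_num) (by exact_mod_cast h7) (by omega) b'
    have hsm := (S.small (by omega) (by norm_num) (by omega) odd_scaling_seven (Or.inl (by omega))
      (fun w hw => absurd hw (by
        have := Finset.card_le_univ (S.B.supp w)
        simp at this
        omega)) 0).1
    have hline : ∀ c : ZMod 7, c ≠ 0 →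
        finrank L (Module.End.eigenspace (S.B.T 0 1) (S.ψ c)) = 1 := by
      intro c hc
      obtain ⟨h0, hle, -⟩ := hsm c hc
      simp only [show (7 : ℕ) - 1 = 6 from rfl] at hle
      omega
    -- four spare points
    have hsupp : (rot b' 0 1).support.card = 7 := (good_rot b' (by omega) 0).card
    obtain ⟨P, hP⟩ : ∃ P : Fin 4 ↪ Fin r, ∀ i, P i ∉ (rot b' 0 1).support := by
      have hc : Fintype.card (Fin 4) ≤ Fintype.card {x // x ∉ (rot b' 0 1).support} := by
        rw [Fintype.card_subtype_compl, Fintype.card_coe, hsupp, Fintype.card_fin, Fintype.card_fin]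
        omega
      obtain ⟨f⟩ := Function.Embedding.nonempty_of_card_le hc
      exact ⟨f.trans (Function.Embedding.subtype _), fun i => (f i).2⟩
    have hd : ∀ i j k : Fin 4, (i ≠ j ∧ j ≠ k ∧ i ≠ k) → Dist (P i) (P j) (P k) := Dist.of_emb P
    obtain ⟨Y1, hY1⟩ := exists_canon D (by omega) (by decide : Odd 3)
      (good_tri (by omega) (hd 0 1 2 (by decide)))
    obtain ⟨Y2, hY2⟩ := exists_canon D (by omega) (by decide : Odd 3)
      (good_tri (by omega) (hd 0 1 3 (by decide)))
    set t : Perm (Fin r) := tri (P 0) (P 1) (P 2) * tri (P 0) (P 1) (P 3) *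
      tri (P 0) (P 1) (P 2) ^ 2 * tri (P 0) (P 1) (P 3) ^ 2 with ht
    set Q : Module.End L V := Y1 * Y2 * Y1 ^ 2 * Y2 ^ 2 with hQ
    have hQt : D.rel t Q :=
      D.mul (D.mul (D.mul hY1.1 hY2.1) (D.pow hY1.1 2)) (D.pow hY2.1 2)
    have hcomm : ∀ {i j k : Fin 4} {Y : Module.End L V}, (i ≠ j ∧ j ≠ k ∧ i ≠ k) →
        D.rel (tri (P i) (P j) (P k)) Y → Y * S.B.T 0 1 = S.B.T 0 1 * Y := by
      intro i j k Y hne hY
      refine commute_disjoint D (by omega) (by norm_num) (by norm_num) (good_rot b' (by omega) 0)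
        (isThreeCycle_tri (hd i j k hne)) ?_ (S.canon 0).1 hY
      intro x hx
      rw [Finset.mem_compl]
      intro hxσ
      rw [Perm.mem_support] at hx
      exact hx (tri_other (fun e => hP i (e ▸ hxσ)) (fun e => hP j (e ▸ hxσ))
        (fun e => hP k (e ▸ hxσ)))
    have hQfix : ∀ c : ZMod 7, c ≠ 0 →
        Module.End.eigenspace (S.B.T 0 1) (S.ψ c) ≤ Module.End.eigenspace Q 1 := by
      intro c hc v hv
      obtain ⟨m1, hm1⟩ := line_scalar (hline c hc) rfl
        (hcomm (i := 0) (j := 1) (k := 2) (by decide) hY1.1)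
      obtain ⟨m2, hm2⟩ := line_scalar (hline c hc) rfl
        (hcomm (i := 0) (j := 1) (k := 3) (by decide) hY2.1)
      rcases eq_or_ne v 0 with rfl | hv0
      · exact zero_mem _
      have hcube : ∀ {Y : Module.End L V} {m : L}, Y ^ 3 = 1 → Y v = m • v → m ^ 3 = 1 := by
        intro Y m hY3 hm
        refine smul_left_injective L hv0 (show m ^ 3 • v = (1 : L) • v from ?_)
        rw [one_smul]
        conv_rhs => rw [← Module.End.one_apply (R := L) v, ← hY3]
        simp [pow_succ, Module.End.mul_apply, hm, map_smul, smul_smul, mul_assoc]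
      have e1 := hcube hY1.2.1 (hm1 v hv)
      have e2 := hcube hY2.2.1 (hm2 v hv)
      rw [Module.End.mem_eigenspace_iff, one_smul, hQ]
      simp only [pow_two, Module.End.mul_apply, hm1 v hv, hm2 v hv, map_smul, smul_smul]
      conv_rhs => rw [← one_smul L v]
      congr 1
      linear_combination (m2 ^ 3) * e1 + e2
    have h6 : 6 ≤ finrank L (Module.End.eigenspace Q 1) := by
      have hsum := S.B.sum_le_of_le (E := Module.End.eigenspace Q 1)
        ((Finset.univ.erase (0 : ZMod 7)).image fun c => Pi.single (0 : Fin 1) c) (by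
          intro w hw
          simp only [Finset.mem_image, Finset.mem_erase, Finset.mem_univ, and_true] at hw
          obtain ⟨c, hc, rfl⟩ := hw
          refine (S.W_le_eigen _ 0).trans ?_
          rw [Pi.single_eq_same]
          exact hQfix c hc)
      rw [Finset.sum_image (fun x _ y _ hxy => by simpa using congrFun hxy 0)] at hsum
      refine le_trans (le_of_eq ?_) hsum
      rw [Finset.sum_congr rfl (g := fun _ => 1) (fun c hc => by
        rw [← (hsm c (Finset.mem_erase.1 hc).1).2.2]; exact hline c (Finset.mem_erase.1 hc).1)]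
      simp
    -- an inverted three-cycle
    obtain ⟨e, he⟩ : ∃ e, e ∉ Finset.univ.map P := by
      by_contra hall
      simp only [not_exists, not_not] at hall
      have := Finset.card_le_card (show (Finset.univ : Finset (Fin r)) ⊆ Finset.univ.map P from
        fun x _ => hall x)
      simp at this
      omega
    have hei : ∀ i, e ≠ P i := fun i h => he (by simp [h])
    have hdx : Dist (P 0) (P 1) e := ⟨P.injective.ne (by decide), (hei 1).symm, (hei 0).symm⟩
    have hap : ∀ (i j k : Fin 4), (i ≠ j ∧ j ≠ k ∧ i ≠ k) → ∀ x, x ≠ i → x ≠ j → x ≠ k →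
        tri (P i) (P j) (P k) (P x) = P x :=
      fun i j k _ x h1 h2 h3 => tri_other (P.injective.ne h1) (P.injective.ne h2) (P.injective.ne h3)
    have t0 : t (P 0) = P 1 := by
      simp [ht, pow_two, Perm.mul_apply, tri_fst (hd 0 1 2 (by decide)),
        tri_snd (hd 0 1 2 (by decide)), tri_thd, tri_fst (hd 0 1 3 (by decide)),
        tri_snd (hd 0 1 3 (by decide)), hap 0 1 2 (by decide) 3 (by decide) (by decide) (by decide),
        hap 0 1 3 (by decide) 2 (by decide) (by decide) (by decide)]
    have t1 : t (P 1) = P 0 := by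
      simp [ht, pow_two, Perm.mul_apply, tri_fst (hd 0 1 2 (by decide)),
        tri_snd (hd 0 1 2 (by decide)), tri_thd, tri_fst (hd 0 1 3 (by decide)),
        tri_snd (hd 0 1 3 (by decide)), hap 0 1 2 (by decide) 3 (by decide) (by decide) (by decide),
        hap 0 1 3 (by decide) 2 (by decide) (by decide) (by decide)]
    have te : t e = e := by
      simp [ht, pow_two, Perm.mul_apply, tri_other (hei 0) (hei 1) (hei 2),
        tri_other (hei 0) (hei 1) (hei 3)]
    obtain ⟨Z, hZ⟩ := exists_canon D (by omega) (by decide : Odd 3) (good_tri (by omega) hdx)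
    have hconj : t * tri (P 0) (P 1) e * t⁻¹ = tri (P 0) (P 1) e ^ 2 := by
      rw [conj_tri, t0, t1, te, tri_flip hdx]
    have hQZ := Canon.conj (D := D) (by omega) Nat.prime_three (by norm_num)
      (good_tri (by omega) hdx) hZ hQt (T' := Z ^ 2) (by rw [hconj]; exact hZ.pow 2)
    obtain ⟨ω, hω3, hω1, hω4⟩ := hω
    have hint : Module.End.eigenspace Q 1 ⊓ Module.End.eigenspace Z ω = ⊥ := by
      rw [Submodule.eq_bot_iff]
      rintro v ⟨hv1, hv2⟩
      rw [SetLike.mem_coe, Module.End.mem_eigenspace_iff] at hv1 hv2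
      rw [one_smul] at hv1
      have e := LinearMap.congr_fun hQZ v
      simp only [pow_two, Module.End.mul_apply, hv1, hv2, map_smul, smul_smul] at e
      by_contra hv0
      have e' := smul_left_injective L hv0 e
      have hω0 : ω ≠ 0 := fun h => by simp [h] at hω3
      exact hω1 (mul_left_cancel₀ hω0 (e'.symm.trans (mul_one ω).symm))
    have h := Submodule.finrank_sup_add_finrank_inf_eq (Module.End.eigenspace Q 1)
      (Module.End.eigenspace Z ω)
    rw [hint, finrank_bot] at h
    have := Submodule.finrank_le (Module.End.eigenspace Q 1 ⊔ Module.End.eigenspace Z ω)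
    have := htr hdx hZ ω
    omega
  · -- five-cycles
    have : Fact (Nat.Prime 5) := ⟨by norm_num⟩
    obtain ⟨b'⟩ : Nonempty (Fin 1 × ZMod 5 ↪ Fin r) := Function.Embedding.nonempty_of_card_le
      (by simp only [Fintype.card_prod, Fintype.card_fin, ZMod.card]; omega)
    obtain ⟨S⟩ := exists_cycleSys D (by omega) (by norm_num) (by exact_mod_cast h5) (by omega) b'
    have hg := good_rot b' (by omega) 0
    have hline : ∀ c : ZMod 5, c ≠ 0 →
        finrank L (Module.End.eigenspace (S.B.T 0 1) (S.ψ c)) = 1 := fun c hc =>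
      five_lines D hr h5 (by omega) hg (S.canon 0) (S.psi_pow c) (S.psi_ne_one hc)
    obtain ⟨P, hP⟩ : ∃ P : Fin 3 ↪ Fin r, ∀ i, P i ∉ (rot b' 0 1).support := by
      have hc : Fintype.card (Fin 3) ≤ Fintype.card {x // x ∉ (rot b' 0 1).support} := by
        rw [Fintype.card_subtype_compl, Fintype.card_coe, hg.card, Fintype.card_fin,
          Fintype.card_fin]
        omega
      obtain ⟨f⟩ := Function.Embedding.nonempty_of_card_le hc
      exact ⟨f.trans (Function.Embedding.subtype _), fun i => (f i).2⟩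
    have hd := Dist.of_emb P 0 1 2 (by decide)
    obtain ⟨Y, hY⟩ := exists_canon D (by omega) (by decide : Odd 3) (good_tri (by omega) hd)
    have hsum := S.B.sum_le_of_le (E := Module.End.eigenspace Y 1)
      ((Finset.univ.erase (0 : ZMod 5)).image fun c => Pi.single (0 : Fin 1) c) (by
        intro w hw
        simp only [Finset.mem_image, Finset.mem_erase, Finset.mem_univ, and_true] at hw
        obtain ⟨c, hc, rfl⟩ := hw
        refine (S.W_le_eigen _ 0).trans ?_
        rw [Pi.single_eq_same]
        intro v hv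
        rw [Module.End.mem_eigenspace_iff, one_smul]
        exact disjoint_fix D (by norm_num) (by norm_num) (by omega) hg (S.canon 0) (hline c hc) hd
          (hP 0) (hP 1) (hP 2) hY v hv)
    have hsm := (S.small (by omega) (by norm_num) (by omega) odd_scaling_five (Or.inl (by omega))
      (fun w hw => absurd hw (by
        have := Finset.card_le_univ (S.B.supp w)
        simp at this
        omega)) 0).1
    rw [Finset.sum_image (fun x _ y _ hxy => by simpa using congrFun hxy 0),
      Finset.sum_congr rfl (g := fun _ => 1) (fun c hc => by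
        rw [← (hsm c (Finset.mem_erase.1 hc).1).2.2]; exact hline c (Finset.mem_erase.1 hc).1),
      htr hd hY 1] at hsum
    simp at hsum
    omega

/-- No weight of three-cycle blocks moves two blocks. -/
theorem no_big (D : Setup L V r) (p : ℕ) [CharP L p] (hr : 9 ≤ r) (h3 : (3 : L) ≠ 0)
    (hn : finrank L V + 2 + (if p ∣ r then 1 else 0) ≤ r)
    [Fact (Nat.Prime 3)] (b : Fin (r / 3) × ZMod 3 ↪ Fin r) (S : CycleSys D b)
    (w : Fin (r / 3) → ZMod 3) (hw : 2 ≤ (S.B.supp w).card) : S.B.W w = ⊥ := by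
  have hsym : ∀ w w', (S.B.supp w).card = (S.B.supp w').card →
      finrank L (S.B.W w) = finrank L (S.B.W w') := fun w w' h =>
    le_antisymm (S.finrank_W_eq (by omega) (by norm_num) (by omega) odd_scaling_three (by omega) w w' h)
      (S.finrank_W_eq (by omega) (by norm_num) (by omega) odd_scaling_three (by omega) w' w h.symm)
  have hcount : ∀ w : Fin (r / 3) → ZMod 3, S.B.W w ≠ ⊥ →
      (r / 3).choose (S.B.supp w).card * 2 ^ (S.B.supp w).card ≤ finrank L V := by
    intro w hne
    have h := S.B.weight_count hsym w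
    rw [ZMod.card] at h
    refine le_trans ?_ h
    exact Nat.le_mul_of_pos_right _ (Nat.pos_of_ne_zero (by rwa [Ne, Submodule.finrank_eq_zero]))
  by_contra hne
  have h1 := hcount w hne
  have hjk : (S.B.supp w).card ≤ r / 3 := (Finset.card_le_univ _).trans (by simp)
  have hfull : (S.B.supp w).card = r / 3 ∧ r / 3 = 3 := by
    rcases eq_or_lt_of_le hjk with he | hlt
    · refine ⟨he, ?_⟩
      rw [he, Nat.choose_self, one_mul] at h1
      by_contra h3'
      have h4 : 3 * (r / 3) < 2 ^ (r / 3) := by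
        have : 4 ≤ r / 3 := by omega
        generalize r / 3 = j at this
        induction j, this using Nat.le_induction with
        | base => norm_num
        | succ j hj ih => rw [pow_succ]; omega
      omega
    · exfalso
      have h4 : (2 : ℕ) ^ 2 ≤ 2 ^ (S.B.supp w).card := Nat.pow_le_pow_right (by norm_num) hw
      have h5 := Nat.mul_le_mul (le_choose (by omega : 1 ≤ (S.B.supp w).card) hlt) h4
      omega
  obtain ⟨hfull, hk3⟩ := hfull
  rw [hfull, Nat.choose_self, one_mul, hk3] at h1
  norm_num at h1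
  let i : Fin (r / 3) := ⟨0, by omega⟩
  have hpos : ∀ w', (S.B.supp w').card = r / 3 → 1 ≤ finrank L (S.B.W w') := fun w' h => by
    rw [hsym w' w (h.trans hfull.symm)]
    exact Nat.pos_of_ne_zero (by rwa [Ne, Submodule.finrank_eq_zero])
  have hsmall : ∀ w', w' i = 0 → w' ≠ 0 → S.B.W w' = ⊥ := by
    intro w' hw0 hw'
    by_contra hne'
    have hcard0 : 0 < (S.B.supp w').card := by
      obtain ⟨j, hj⟩ := Function.ne_iff.1 hw'
      exact Finset.card_pos.2 ⟨j, by simpa [BlockSys.supp, S.o_eq] using hj⟩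
    have hlt : (S.B.supp w').card < r / 3 := by
      refine lt_of_lt_of_eq (Finset.card_lt_univ_of_notMem (x := i) ?_) (Fintype.card_fin _)
      simp [BlockSys.supp, S.o_eq, hw0]
    have hdis : Disjoint (Finset.univ.filter fun x : Fin (r / 3) → ZMod 3 =>
        (S.B.supp x).card = (S.B.supp w').card) (Finset.univ.filter fun x : Fin (r / 3) → ZMod 3 =>
        (S.B.supp x).card = r / 3) := by
      rw [Finset.disjoint_filter]
      intro x _ hx
      omega
    have h := S.B.sum_le ((Finset.univ.filter fun x : Fin (r / 3) → ZMod 3 =>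
        (S.B.supp x).card = (S.B.supp w').card) ∪ (Finset.univ.filter fun x : Fin (r / 3) → ZMod 3 =>
        (S.B.supp x).card = r / 3))
    rw [Finset.sum_union hdis] at h
    have hge : ∀ j, (∀ x, (S.B.supp x).card = j → 1 ≤ finrank L (S.B.W x)) →
        (r / 3).choose j * 2 ^ j ≤ ∑ x ∈ Finset.univ.filter
          (fun x : Fin (r / 3) → ZMod 3 => (S.B.supp x).card = j), finrank L (S.B.W x) := by
      intro j hj
      refine le_trans (le_of_eq ?_) (Finset.card_nsmul_le_sum _ _ 1
        (fun x hx => hj x (Finset.mem_filter.1 hx).2))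
      rw [S.B.card_supp_eq, ZMod.card, smul_eq_mul, mul_one]
    have e1 := hge _ hpos
    have e2 := hge (S.B.supp w').card (fun x hx => by
      rw [hsym x w' hx]; exact Nat.pos_of_ne_zero (by rwa [Ne, Submodule.finrank_eq_zero]))
    rw [show (2 : ℕ) ^ (r / 3) = 8 by rw [hk3]; rfl, Nat.choose_self] at e1
    rw [congrArg (fun n => Nat.choose n (S.B.supp w').card) hk3] at e2
    rcases (show (S.B.supp w').card = 1 ∨ (S.B.supp w').card = 2 by omega) with hc | hc <;>
      rw [hc] at e2 h <;> norm_num [Nat.choose] at e1 e2 <;> omega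
  have hzero : finrank L (S.B.W 0) + 8 ≤ finrank L V := by
    have hnot : (0 : Fin (r / 3) → ZMod 3) ∉ Finset.univ.filter
        (fun x : Fin (r / 3) → ZMod 3 => (S.B.supp x).card = r / 3) := by
      simp [BlockSys.supp, S.o_eq]; omega
    have h := S.B.sum_le (insert 0 (Finset.univ.filter
      (fun x : Fin (r / 3) → ZMod 3 => (S.B.supp x).card = r / 3)))
    rw [Finset.sum_insert hnot] at h
    have e := Finset.card_nsmul_le_sum (Finset.univ.filter
      (fun x : Fin (r / 3) → ZMod 3 => (S.B.supp x).card = r / 3))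
      (fun x => finrank L (S.B.W x)) 1 (fun x hx => hpos x (Finset.mem_filter.1 hx).2)
    rw [S.B.card_supp_eq, ZMod.card, smul_eq_mul, mul_one, Nat.choose_self,
      show (3 - 1 : ℕ) ^ (r / 3) = 8 by rw [hk3]; rfl] at e
    omega
  have hfix : finrank L (Module.End.eigenspace (S.B.T i 1) 1) ≤ 1 := by
    refine le_trans (S.B.finrank_le_sum (S.B.stable_eigenspace i 1 1) {0} fun w' hw' => ?_) (by
      simp only [Finset.sum_singleton]; omega)
    rw [Submodule.eq_bot_iff]
    rintro v ⟨hv1, hv2⟩
    by_contra hv0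
    rw [Finset.notMem_singleton] at hw'
    have hwi : w' i = 0 := by
      have h' := Module.End.mem_eigenspace_iff.1 (S.W_le_eigen w' i hv2)
      rw [Module.End.mem_eigenspace_iff.1 hv1] at h'
      refine S.ψ_inj ?_
      rw [AddChar.map_zero_eq_one]
      exact (smul_left_injective L hv0 h').symm
    exact hv0 (by have := hsmall w' hwi hw'; rw [this] at hv2; exact (Submodule.mem_bot L).1 hv2)
  have hω : 4 ≤ finrank L (Module.End.eigenspace (S.B.T i 1) (S.ψ 1)) := by
    have h := S.B.sum_le_of_le (E := Module.End.eigenspace (S.B.T i 1) (S.ψ 1))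
      (Finset.univ.filter fun x : Fin (r / 3) → ZMod 3 => x i = 1 ∧ ∀ j, x j ≠ 0)
      (fun x hx => (S.W_le_eigen x i).trans (by rw [(Finset.mem_filter.1 hx).2.1]))
    refine le_trans ?_ h
    refine le_trans ?_ (Finset.card_nsmul_le_sum _ _ 1 fun x hx => hpos x ?_)
    · rw [smul_eq_mul, mul_one]
      exact full_count _ hk3 i
    · rw [show S.B.supp x = Finset.univ by
        ext j; simp [BlockSys.supp, S.o_eq, (Finset.mem_filter.1 hx).2.2 j]]
      simp
  refine no_full D p hr (by omega) h3 hn (a := b (i, 0)) (b := b (i, 1)) (c := b (i, 2))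
    ⟨b.injective.ne (by simp), b.injective.ne (by simpa using zmod_three_ne.2.1),
      b.injective.ne (by simpa using zmod_three_ne.2.2)⟩ ?_ hfix
    ⟨S.ψ 1, S.psi_pow 1, S.psi_ne_one one_ne_zero, hω⟩ (by omega)
  rw [← rot_eq_tri]
  exact S.canon i

/-- Six points in two blocks. -/
def six : Fin 6 → Fin 2 × ZMod 3 := ![(0, 0), (0, 1), (0, 2), (1, 0), (1, 1), (1, 2)]

omit [IsAlgClosed L] [FiniteDimensional L V] in
theorem six_injective : Function.Injective six := by decide

omit [IsAlgClosed L] [FiniteDimensional L V] in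
theorem zmod_three_cases : ∀ x : ZMod 3, x = 0 ∨ x = 1 ∨ x = 2 := by decide

/-- Facts about one block of three points inside a block system. -/
theorem block_facts (D : Setup L V r) (p : ℕ) [CharP L p] (hr : 9 ≤ r) (h3 : (3 : L) ≠ 0)
    (hn : finrank L V + 2 + (if p ∣ r then 1 else 0) ≤ r)
    (R : Fin 6 ↪ Fin r) {T T' : Module.End L V}
    (hT : Canon D 3 (tri (R 0) (R 1) (R 2)) T) (hT' : Canon D 3 (tri (R 3) (R 4) (R 5)) T') :
    finrank L (LinearMap.range (T - 1)) = 2 ∧
      ∀ v ∈ LinearMap.range (T - 1), T' v = v := by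
  classical
  have : Fact (Nat.Prime 3) := ⟨Nat.prime_three⟩
  obtain ⟨b₀⟩ : Nonempty (Fin (r / 3) × ZMod 3 ↪ Fin r) := Function.Embedding.nonempty_of_card_le
    (by simp only [Fintype.card_prod, Fintype.card_fin, ZMod.card]; omega)
  let e : Fin 6 → Fin 2 × ZMod 3 := six
  have he : Function.Injective e := six_injective
  let emb : Fin 2 × ZMod 3 → Fin (r / 3) × ZMod 3 := Prod.map (Fin.castLE (by omega)) id
  have hemb : Function.Injective emb :=
    Prod.map_injective.2 ⟨Fin.castLE_injective _, Function.injective_id⟩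
  obtain ⟨g, hg⟩ := exists_perm (fun x => b₀ (emb (e x))) (fun x => R x)
    (b₀.injective.comp (hemb.comp he)) R.injective
  let b : Fin (r / 3) × ZMod 3 ↪ Fin r := b₀.trans g.toEmbedding
  obtain ⟨S⟩ := exists_cycleSys D (by omega) (by norm_num) (by exact_mod_cast h3) (by omega) b
  let i : Fin (r / 3) := Fin.castLE (by omega) (0 : Fin 2)
  let j : Fin (r / 3) := Fin.castLE (by omega) (1 : Fin 2)
  have hij : j ≠ i := fun h => by
    have := Fin.castLE_injective _ h
    exact absurd this (by decide)
  have hb : ∀ x, b (emb (e x)) = R x := hg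
  have hri : rot b i 1 = tri (R 0) (R 1) (R 2) := by
    rw [rot_eq_tri, ← hb 0, ← hb 1, ← hb 2]; rfl
  have hrj : rot b j 1 = tri (R 3) (R 4) (R 5) := by
    rw [rot_eq_tri, ← hb 3, ← hb 4, ← hb 5]; rfl
  have hTi : S.B.T i 1 = T :=
    canon_unique D (by omega) Nat.prime_three (by norm_num) (good_rot b (by omega) i) (S.canon i)
      (hri ▸ hT)
  have hTj : S.B.T j 1 = T' :=
    canon_unique D (by omega) Nat.prime_three (by norm_num) (good_rot b (by omega) j) (S.canon j)
      (hrj ▸ hT')
  have hbig := no_big D p hr h3 hn b S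
  obtain ⟨hsm, -⟩ := S.small (by omega) (by norm_num) (by omega) odd_scaling_three (by omega) hbig i
  have hone : ∀ c : ZMod 3, c ≠ 0 → finrank L (S.B.W (Pi.single i c)) = 1 := by
    intro c hc
    obtain ⟨h0, h1, h2⟩ := hsm c hc
    rw [← h2]
    simp only [show (3 : ℕ) - 1 = 2 from rfl] at h1
    by_contra hne
    have : r / 3 * 2 * 2 ≤
        r / 3 * 2 * finrank L (Module.End.eigenspace (S.B.T i 1) (S.ψ c)) :=
      Nat.mul_le_mul_left _ (by omega)
    omega
  set E : Submodule L V := LinearMap.range (S.B.T i 1 - 1) with hE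
  have hEs : S.B.Stable E := by
    rintro l a _ ⟨u, rfl⟩
    refine ⟨S.B.T l a u, ?_⟩
    have h := LinearMap.congr_fun (S.B.comm i 1 l a).eq u
    simp only [Module.End.mul_apply] at h
    simp [h]
  have hmeet : ∀ w, w ≠ Pi.single i 1 → w ≠ Pi.single i 2 → E ⊓ S.B.W w = ⊥ := by
    intro w hw1 hw2
    rw [Submodule.eq_bot_iff]
    rintro v ⟨⟨u, hu⟩, hv2⟩
    by_contra hv0
    have hwi : w i ≠ 0 := by
      intro h0
      have h := Module.End.mem_eigenspace_iff.1 (S.W_le_eigen w i hv2)
      rw [h0, AddChar.map_zero_eq_one] at h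
      exact hv0 (eq_zero_of_eigen_range S.B.m_ne (S.B.pow i 1) (u := u)
        (by simpa using hu) h)
    refine hv0 ?_
    have hcard : 2 ≤ (S.B.supp w).card → v = 0 := fun h => by
      have := hbig w h; rw [this] at hv2; exact (Submodule.mem_bot L).1 hv2
    by_cases hall : ∀ l, l ≠ i → w l = 0
    · have hw : w = Pi.single i (w i) := by
        funext l
        rcases eq_or_ne l i with rfl | hl
        · simp
        · simp [hl, hall l hl]
      rcases zmod_three_cases (w i) with h | h | h
      · exact absurd h hwi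
      · exact absurd (hw.trans (by rw [h])) hw1
      · exact absurd (hw.trans (by rw [h])) hw2
    · simp only [not_forall] at hall
      obtain ⟨l, hl, hwl⟩ := hall
      refine hcard (Finset.one_lt_card.2 ⟨i, ?_, l, ?_, Ne.symm hl⟩)
      · simp [BlockSys.supp, S.o_eq, hwi]
      · simp [BlockSys.supp, S.o_eq, hwl]
  refine ⟨?_, ?_⟩
  · rw [← hTi]
    have hne : (Pi.single i (1 : ZMod 3) : Fin (r / 3) → ZMod 3) ≠ Pi.single i 2 := fun h =>
      zmod_three_ne.2.1 (by simpa using congrFun h i)
    refine le_antisymm ?_ ?_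
    · refine (S.B.finrank_le_sum hEs {Pi.single i 1, Pi.single i 2} fun w hw => ?_).trans ?_
      · simp only [Finset.mem_insert, Finset.mem_singleton, not_or] at hw
        exact hmeet w hw.1 hw.2
      · rw [Finset.sum_pair hne, hone 1 zmod_three_ne.1.symm, hone 2 zmod_three_ne.2.2.symm]
    · refine le_trans ?_ (S.B.sum_le_of_le (E := E) {Pi.single i 1, Pi.single i 2} fun w hw => ?_)
      · rw [Finset.sum_pair hne, hone 1 zmod_three_ne.1.symm, hone 2 zmod_three_ne.2.2.symm]
      · intro v hv
        have h := Module.End.mem_eigenspace_iff.1 (S.W_le_eigen w i hv)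
        have hwi : w i ≠ 0 := by
          simp only [Finset.mem_insert, Finset.mem_singleton] at hw
          rcases hw with rfl | rfl <;> rw [Pi.single_eq_same]
          · exact zmod_three_ne.1.symm
          · exact zmod_three_ne.2.2.symm
        refine ⟨(S.ψ (w i) - 1)⁻¹ • v, ?_⟩
        rw [map_smul, LinearMap.sub_apply, Module.End.one_apply, h,
          show S.ψ (w i) • v - v = (S.ψ (w i) - 1) • v by rw [sub_smul, one_smul], smul_smul,
          inv_mul_cancel₀ (sub_ne_zero.2 (S.psi_ne_one hwi)), one_smul]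
  · rw [← hTi, ← hTj]
    refine S.B.trivial_on hEs j (fun w hwj => hmeet w ?_ ?_) 1
    · intro h; rw [h, Pi.single_eq_of_ne hij, S.o_eq] at hwj; exact hwj rfl
    · intro h; rw [h, Pi.single_eq_of_ne hij, S.o_eq] at hwj; exact hwj rfl

theorem exists_six (hr : 6 ≤ r) {a b c : Fin r} (h : Dist a b c) :
    ∃ R : Fin 6 ↪ Fin r, R 0 = a ∧ R 1 = b ∧ R 2 = c := by
  obtain ⟨R⟩ := exists_config (r := r) 6 hr
  have hi : Function.Injective ![a, b, c] := by
    obtain ⟨h1, h2, h3⟩ := h
    intro i j hij
    fin_cases i <;> fin_cases j <;>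
      simp [h1, h2, h3, h1.symm, h2.symm, h3.symm] at hij ⊢
  obtain ⟨g, hg⟩ := exists_perm (fun i : Fin 3 => R (Fin.castLE (by decide : 3 ≤ 6) i)) ![a, b, c]
    (R.injective.comp (Fin.castLE_injective (by decide : 3 ≤ 6))) hi
  exact ⟨R.trans g.toEmbedding, hg 0, hg 1, hg 2⟩

/-- The bound in characteristic different from three. -/
theorem bound_three (D : Setup L V r) (p : ℕ) [CharP L p] (hr : 9 ≤ r) (h3 : (3 : L) ≠ 0) :
    r - 1 - (if p ∣ r then 1 else 0) ≤ finrank L V := by
  classical
  by_contra hcon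
  have hn : finrank L V + 2 + (if p ∣ r then 1 else 0) ≤ r := by omega
  let T : Fin r → Fin r → Fin r → Module.End L V := fun a b c =>
    Classical.epsilon (Canon D 3 (tri a b c))
  have hT : ∀ {a b c}, Dist a b c → Canon D 3 (tri a b c) (T a b c) := fun h =>
    Classical.epsilon_spec (exists_canon D (by omega) (by decide) (good_tri (by omega) h))
  have huni : ∀ {a b c : Fin r} {X Y : Module.End L V}, Dist a b c → Canon D 3 (tri a b c) X →
      Canon D 3 (tri a b c) Y → X = Y := fun h hX hY =>
    canon_unique D (by omega) Nat.prime_three (by norm_num) (good_tri (by omega) h) hX hY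
  have hflip_le : ∀ {a b c : Fin r}, Dist a b c →
      LinearMap.range (T b a c - 1) ≤ LinearMap.range (T a b c - 1) := by
    intro a b c h
    have h' : Dist b a c := ⟨h.1.symm, h.2.2, h.2.1⟩
    have e : T b a c = T a b c ^ 2 := huni h' (hT h') (by rw [tri_flip h]; exact (hT h).pow 2)
    rintro _ ⟨u, rfl⟩
    refine ⟨T a b c u + u, ?_⟩
    rw [e, pow_two]
    simp [LinearMap.sub_apply, Module.End.mul_apply, map_add]
  let PS : PlaneSys D := {
    U := fun a b c => LinearMap.range (T a b c - 1)
    T := T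
    rel := fun h => (hT h).1
    finrank_eq := fun {a b c} h => by
      obtain ⟨R, rfl, rfl, rfl⟩ := exists_six (r := r) (by omega) h
      exact (block_facts D p hr h3 hn R (hT h) (hT (Dist.of_emb R 3 4 5 (by decide)))).1
    rotate := fun {a b c} h => by
      have h' : Dist b c a := ⟨h.2.1, h.2.2.symm, h.1.symm⟩
      have e : T b c a = T a b c := huni h' (hT h') (by rw [tri_rotate h]; exact hT h)
      simp only [e]
    flip := fun {a b c} h =>
      le_antisymm (hflip_le h) (hflip_le ⟨h.1.symm, h.2.2, h.2.1⟩)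
    equiv := fun {g G} hG {a b c} h v hv => by
      obtain ⟨u, rfl⟩ := hv
      refine ⟨G u, ?_⟩
      have h' : Dist (g a) (g b) (g c) :=
        ⟨g.injective.ne h.1, g.injective.ne h.2.1, g.injective.ne h.2.2⟩
      have e := LinearMap.congr_fun (Canon.conj (D := D) (by omega) Nat.prime_three (by norm_num)
        (good_tri (by omega) h) (hT h) hG (T' := T (g a) (g b) (g c))
        (by rw [conj_tri]; exact hT h')) u
      simp only [Module.End.mul_apply] at e
      simp [e]
    moved := fun {a b c} _ v => ⟨v, by simp⟩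
    fixed := fun R v hv =>
      (block_facts D p hr h3 hn R (hT (Dist.of_emb R 0 1 2 (by decide)))
        (hT (Dist.of_emb R 3 4 5 (by decide)))).2 v hv
    no_fixed := fun {a b c} h v hv hfix => by
      obtain ⟨u, hu⟩ := hv
      exact eq_zero_of_eigen_range (m := 3) (by exact_mod_cast h3) (hT h).2.1 (u := u) (μ := 1)
        (by simpa using hu) (by rw [hfix, one_smul]) }
  exact hcon ((PS.toLineSystem hr).bound p (by omega))

end Cfsg.Agent.AltSection
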