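import Cfsg.Agent.Lib.Transfer.AltSection.Involution

/-!
Weights of disjoint Klein four-groups in characteristic three.
-/

namespace Cfsg.Agent.AltSection

open Equiv Equiv.Perm Module

variable {L : Type*} [Field L] {V : Type*} [AddCommGroup V] [Module L V] {r : ℕ}

/-- The eigenvalues of the three involutions in the weight `c`. -/
def vchi : Option (Fin 3) → Fin 3 → L
  | none, _ => 1
  | some c, a => if a = c then 1 else -1

theorem vchi_complete {μ : Fin 3 → L} (h2 : (2 : L) ≠ 0) (h : ∀ a, μ a * μ a = 1)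
    (h01 : μ 0 * μ 1 = μ 2) : ∃ c, vchi c = μ := by
  have hpm : ∀ a, μ a = 1 ∨ μ a = -1 := fun a => mul_self_eq_one_iff.1 (h a)
  have hne : (1 : L) ≠ -1 := fun e => h2 (by linear_combination e)
  rcases hpm 0 with e0 | e0 <;> rcases hpm 1 with e1 | e1 <;>
    [refine ⟨none, ?_⟩; refine ⟨some 0, ?_⟩; refine ⟨some 1, ?_⟩; refine ⟨some 2, ?_⟩] <;>
    · funext a
      rw [e0, e1] at h01
      fin_cases a <;> simp [vchi, e0, e1, ← h01]

theorem vchi_injective (h2 : (2 : L) ≠ 0) : Function.Injective (vchi (L := L)) := by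
  have hne : (1 : L) ≠ -1 := fun e => h2 (by linear_combination e)
  intro c c' h
  have h0 := congrFun h 0
  have h1 := congrFun h 1
  have h2 := congrFun h 2
  rcases c with _ | c <;> rcases c' with _ | c'
  · rfl
  · fin_cases c' <;> simp [vchi, hne, hne.symm] at h0 h1 h2
  · fin_cases c <;> simp [vchi, hne, hne.symm] at h0 h1 h2
  · fin_cases c <;> fin_cases c' <;> simp [vchi, hne, hne.symm] at h0 h1 h2 ⊢

/-- The standing assumptions in characteristic three. -/
structure Ctx (D : Setup L V r) (p : ℕ) [CharP L p] : Prop where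
  nine : 9 ≤ r
  three : (3 : L) = 0
  dim : finrank L V + 2 + (if p ∣ r then 1 else 0) ≤ r

namespace Ctx

variable {D : Setup L V r} {p : ℕ} [CharP L p]

theorem two_ne (C : Ctx D p) : (2 : L) ≠ 0 := fun h =>
  one_ne_zero (show (1 : L) = 0 by linear_combination C.three - h)

theorem five_ne (C : Ctx D p) : (5 : L) ≠ 0 := fun h =>
  one_ne_zero (show (1 : L) = 0 by linear_combination 2 * C.three - h)

theorem dim_le (C : Ctx D p) : finrank L V + 2 ≤ r := by have := C.dim; omega

theorem cube_eq_one (C : Ctx D p) {μ : L} (h : μ ^ 3 = 1) : μ = 1 := by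
  have e : (μ - 1) ^ 3 = 0 := by linear_combination h + (μ - μ ^ 2) * C.three
  exact sub_eq_zero.1 (pow_eq_zero_iff (by norm_num) |>.1 e)

end Ctx

/-- The chosen triple of a quadruple. -/
noncomputable def Mq (D : Setup L V r) (Q : Fin 4 ↪ Fin r) : Fin 3 → Module.End L V :=
  Classical.epsilon (Triple D Q)

variable [IsAlgClosed L] [FiniteDimensional L V] {D : Setup L V r} {p : ℕ} [CharP L p]

theorem Ctx.triple (C : Ctx D p) (Q : Fin 4 ↪ Fin r) : Triple D Q (Mq D Q) :=
  Classical.epsilon_spec (exists_triple D C.nine C.five_ne C.dim_le Q)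

theorem Ctx.conj (C : Ctx D p) {g G} (hG : D.rel g G) (Q : Fin 4 ↪ Fin r) (a : Fin 3) :
    G * Mq D Q a = Mq D (Q.trans g.toEmbedding) a * G :=
  (C.triple Q).conj (by have := C.nine; omega) hG (C.triple _) a

/-- The weight with one nontrivial block. -/
def vsingle {k : ℕ} (i : Fin k) (c : Fin 3) : Fin k → Option (Fin 3) :=
  Function.update (fun _ => none) i (some c)

section Blocks

variable {k : ℕ} (b : Fin k × Fin 4 ↪ Fin r)

/-- The points of block `i`. -/
def quad (i : Fin k) : Fin 4 ↪ Fin r := (Function.Embedding.sectR i (Fin 4)).trans b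

theorem quad_apply (i : Fin k) (x : Fin 4) : quad b i x = b (i, x) := rfl

theorem quad_ne {i j : Fin k} (h : i ≠ j) (x y : Fin 4) : quad b i x ≠ quad b j y :=
  fun e => h (Prod.ext_iff.1 (b.injective e)).1

/-- The block system of disjoint quadruples. -/
noncomputable def vSys (C : Ctx D p) : BlockSys L V k (Fin 3) (Option (Fin 3)) where
  T i := Mq D (quad b i)
  χ := vchi
  o := none
  chi_o _ := rfl
  chi_inj := vchi_injective C.two_ne
  comm i a j c := by
    rcases eq_or_ne i j with rfl | h
    · exact (C.triple _).commute D C.nine C.five_ne C.dim_le a c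
    · exact commute_off D (by have := C.nine; omega) _ _ (quad_ne b h) a c ((C.triple _).1 a)
        ((C.triple _).1 c)
  m := 2
  m_ne := by simpa using C.two_ne
  pow i a := by rw [pow_two]; exact (C.triple _).2.1 a
  complete i μ v hv h := by
    obtain ⟨-, hsq, h01, -⟩ := C.triple (quad b i)
    refine vchi_complete C.two_ne (fun a => ?_) ?_
    · have e := LinearMap.congr_fun (hsq a) v
      rw [Module.End.mul_apply, h a, map_smul, h a, smul_smul, Module.End.one_apply] at e
      exact smul_left_injective L hv (show (μ a * μ a) • v = (1 : L) • v by rw [e, one_smul])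
    · have e := LinearMap.congr_fun h01 v
      rw [Module.End.mul_apply, h 1, map_smul, h 0, h 2, smul_smul, mul_comm] at e
      exact smul_left_injective L hv e

theorem vSys_T (C : Ctx D p) (i : Fin k) (a : Fin 3) : (vSys b C).T i a = Mq D (quad b i) a := rfl

theorem vSys_o (C : Ctx D p) : (vSys b C).o = none := rfl

/-- The point map of a move of the blocks. -/
def blockPerm (π : Perm (Fin k)) (e : Fin k → Perm (Fin 4)) : Perm (Fin k × Fin 4) where
  toFun p := (π p.1, e p.1 p.2)
  invFun p := (π.symm p.1, (e (π.symm p.1)).symm p.2)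
  left_inv p := Prod.ext (π.symm_apply_apply p.1)
    ((congrArg (fun i => (e i).symm (e p.1 p.2)) (π.symm_apply_apply p.1)).trans
      ((e p.1).symm_apply_apply p.2))
  right_inv p := Prod.ext (π.apply_symm_apply p.1) ((e _).apply_symm_apply p.2)

theorem vSys_move (C : Ctx D p) (π : Perm (Fin k)) (e : Fin k → Perm (Fin 4))
    {g : Perm (Fin r)} (hgs : sign g = 1) (hg : ∀ q, g (b q) = b (blockPerm π e q))
    (w w' : Fin k → Option (Fin 3))
    (hw : ∀ i, match w i with
      | none => w' (π i) = none
      | some c => ∃ c', w' (π i) = some c' ∧ e i * vf c * (e i)⁻¹ = vf c') :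
    finrank L ((vSys b C).W w) ≤ finrank L ((vSys b C).W w') := by
  classical
  have hr : 3 ≤ r := by have := C.nine; omega
  obtain ⟨G, hG⟩ := D.exists_lift g hgs
  have hf : ∀ i a, ∃ a', e i * vf a * (e i)⁻¹ = vf a' := by
    intro i a
    obtain ⟨j, -, c, ⟨e0, e1, e2⟩, -⟩ := vf_reorder (e i)
    fin_cases a
    exacts [⟨_, e0⟩, ⟨_, e1⟩, ⟨_, e2⟩]
  choose f hf using hf
  have finj : ∀ i, Function.Injective (f i) := by
    intro i a a' h
    refine vf_facts.2.2.2.2.2 _ _ ?_
    have e' : e i * vf a * (e i)⁻¹ = e i * vf a' * (e i)⁻¹ := by rw [hf, hf, h]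
    exact mul_left_cancel (mul_right_cancel e')
  refine (vSys b C).finrank_W_le π f (fun i => Finite.injective_iff_surjective.1 (finj i))
    (D.injective hr hG) (fun i a => ?_) w w' (fun i a => ?_)
  · rw [vSys_T, vSys_T, C.conj hG]
    congr 1
    have hq : (quad b i).trans g.toEmbedding = (e i).toEmbedding.trans (quad b (π i)) := by
      ext x
      exact congrArg Fin.val (hg (i, x))
    rw [hq]
    exact (C.triple (quad b (π i))).reorder C.nine C.five_ne C.dim_le (e i) (C.triple _) (hf i a)
  · have h := hw i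
    show vchi (w' (π i)) (f i a) = vchi (w i) a
    rcases hwi : w i with _ | c
    · rw [hwi] at h
      rw [h]; rfl
    · rw [hwi] at h
      obtain ⟨c', hc', hec⟩ := h
      rw [hc']
      obtain rfl : c' = f i c := vf_facts.2.2.2.2.2 _ _ (hec.symm.trans (hf i c))
      simp [vchi, (finj i).eq_iff]

theorem blockPerm_sign_one (i : Fin k) (e : Perm (Fin 4)) :
    sign (blockPerm (1 : Perm (Fin k)) (Function.update 1 i e)) = sign e := by
  rw [← sign_prodExtendRight i e]
  congr 1
  refine Equiv.ext fun q => ?_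
  obtain ⟨j, x⟩ := q
  rcases eq_or_ne j i with rfl | h
  · rw [prodExtendRight_apply_eq]; simp [blockPerm]
  · rw [prodExtendRight_apply_ne _ h]; simp [blockPerm, h]

theorem vSys_sym (C : Ctx D p) (hk : 1 ≤ k) (w w' : Fin k → Option (Fin 3))
    (h : ((vSys b C).supp w).card = ((vSys b C).supp w').card) :
    finrank L ((vSys b C).W w) ≤ finrank L ((vSys b C).W w') := by
  classical
  let ee : {i // i ∈ (vSys b C).supp w} ≃ {i // i ∈ (vSys b C).supp w'} :=
    Finset.equivOfCardEq h
  set π : Perm (Fin k) := ee.extendSubtype with hπ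
  have hmem : ∀ i, π i ∈ (vSys b C).supp w' ↔ i ∈ (vSys b C).supp w := fun i => by
    refine ⟨fun hi => ?_, fun hi => ee.extendSubtype_mem i hi⟩
    by_contra hn
    exact ee.extendSubtype_not_mem i hn hi
  have hsupp : ∀ (v : Fin k → Option (Fin 3)) i, i ∈ (vSys b C).supp v ↔ v i ≠ none := fun v i => by
    unfold BlockSys.supp
    exact ⟨fun h => (Finset.mem_filter.1 h).2, fun h => Finset.mem_filter.2 ⟨Finset.mem_univ _, h⟩⟩
  have he : ∀ i, ∃ e : Perm (Fin 4), match w i with
      | none => w' (π i) = none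
      | some c => ∃ c', w' (π i) = some c' ∧ e * vf c * e⁻¹ = vf c' := by
    intro i
    rcases hwi : w i with _ | c
    · refine ⟨1, ?_⟩
      show w' (π i) = none
      by_contra hn
      exact (hsupp w i).1 ((hmem i).1 ((hsupp w' _).2 hn)) hwi
    · rcases hw' : w' (π i) with _ | c'
      · exact absurd hw' ((hsupp w' _).1 ((hmem i).2 ((hsupp w i).2 (by rw [hwi]; simp))))
      · obtain ⟨e, he⟩ := vf_move c c'
        exact ⟨e, c', rfl, he⟩
  choose e he using he
  set g : Perm (Fin r) := (blockPerm π e).viaEmbedding b with hg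
  have hgb : ∀ q, g (b q) = b (blockPerm π e q) := fun q => viaEmbedding_apply _ _ q
  rcases Int.units_eq_one_or (sign g) with h1 | h1
  · exact vSys_move b C π e h1 hgb w w' he
  let i₀ : Fin k := ⟨0, hk⟩
  obtain ⟨t, ht, htw⟩ : ∃ t : Perm (Fin 4), sign t = -1 ∧
      ∀ c, w i₀ = some c → t * vf c * t⁻¹ = vf c := by
    rcases w i₀ with _ | c
    · exact ⟨swap 0 1, sign_swap (by decide), fun c h => by cases h⟩
    · obtain ⟨t, ht, htc⟩ := vf_odd_fix c
      exact ⟨t, ht, fun c' h => by cases h; exact htc⟩
  refine vSys_move b C π (Function.update e i₀ (e i₀ * t))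
    (g := g * (blockPerm 1 (Function.update 1 i₀ t)).viaEmbedding b) ?_ (fun q => ?_) w w' ?_
  · rw [map_mul, h1]
    have : sign ((blockPerm (1 : Perm (Fin k)) (Function.update 1 i₀ t)).viaEmbedding b) = -1 := by
      unfold viaEmbedding
      rw [← ht, ← blockPerm_sign_one i₀ t]
      convert sign_extendDomain _ _
    rw [this]; decide
  · rw [Perm.mul_apply, viaEmbedding_apply, hgb]
    obtain ⟨i, x⟩ := q
    refine congrArg b ?_
    rcases eq_or_ne i i₀ with rfl | h
    · simp [blockPerm]
    · simp [blockPerm, h]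
  · intro i
    have h := he i
    rcases hwi : w i with _ | c
    · rw [hwi] at h; exact h
    · rw [hwi] at h
      obtain ⟨c', hc', hec⟩ := h
      refine ⟨c', hc', ?_⟩
      rcases eq_or_ne i i₀ with rfl | hi
      · rw [Function.update_self, ← hec]
        conv_rhs => rw [← htw c hwi]
        group
      · rw [Function.update_of_ne hi, hec]

end Blocks

theorem vSys_count (C : Ctx D p) {k : ℕ} (hk : 1 ≤ k) (b : Fin k × Fin 4 ↪ Fin r)
    (w : Fin k → Option (Fin 3)) :
    k.choose ((vSys b C).supp w).card * 3 ^ ((vSys b C).supp w).card *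
      finrank L ((vSys b C).W w) ≤ finrank L V := by
  have h := (vSys b C).weight_count (fun w w' h =>
    le_antisymm (vSys_sym b C hk w w' h) (vSys_sym b C hk w' w h.symm)) w
  simpa [Fintype.card_option] using h

theorem commute_tri_quad (C : Ctx D p) (Q : Fin 4 ↪ Fin r) {a b c : Fin r} (h : Dist a b c)
    (ha : a ∉ Set.range Q) (hb : b ∉ Set.range Q) (hc : c ∉ Set.range Q) {X : Module.End L V}
    (hX : D.rel (tri a b c) X) (x : Fin 3) : Mq D Q x * X = X * Mq D Q x := by
  refine commute_involution_tri D (by have := C.nine; omega) ?_ ?_ ?_ ((C.triple Q).1 x) hX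
  · rw [← map_mul, (vf_facts.1 x).2.1, map_one]
  · rw [← (isThreeCycle_tri h).orderOf, pow_orderOf_eq_one]
  · refine (Perm.Disjoint.commute fun y => ?_).eq
    by_cases hy : y ∈ Set.range Q
    · exact Or.inr (tri_other (fun e => ha (e ▸ hy)) (fun e => hb (e ▸ hy)) (fun e => hc (e ▸ hy)))
    · exact Or.inl (via_support Q _ hy)

/-- No weight moves two blocks. -/
theorem vSys_no_big (C : Ctx D p) (b : Fin (r / 4) × Fin 4 ↪ Fin r)
    (w : Fin (r / 4) → Option (Fin 3)) (hw : 2 ≤ ((vSys b C).supp w).card) :
    (vSys b C).W w = ⊥ := by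
  classical
  have hr := C.nine
  have hn := C.dim_le
  set S := vSys b C with hS
  have hpos : ∀ v, S.W v ≠ ⊥ → 0 < finrank L (S.W v) := fun v h =>
    Nat.pos_of_ne_zero (by rwa [Ne, Submodule.finrank_eq_zero])
  by_contra hne
  have h1 : (r / 4).choose (S.supp w).card * 3 ^ (S.supp w).card ≤ finrank L V :=
    le_trans (Nat.le_mul_of_pos_right _ (hpos w hne)) (vSys_count C (by omega) b w)
  have hjk : (S.supp w).card ≤ r / 4 := (Finset.card_le_univ _).trans (by simp)
  have hfull : (S.supp w).card = r / 4 ∧ r / 4 = 2 := by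
    rcases eq_or_lt_of_le hjk with he | hlt
    · refine ⟨he, ?_⟩
      rw [he, Nat.choose_self, one_mul] at h1
      by_contra hk2
      have h4 : 4 * (r / 4) + 1 < 3 ^ (r / 4) := by
        have : 3 ≤ r / 4 := by omega
        generalize r / 4 = j at this
        induction j, this using Nat.le_induction with
        | base => norm_num
        | succ j hj ih => rw [pow_succ]; omega
      omega
    · exfalso
      have h4 : (3 : ℕ) ^ 2 ≤ 3 ^ (S.supp w).card := Nat.pow_le_pow_right (by norm_num) hw
      have h5 := Nat.mul_le_mul (le_choose (by omega : 1 ≤ (S.supp w).card) hlt) h4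
      omega
  obtain ⟨hfull, hk2⟩ := hfull
  rw [hfull, Nat.choose_self, one_mul, show (3 : ℕ) ^ (r / 4) = 9 by rw [hk2]; rfl] at h1
  -- nine lines fill the space
  set s := Finset.univ.filter (fun v : Fin (r / 4) → Option (Fin 3) => (S.supp v).card = r / 4)
    with hs
  have hscard : s.card = 9 := by
    rw [hs, S.card_supp_eq, Nat.choose_self, one_mul, Fintype.card_option, Fintype.card_fin,
      show (3 + 1 - 1 : ℕ) ^ (r / 4) = 9 by rw [hk2]; rfl]
  have hs1 : ∀ v ∈ s, 1 ≤ finrank L (S.W v) := fun v hv => by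
    have e : (S.supp v).card = (S.supp w).card := (Finset.mem_filter.1 hv).2.trans hfull.symm
    have := le_antisymm (vSys_sym b C (by omega) w v e.symm) (vSys_sym b C (by omega) v w e)
    rw [← this]; exact hpos w hne
  have hone : ∀ v, S.W v ≠ ⊥ → finrank L (S.W v) = 1 := by
    intro v hv
    have hsum := S.sum_le (insert v s)
    by_cases hvs : v ∈ s
    · rw [Finset.insert_eq_of_mem hvs, ← Finset.add_sum_erase _ _ hvs] at hsum
      have h9 := Finset.card_nsmul_le_sum (s.erase v) (fun v => finrank L (S.W v)) 1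
        fun u hu => hs1 u (Finset.mem_of_mem_erase hu)
      rw [Finset.card_erase_of_mem hvs, hscard, smul_eq_mul, mul_one] at h9
      have := hs1 v hvs
      omega
    · rw [Finset.sum_insert hvs] at hsum
      have h9 := Finset.card_nsmul_le_sum s (fun v => finrank L (S.W v)) 1 hs1
      rw [hscard, smul_eq_mul, mul_one] at h9
      have := hpos v hv
      omega
  -- a three-cycle off both blocks
  have hc3 : 3 ≤ Fintype.card {x // x ∉ Finset.univ.map b} := by
    have : r = 11 := by omega
    rw [Fintype.card_subtype_compl, Fintype.card_coe, Finset.card_map, Finset.card_univ,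
      Fintype.card_prod, Fintype.card_fin, Fintype.card_fin, Fintype.card_fin]
    omega
  obtain ⟨P⟩ : Nonempty (Fin 3 ↪ {x // x ∉ Finset.univ.map b}) :=
    Function.Embedding.nonempty_of_card_le (by simpa using hc3)
  let P' : Fin 3 ↪ Fin r := P.trans (Function.Embedding.subtype _)
  have hd := Dist.of_emb P' 0 1 2 (by decide)
  obtain ⟨X, hX, hX3, -⟩ := exists_canon D (by omega) (by decide : Odd 3) (good_tri (by omega) hd)
  have hcomm : ∀ i a, S.T i a * X = X * S.T i a := fun i a => by
    have hoff : ∀ x, (P' x) ∉ Set.range (quad b i) := by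
      rintro x ⟨y, hy⟩
      exact (P x).2 (Finset.mem_map.2 ⟨(i, y), Finset.mem_univ _, hy⟩)
    exact commute_tri_quad C _ hd (hoff 0) (hoff 1) (hoff 2) hX a
  have hle : ∀ v, S.W v ≤ Module.End.eigenspace X 1 := by
    intro v u hu
    rcases eq_or_ne u 0 with rfl | hu0
    · exact zero_mem _
    have hv : S.W v ≠ ⊥ := fun h => hu0 (by rw [h] at hu; exact (Submodule.mem_bot L).1 hu)
    have hXu : X u ∈ S.W v := S.mem_W.2 fun i a => by
      rw [← Module.End.mul_apply, hcomm i a, Module.End.mul_apply, S.mem_W.1 hu i a, map_smul]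
    obtain ⟨μ, hμ⟩ := exists_smul_eq_of_finrank_eq_one (hone v hv) (x := ⟨u, hu⟩)
      (fun h => hu0 (Subtype.ext_iff.1 h)) ⟨X u, hXu⟩
    have hμ' : X u = μ • u := (congrArg Subtype.val hμ).symm
    have h3 : μ ^ 3 = 1 := by
      refine smul_left_injective L hu0 (show μ ^ 3 • u = (1 : L) • u from ?_)
      conv_rhs => rw [one_smul, ← Module.End.one_apply (R := L) u, ← hX3]
      simp [pow_succ, Module.End.mul_apply, hμ', map_smul, smul_smul, mul_assoc]
    rw [Module.End.mem_eigenspace_iff, hμ', C.cube_eq_one h3]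
  have hX1 : X = 1 := by
    ext u
    have hu := ((S.stable_le_iSup ⊤ S.stable_top).trans
      (iSup_le fun v => inf_le_right.trans (hle v))) (Submodule.mem_top (x := u))
    rw [Module.End.mem_eigenspace_iff, one_smul] at hu
    rw [hu, Module.End.one_apply]
  have h1' := D.faithful (μ := 1) (σ := tri (P' 0) (P' 1) (P' 2)) (by rw [one_smul, ← hX1]; exact hX)
  exact (isThreeCycle_tri hd).ne_one h1'

/-- Every weight of size one is a line. -/
theorem vSys_single (C : Ctx D p) (b : Fin (r / 4) × Fin 4 ↪ Fin r) (i : Fin (r / 4))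
    (c : Fin 3) : finrank L ((vSys b C).W (vsingle i c)) = 1 := by
  classical
  have hr := C.nine
  have hn := C.dim_le
  set S := vSys b C with hS
  have hcard : ∀ (l : Fin (r / 4)) (z : Fin 3),
      (S.supp (vsingle l z)).card = 1 := by
    intro l z
    rw [show S.supp (vsingle l z) = {l} by
      ext j
      rcases eq_or_ne j l with rfl | h
      · simp [BlockSys.supp, hS, vSys_o, vsingle]
      · simp [BlockSys.supp, hS, vSys_o, vsingle, h]]
    simp
  have hpos : 0 < finrank L (S.W (vsingle i c)) := by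
    have hT : S.T i 0 ≠ 1 := by
      intro h
      have h' := D.faithful (μ := 1) (σ := viaEmbeddingHom (quad b i) (vf 0))
        (by rw [one_smul, ← h]; exact (C.triple _).1 0)
      refine (vf_facts.1 0).2.2.2 (viaEmbeddingHom_injective (quad b i) ?_)
      rw [h', map_one]
    obtain ⟨w, hwi, hw⟩ := S.exists_weight hT
    have h1 : (S.supp w).card = 1 := by
      have h0 : i ∈ S.supp w := by simpa [BlockSys.supp] using hwi
      have := Finset.card_pos.2 ⟨i, h0⟩
      by_contra hne
      exact hw (vSys_no_big C b w (by rw [← hS]; omega))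
    have := vSys_sym b C (by omega) w (vsingle i c) (by rw [h1, hcard i c])
    have h2 : 0 < finrank L (S.W w) := Nat.pos_of_ne_zero (by rwa [Ne, Submodule.finrank_eq_zero])
    rw [← hS] at this
    omega
  have h := vSys_count C (by omega) b (vsingle i c)
  rw [← hS, hcard i c, Nat.choose_one_right, pow_one] at h
  by_contra hne
  have : r / 4 * 3 * 2 ≤ r / 4 * 3 * finrank L (S.W (vsingle i c)) :=
    Nat.mul_le_mul_left _ (by omega)
  omega

end Cfsg.Agent.AltSection
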